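import Mathlib.CategoryTheory.Monoidal.Rigid.Braided
import Mathlib.CategoryTheory.Monoidal.Braided.Basic
import Mathlib.CategoryTheory.Adjunction.Basic
import Mathlib.Tactic.CategoryTheory.Monoidal.Basic
import Mathlib.CategoryTheory.Yoneda

/-! # Evaluation maps of a closed symmetric monoidal category at dualizable objects

The internal hom is given by adjunctions `- ⊗ L ⊣ R L`.
-/

set_option autoImplicit false
universe v u

open CategoryTheory MonoidalCategory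

namespace GrothLib.DT.Closed

variable {C : Type u} [Category.{v} C] [MonoidalCategory C]
  {R : C → C ⥤ C} (adj : ∀ L, tensorRight L ⊣ R L)

/-- Currying. -/
abbrev cur (X L M : C) : (X ⊗ L ⟶ M) ≃ (X ⟶ (R L).obj M) := (adj L).homEquiv X M

/-- Evaluation. -/
abbrev ev (L M : C) : (R L).obj M ⊗ L ⟶ M := (adj L).counit.app M

theorem cur_symm {X L M : C} (g : X ⟶ (R L).obj M) : (cur adj X L M).symm g = g ▷ L ≫ ev adj L M :=
  Adjunction.homEquiv_counit (adj L) X M g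

theorem cur_ev {X L M : C} (f : X ⊗ L ⟶ M) : (cur adj X L M f) ▷ L ≫ ev adj L M = f := by
  rw [← cur_symm]
  exact (cur adj X L M).symm_apply_apply f

theorem comp_cur_ev {T X L M : C} (g : T ⟶ X) (f : X ⊗ L ⟶ M) :
    (g ≫ cur adj X L M f) ▷ L ≫ ev adj L M = g ▷ L ≫ f := by
  rw [comp_whiskerRight, Category.assoc, cur_ev]

theorem isIso_of_bijective_uncurry {X L M : C} (f : X ⊗ L ⟶ M)
    (h : ∀ T : C, Function.Bijective fun g : T ⟶ X => g ▷ L ≫ f) : IsIso (cur adj X L M f) := by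
  refine isIso_of_yoneda_map_bijective _ fun T => ?_
  have : (fun g : T ⟶ X => g ≫ cur adj X L M f) = (cur adj T L M) ∘ fun g : T ⟶ X => g ▷ L ≫ f := by
    funext g
    exact ((adj L).homEquiv_naturality_left g f).symm
  exact this ▸ (cur adj T L M).bijective.comp (h T)

/-- `L ⊗ D ⟶ R K L` for `D` dual to `K`. -/
abbrev toHom (K D L : C) [ExactPairing K D] : L ⊗ D ⟶ (R K).obj L :=
  cur adj (L ⊗ D) K L ((α_ L D K).hom ≫ L ◁ ε_ K D ≫ (ρ_ L).hom)

theorem isIso_toHom (K D L : C) [ExactPairing K D] : IsIso (toHom adj K D L) :=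
  isIso_of_bijective_uncurry adj _ fun T => by
    simpa [tensorRightHomEquiv] using (tensorRightHomEquiv T K D L).symm.bijective

/-- The evaluation map `K ⊗ R M L ⟶ R M (K ⊗ L)`. -/
abbrev evalTen (K L M : C) : K ⊗ (R M).obj L ⟶ (R M).obj (K ⊗ L) :=
  cur adj (K ⊗ (R M).obj L) M (K ⊗ L) ((α_ K ((R M).obj L) M).hom ≫ K ◁ ev adj M L)

theorem isIso_evalTen_of_dual_source (K L M D : C) [ExactPairing M D] : IsIso (evalTen adj K L M) := by
  have hi := isIso_toHom adj M D L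
  have hj := isIso_toHom adj M D (K ⊗ L)
  have key : K ◁ toHom adj M D L ≫ evalTen adj K L M = (α_ K L D).inv ≫ toHom adj M D (K ⊗ L) := by
    apply ((adj M).homEquiv _ _).symm.injective
    rw [cur_symm adj, cur_symm adj]
    simp only [comp_whiskerRight, Category.assoc, cur_ev]
    rw [associator_naturality_middle_assoc, ← whiskerLeft_comp, cur_ev]
    monoidal
  have h : IsIso (K ◁ toHom adj M D L ≫ evalTen adj K L M) := key ▸ inferInstance
  exact IsIso.of_isIso_comp_left (K ◁ toHom adj M D L) _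

theorem isIso_evalTen_of_dual_left (K L M D : C) [ExactPairing K D] : IsIso (evalTen adj K L M) :=
  isIso_of_bijective_uncurry adj _ fun X => by
    let H := (R M).obj L
    let e : (X ⟶ K ⊗ H) ≃ (X ⊗ M ⟶ K ⊗ L) :=
      (tensorLeftHomEquiv X K D H).symm.trans <| (cur adj (D ⊗ X) M L).symm.trans <|
        ((α_ D X M).homCongr (Iso.refl L)).trans (tensorLeftHomEquiv (X ⊗ M) K D L)
    have hF : (fun g : X ⟶ K ⊗ H => g ▷ M ≫ (α_ K H M).hom ≫ K ◁ ev adj M L) = e := by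
      funext g
      refine (tensorLeftHomEquiv (X ⊗ M) K D L).symm.injective ?_
      simp only [e, Equiv.trans_apply, Equiv.symm_apply_apply, cur_symm, Iso.homCongr_apply]
      simp only [tensorLeftHomEquiv, Equiv.coe_fn_symm_mk, Iso.refl_hom, Category.comp_id]
      calc D ◁ (g ▷ M ≫ (α_ K H M).hom ≫ K ◁ ev adj M L) ≫ (α_ D K L).inv ≫ ε_ K D ▷ L ≫ (λ_ L).hom
          = D ◁ g ▷ M ⊗≫ ((D ⊗ K) ◁ ev adj M L ≫ ε_ K D ▷ L) ⊗≫ 𝟙 L := by monoidal
        _ = D ◁ g ▷ M ⊗≫ (ε_ K D ▷ (H ⊗ M) ≫ 𝟙_ C ◁ ev adj M L) ⊗≫ 𝟙 L := by rw [whisker_exchange]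
        _ = (α_ D X M).inv ≫ (D ◁ g ≫ (α_ D K H).inv ≫ ε_ K D ▷ H ≫ (λ_ H).hom) ▷ M ≫ ev adj M L := by
          monoidal
    exact hF ▸ e.bijective

/-- The curry map. -/
abbrev curryHom (K L M : C) : (R (K ⊗ L)).obj M ⟶ (R K).obj ((R L).obj M) :=
  cur adj _ K _ (cur adj _ L _ ((α_ ((R (K ⊗ L)).obj M) K L).hom ≫ ev adj (K ⊗ L) M))

theorem isIso_curryHom (K L M : C) : IsIso (curryHom adj K L M) := by
  refine isIso_of_yoneda_map_bijective _ fun X => ?_
  let e : (X ⟶ (R (K ⊗ L)).obj M) ≃ (X ⟶ (R K).obj ((R L).obj M)) :=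
    (cur adj X (K ⊗ L) M).symm.trans <| ((α_ X K L).symm.homCongr (Iso.refl M)).trans <|
      (cur adj (X ⊗ K) L M).trans (cur adj X K _)
  have h : (fun g : X ⟶ (R (K ⊗ L)).obj M => g ≫ curryHom adj K L M) = e := by
    funext g
    simp only [e, Equiv.trans_apply, cur_symm, Iso.homCongr_apply, Iso.symm_inv, Iso.refl_hom, Category.comp_id]
    refine (cur adj X K _).symm.injective ((cur adj (X ⊗ K) L M).symm.injective ?_)
    rw [Equiv.symm_apply_apply, Equiv.symm_apply_apply, cur_symm adj (g ≫ _), comp_cur_ev, cur_symm adj,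
      comp_cur_ev, associator_naturality_left_assoc]
  exact h ▸ e.bijective

section Braided

variable [SymmetricCategory C]

/-- The evaluation map `R L M ⊗ K ⟶ R (R K L) M`. -/
abbrev evalHom (K L M : C) : (R L).obj M ⊗ K ⟶ (R ((R K).obj L)).obj M :=
  cur adj _ ((R K).obj L) M ((α_ ((R L).obj M) K ((R K).obj L)).hom ≫
    (R L).obj M ◁ ((β_ K ((R K).obj L)).hom ≫ ev adj K L) ≫ ev adj L M)

theorem braid_eval (K L D : C) [ExactPairing K D] :
    K ◁ (β_ D L).hom ≫ (β_ K (L ⊗ D)).hom ≫ (α_ L D K).hom ≫ L ◁ ε_ K D ≫ (ρ_ L).hom =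
      (α_ K D L).inv ≫ ((β_ K D).hom ≫ ε_ K D) ▷ L ≫ (λ_ L).hom := by
  have h1 := BraidedCategory.hexagon_forward K L D
  have h2 : (β_ K (L ⊗ D)).hom ≫ (α_ L D K).hom =
      (α_ K L D).inv ≫ (β_ K L).hom ▷ D ≫ (α_ L K D).hom ≫ L ◁ (β_ K D).hom := by
    rw [← h1, Iso.inv_hom_id_assoc]
  have h3 : L ◁ ((β_ K D).hom ≫ ε_ K D) ≫ (ρ_ L).hom =
      (β_ L (K ⊗ D)).hom ≫ ((β_ K D).hom ≫ ε_ K D) ▷ L ≫ (λ_ L).hom := by
    rw [← BraidedCategory.braiding_naturality_right_assoc, braiding_leftUnitor]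
  have h4 := BraidedCategory.hexagon_forward L K D
  have h5 : (β_ L (K ⊗ D)).hom =
      (α_ L K D).inv ≫ (β_ L K).hom ▷ D ≫ (α_ K L D).hom ≫ K ◁ (β_ L D).hom ≫ (α_ K D L).inv := by
    rw [← cancel_mono (α_ K D L).hom]
    simp only [Category.assoc, Iso.inv_hom_id, Category.comp_id]
    rw [← h4, Iso.inv_hom_id_assoc]
  rw [reassoc_of% h2, ← whiskerLeft_comp_assoc, h3, h5]
  simp only [Category.assoc]
  rw [Iso.hom_inv_id_assoc, ← comp_whiskerRight_assoc, SymmetricCategory.symmetry, id_whiskerRight,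
    Category.id_comp, Iso.inv_hom_id_assoc, ← whiskerLeft_comp_assoc, SymmetricCategory.symmetry,
    whiskerLeft_id, Category.id_comp]

theorem isIso_evalHom_of_dual (K L M D : C) [ExactPairing K D] : IsIso (evalHom adj K L M) :=
  isIso_of_bijective_uncurry adj _ fun X => by
    let H := (R L).obj M
    let N := (R K).obj L
    let : ExactPairing D K := BraidedCategory.exactPairing_swap K D
    have := isIso_toHom adj K D L
    let P : D ⊗ L ≅ N := β_ D L ≪≫ asIso (toHom adj K D L)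
    let j : X ⊗ N ≅ (X ⊗ D) ⊗ L := whiskerLeftIso X P.symm ≪≫ (α_ X D L).symm
    let e : (X ⟶ H ⊗ K) ≃ (X ⊗ N ⟶ M) :=
      (tensorRightHomEquiv X D K H).symm.trans <| (cur adj (X ⊗ D) L M).symm.trans
        (j.symm.homCongr (Iso.refl M))
    have core : K ◁ P.hom ≫ (β_ K N).hom ≫ ev adj K L =
        (α_ K D L).inv ≫ ((β_ K D).hom ≫ ε_ K D) ▷ L ≫ (λ_ L).hom := by
      simp only [P, N, Iso.trans_hom, asIso_hom, whiskerLeft_comp, Category.assoc]
      rw [BraidedCategory.braiding_naturality_right_assoc, cur_ev, braid_eval]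
    have hF : (fun g : X ⟶ H ⊗ K => g ▷ N ≫ (α_ H K N).hom ≫ H ◁ ((β_ K N).hom ≫ ev adj K L) ≫ ev adj L M) = e := by
      funext g
      rw [← cancel_epi j.inv]
      simp only [e, Equiv.trans_apply, cur_symm, Iso.homCongr_apply, Iso.symm_inv, Iso.refl_hom,
        Category.comp_id, Iso.inv_hom_id_assoc]
      simp only [tensorRightHomEquiv, Equiv.coe_fn_symm_mk]
      calc j.inv ≫ g ▷ N ≫ (α_ H K N).hom ≫ H ◁ ((β_ K N).hom ≫ ev adj K L) ≫ ev adj L M
          = (α_ X D L).hom ≫ (X ◁ P.hom ≫ g ▷ N) ≫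
              (α_ H K N).hom ≫ H ◁ ((β_ K N).hom ≫ ev adj K L) ≫ ev adj L M := by
            simp [j]
        _ = (α_ X D L).hom ≫ (g ▷ (D ⊗ L) ≫ (H ⊗ K) ◁ P.hom) ≫
              (α_ H K N).hom ≫ H ◁ ((β_ K N).hom ≫ ev adj K L) ≫ ev adj L M := by rw [whisker_exchange]
        _ = (α_ X D L).hom ≫ g ▷ (D ⊗ L) ≫ (α_ H K (D ⊗ L)).hom ≫
              H ◁ (K ◁ P.hom ≫ (β_ K N).hom ≫ ev adj K L) ≫ ev adj L M := by
            simp only [whiskerLeft_comp, Category.assoc, associator_naturality_right_assoc]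
        _ = (g ▷ D ≫ (α_ H K D).hom ≫ H ◁ ε_ D K ≫ (ρ_ H).hom) ▷ L ≫ ev adj L M := by
            rw [core, show ε_ D K = (β_ K D).hom ≫ ε_ K D from rfl]
            monoidal
    exact hF ▸ e.bijective

end Braided

end GrothLib.DT.Closed
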