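import Groth.Agent.Lib.DTen.CxSymm
import Groth.Agent.Lib.DCxRHom.Dual
import Mathlib.CategoryTheory.Monoidal.Rigid.Basic
import Mathlib.LinearAlgebra.StdBasis
import Mathlib.Algebra.Module.Projective

/-! # A bounded complex of finite projective modules has a dual for the tensor product of complexes -/

set_option autoImplicit false
set_option maxHeartbeats 800000
universe u
open CategoryTheory CategoryTheory.Limits MonoidalCategory HomologicalComplex CochainComplex.HomComplex GrothLib.RH
open scoped TensorProduct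
attribute [local instance] HasDerivedCategory.standard

namespace GrothLib.DT.Cx

variable {A : Type u} [CommRing A] {P : DRing.Cx A} (hP : DRing.TermwiseFiniteProjective P)

/-- A finite projective module has a finite dual basis. -/
theorem exists_dualBasis (M : Type u) [AddCommGroup M] [Module A M] [Module.Finite A M] [Module.Projective A M] :
    ∃ (k : ℕ) (e : Fin k → M) (f : Fin k → Module.Dual A M), ∀ x, ∑ i, f i x • e i = x := by
  obtain ⟨k, p, hp⟩ := Module.Finite.exists_fin' A M
  obtain ⟨s, hs⟩ := p.exists_rightInverse_of_surjective (LinearMap.range_eq_top.2 hp)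
  refine ⟨k, fun i => p (Pi.single i 1), fun i => (LinearMap.proj i).comp s, fun x => ?_⟩
  have h : ∑ i, s x i • (Pi.single i (1 : A) : Fin k → A) = s x := by
    ext j
    simp [Finset.sum_apply, Pi.single_apply]
  calc ∑ i, s x i • p (Pi.single i 1) = p (∑ i, s x i • (Pi.single i (1 : A) : Fin k → A)) := by
        simp only [map_sum, map_smul]
    _ = x := by
        rw [h]
        exact LinearMap.congr_fun hs x

/-- Size of a dual basis. -/
noncomputable def dk (n : ℤ) : ℕ :=
  have := (hP n).1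
  have := (hP n).2
  (exists_dualBasis (A := A) (P.X n)).choose

/-- The vectors of a dual basis. -/
noncomputable def de (n : ℤ) : Fin (dk hP n) → P.X n :=
  have := (hP n).1
  have := (hP n).2
  (exists_dualBasis (A := A) (P.X n)).choose_spec.choose

/-- The functionals of a dual basis. -/
noncomputable def df (n : ℤ) : Fin (dk hP n) → Module.Dual A (P.X n) :=
  have := (hP n).1
  have := (hP n).2
  (exists_dualBasis (A := A) (P.X n)).choose_spec.choose_spec.choose

theorem sum_df_de (n : ℤ) (x : P.X n) : ∑ i, df hP n i x • de hP n i = x :=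
  have := (hP n).1
  have := (hP n).2
  (exists_dualBasis (A := A) (P.X n)).choose_spec.choose_spec.choose_spec x

variable (P) in
/-- The dual complex. -/
noncomputable abbrev D : DRing.Cx A := DRing.homCx P (oneCx A)

variable (P) in
/-- Functionals as elements of the dual complex. -/
noncomputable def hatE (n m : ℤ) (h : n + m = 0) : Module.Dual A (P.X n) ≃ₗ[A] (D P).X m :=
  (dualEquiv P h).symm

variable (P) in
/-- A functional as an element of the dual complex. -/
noncomputable abbrev hat (n m : ℤ) (h : n + m = 0) (g : Module.Dual A (P.X n)) : (D P).X m :=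
  hatE P n m h g

theorem hat_v (n m : ℤ) (h : n + m = 0) (g : Module.Dual A (P.X n)) (x : P.X n) :
    scal ((hat P n m h g).v n 0 h x) = g x :=
  LinearMap.congr_fun ((dualEquiv P h).apply_symm_apply g) x

theorem dual_ext (n m : ℤ) (h : n + m = 0) {z z' : (D P).X m}
    (hz : ∀ x : P.X n, scal (z.v n 0 h x) = scal (z'.v n 0 h x)) : z = z' :=
  (dualEquiv P h).injective (LinearMap.ext hz)

theorem d_hat (n : ℤ) (g : Module.Dual A (P.X (n + 1))) :
    (D P).d (-(n + 1)) (-n) (hat P (n + 1) (-(n + 1)) (by omega) g) =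
      ((-n).negOnePow : ℤ) • hat P n (-n) (by omega) (g.comp (P.d n (n + 1)).hom) := by
  have hd : (D P).d (-(n + 1)) (-n) (hat P (n + 1) (-(n + 1)) (by omega) g) =
      δ (-(n + 1)) (-n) (hat P (n + 1) (-(n + 1)) (by omega) g) := rfl
  refine dual_ext n (-n) (by omega) fun x => ?_
  have h0 : ∀ z : Cochain P (oneCx A) (-(n + 1)), (δ (-(n + 1)) (-n) z).v n 0 (by omega) x =
      ((-n).negOnePow : ℤ) • z.v (n + 1) 0 (by omega) (P.d n (n + 1) x) := fun z => by
    rw [δ_v (-(n + 1)) (-n) (by omega) z n 0 (by omega) (-1) (n + 1) (by omega) rfl,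
      HomologicalComplex.single_obj_d, comp_zero, zero_add]
    rfl
  rw [hd]
  refine (congrArg scal (h0 _)).trans ?_
  rw [map_zsmul]
  refine Eq.trans ?_ ((map_zsmul scal _ _).trans (congrArg (_ • ·) (hat_v n (-n) (by omega) _ x))).symm
  exact congrArg (_ • ·) (hat_v (n + 1) _ _ g _)

/-- The degree `n` part of the coevaluation. -/
noncomputable def T (n : ℤ) : (tens P (D P)).X 0 :=
  ∑ i, ιT P (D P) n (-n) 0 (by omega) (de hP n i ⊗ₜ hat P n (-n) (by omega) (df hP n i))

/-- The boundary between consecutive parts. -/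
noncomputable def S (n : ℤ) : (tens P (D P)).X 1 :=
  ∑ i, ιT P (D P) (n + 1) (-n) 1 (by omega) (P.d n (n + 1) (de hP n i) ⊗ₜ hat P n (-n) (by omega) (df hP n i))

theorem S_eq (n : ℤ) : S hP n = ∑ j, ιT P (D P) (n + 1) (-n) 1 (by omega)
    (de hP (n + 1) j ⊗ₜ hat P n (-n) (by omega) ((df hP (n + 1) j).comp (P.d n (n + 1)).hom)) := by
  unfold S
  let B : P.X (n + 1) →ₗ[A] (D P).X (-n) →ₗ[A] (tens P (D P)).X 1 :=
    (TensorProduct.mk A (P.X (n + 1)) ((D P).X (-n))).compr₂ (ιT P (D P) (n + 1) (-n) 1 (by omega)).hom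
  change ∑ i, B (P.d n (n + 1) (de hP n i)) (hat P n (-n) (by omega) (df hP n i)) =
    ∑ j, B (de hP (n + 1) j) (hat P n (-n) (by omega) ((df hP (n + 1) j).comp (P.d n (n + 1)).hom))
  calc ∑ i, B (P.d n (n + 1) (de hP n i)) (hat P n (-n) (by omega) (df hP n i))
      = ∑ i, ∑ j, df hP (n + 1) j (P.d n (n + 1) (de hP n i)) •
          B (de hP (n + 1) j) (hat P n (-n) (by omega) (df hP n i)) := by
        refine Finset.sum_congr rfl fun i _ => ?_
        conv_lhs => rw [← sum_df_de hP (n + 1) (P.d n (n + 1) (de hP n i))]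
        simp only [map_sum, map_smul, LinearMap.sum_apply, LinearMap.smul_apply]
    _ = _ := by
        rw [Finset.sum_comm]
        refine Finset.sum_congr rfl fun j _ => ?_
        simp only [← map_smul, ← map_sum]
        refine congrArg (B (de hP (n + 1) j)) ((hatE P n (-n) (show n + -n = 0 by omega)).symm.injective ?_)
        simp only [map_sum, map_smul, LinearEquiv.symm_apply_apply]
        refine LinearMap.ext fun x => ?_
        rw [LinearMap.comp_apply]
        conv_rhs => rw [← sum_df_de hP n x]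
        simp only [LinearMap.sum_apply, LinearMap.smul_apply, map_sum, map_smul, smul_eq_mul, mul_comm]

theorem d_T (n : ℤ) : (tens P (D P)).d 0 1 (T hP (n + 1)) = S hP (n + 1) - S hP n := by
  unfold T
  rw [map_sum]
  have h : ∀ i, (tens P (D P)).d 0 1 (ιT P (D P) (n + 1) (-(n + 1)) 0 (by omega)
      (de hP (n + 1) i ⊗ₜ hat P (n + 1) (-(n + 1)) (by omega) (df hP (n + 1) i))) =
    ιT P (D P) (n + 1 + 1) (-(n + 1)) 1 (by omega)
        (P.d (n + 1) (n + 1 + 1) (de hP (n + 1) i) ⊗ₜ hat P (n + 1) (-(n + 1)) (by omega) (df hP (n + 1) i)) -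
      ιT P (D P) (n + 1) (-n) 1 (by omega)
        (de hP (n + 1) i ⊗ₜ hat P n (-n) (by omega) ((df hP (n + 1) i).comp (P.d n (n + 1)).hom)) := by
    intro i
    have key : ∀ (r : ℤ) (hr : -(n + 1) + 1 = r), (tens P (D P)).d 0 1 (ιT P (D P) (n + 1) (-(n + 1)) 0 (by omega)
        (de hP (n + 1) i ⊗ₜ hat P (n + 1) (-(n + 1)) (by omega) (df hP (n + 1) i))) =
        ιT P (D P) (n + 1 + 1) (-(n + 1)) 1 (by omega)
            (P.d (n + 1) (n + 1 + 1) (de hP (n + 1) i) ⊗ₜ hat P (n + 1) (-(n + 1)) (by omega) (df hP (n + 1) i)) +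
          ((n + 1).negOnePow : ℤ) • ιT P (D P) (n + 1) r 1 (by omega)
            (de hP (n + 1) i ⊗ₜ (D P).d (-(n + 1)) r (hat P (n + 1) (-(n + 1)) (by omega) (df hP (n + 1) i))) := by
      rintro r rfl
      exact d_ιT P (D P) (n + 1) (-(n + 1)) 0 (by omega) _ _
    rw [key (-n) (by omega), d_hat]
    erw [map_zsmul_tmul]
    rw [smul_smul, ← Units.val_mul, ← Int.negOnePow_add,
      show (n + 1 + -n).negOnePow = -1 from (congrArg Int.negOnePow (by omega : n + 1 + -n = 1)).trans Int.negOnePow_one,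
      Units.val_neg, Units.val_one, neg_one_zsmul, sub_eq_add_neg]
  simp only [h, Finset.sum_sub_distrib, S_eq hP n]
  rfl

variable {a b : ℤ} (hab : DRing.VanishesOutside P a b)

include hab in
theorem de_eq_zero {n : ℤ} (hn : n < a ∨ b < n) (i : Fin (dk hP n)) : de hP n i = 0 := by
  have := ModuleCat.subsingleton_of_isZero (hab n hn)
  exact Subsingleton.elim _ _

include hab in
theorem T_eq_zero {n : ℤ} (hn : n < a ∨ b < n) : T hP n = 0 :=
  Finset.sum_eq_zero fun i _ => by rw [de_eq_zero hP hab hn, TensorProduct.zero_tmul, map_zero]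

include hab in
theorem S_eq_zero {n : ℤ} (hn : n < a ∨ b < n) : S hP n = 0 :=
  Finset.sum_eq_zero fun i _ => by rw [de_eq_zero hP hab hn, map_zero, TensorProduct.zero_tmul, map_zero]

/-- The coevaluation element. -/
noncomputable def cEl : (tens P (D P)).X 0 :=
  ∑ k ∈ Finset.range ((b - a + 1).toNat + 1), T hP (a + k)

include hab in
theorem d_cEl : (tens P (D P)).d 0 1 (cEl hP (a := a) (b := b)) = 0 := by
  unfold cEl
  rw [map_sum]
  have h : ∀ k : ℕ, (tens P (D P)).d 0 1 (T hP (a + k)) =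
      S hP (a - 1 + (k + 1 : ℕ)) - S hP (a - 1 + (k : ℕ)) := fun k => by
    have := d_T hP (a - 1 + k)
    rw [show a - 1 + (k : ℤ) + 1 = a + k by omega] at this
    rw [this, show a - 1 + ((k + 1 : ℕ) : ℤ) = a + k by omega]
  simp only [h]
  rw [Finset.sum_range_sub fun k : ℕ => S hP (a - 1 + (k : ℕ)), S_eq_zero hP hab (by omega),
    S_eq_zero hP hab (by omega), sub_zero]

/-- The coevaluation. -/
noncomputable def coevHom : 𝟙_ (DRing.Cx A) ⟶ P ⊗ D P :=
  HomologicalComplex.mkHomFromSingle (c := ComplexShape.up ℤ) (j := 0) (K := tens P (D P))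
    (ModuleCat.ofHom (LinearMap.toSpanSingleton A _ (cEl hP (a := a) (b := b))))
    (fun j hj => by
      obtain rfl : 0 + 1 = j := hj
      refine ModuleCat.hom_ext (LinearMap.ext fun r => ?_)
      change (tens P (D P)).d 0 1 (r • cEl hP (a := a) (b := b)) = 0
      rw [map_smul, d_cEl hP hab, smul_zero])

theorem coevHom_one : (coevHom hP hab).f 0 (one₀ (R := A)) = cEl hP (a := a) (b := b) := by
  have h : (coevHom hP hab).f 0 = (singleObjXSelf (ComplexShape.up ℤ) 0 (ModuleCat.of A A)).hom ≫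
      ModuleCat.ofHom (LinearMap.toSpanSingleton A _ (cEl hP (a := a) (b := b))) :=
    HomologicalComplex.mkHomFromSingle_f _ _
  rw [h]
  change (scal (one₀ (R := A))) • cEl hP (a := a) (b := b) = _
  have h1 : scal (one₀ (R := A)) = 1 :=
    ConcreteCategory.congr_hom (singleObjXSelf (ComplexShape.up ℤ) 0 (ModuleCat.of A A)).inv_hom_id (1 : A)
  rw [h1, one_smul]

variable (P) in
/-- The evaluation cochain. -/
noncomputable def evCocycle : Cocycle (tens (D P) P) (oneCx A) 0 :=
  Cocycle.mk (uncurryFun (D P) P (oneCx A) 0 (Cochain.ofHom (𝟙 (D P)))) 1 rfl (by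
    refine (assocEquiv_δ (D P) P (oneCx A) 0 (Cochain.ofHom (𝟙 (D P)))).trans ?_
    rw [δ_ofHom]
    exact (assocEquiv (D P) P (oneCx A) 1).map_zero)

variable (P) in
/-- The evaluation. -/
noncomputable def evHom : D P ⊗ P ⟶ 𝟙_ (DRing.Cx A) := Cocycle.homOf (evCocycle P)

theorem evHom_ι (m n : ℤ) (h : m + n = 0) (φ : (D P).X m) (x : P.X n) :
    scal ((evHom P).f 0 (ιT (D P) P m n 0 h (φ ⊗ₜ x))) = scal (φ.v n 0 (by omega) x) := by
  refine congrArg scal ?_
  refine (uncurryFun_v (D P) P (oneCx A) 0 _ 0 0 (add_zero 0) m n h m (add_zero m) φ x).trans ?_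
  change ((Cochain.ofHom (𝟙 (D P))).v m m (add_zero m) φ).v n 0 _ x = _
  rw [Cochain.ofHom_v]
  rfl

theorem evHom_zero {s : ℤ} (hs : s ≠ 0) (e : (tens (D P) P).X s) : (evHom P).f s e = 0 := by
  have := ModuleCat.subsingleton_of_isZero
    (HomologicalComplex.isZero_single_obj_X (ComplexShape.up ℤ) 0 (𝟙_ (ModuleCat.{u} A)) s hs)
  exact Subsingleton.elim _ _

include hab in
theorem zig : coevHom hP hab ▷ P ≫ (α_ P (D P) P).hom ≫ P ◁ evHom P = (λ_ P).hom ≫ (ρ_ P).inv := by
  refine HomologicalComplex.hom_ext _ _ fun n => hom_ext₂ fun p q hpq c x => ?_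
  by_cases hp : p = 0
  swap
  · have := ModuleCat.subsingleton_of_isZero
      (HomologicalComplex.isZero_single_obj_X (ComplexShape.up ℤ) 0 (𝟙_ (ModuleCat.{u} A)) p hp)
    rw [Subsingleton.elim c 0, TensorProduct.zero_tmul, map_zero, map_zero, map_zero]
  subst hp
  obtain rfl : q = n := by omega
  rw [eq_scal c, ← TensorProduct.smul_tmul', map_smul, map_smul, map_smul]
  refine congrArg (scal c • ·) ?_
  change (P ◁ evHom P).f q ((α_ P (D P) P).hom.f q ((coevHom hP hab ▷ P).f q
      (ιT (𝟙_ (DRing.Cx A)) P 0 q q hpq (one₀ ⊗ₜ x)))) =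
    (ρ_ P).inv.f q ((λ_ P).hom.f q (ιT (𝟙_ (DRing.Cx A)) P 0 q q hpq (one₀ ⊗ₜ x)))
  rw [leftUnitor_hom_ι, rightUnitor_inv_f, whiskerRight_ι, coevHom_one]
  let G : (tens P (D P)).X 0 →ₗ[A] (tens P (𝟙_ (DRing.Cx A))).X q :=
    (((P ◁ evHom P).f q).hom.comp ((α_ P (D P) P).hom.f q).hom).comp
      ((ιT (tens P (D P)) P 0 q q hpq).hom.comp ((TensorProduct.mk A _ _).flip x))
  change G (cEl hP (a := a) (b := b)) = _
  have hG : ∀ k, G (T hP k) = if h : k = q then ιT P (𝟙_ (DRing.Cx A)) q 0 q (add_zero q) (x ⊗ₜ one₀) else 0 := by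
    intro k
    unfold T
    rw [map_sum]
    have hterm : ∀ i, G (ιT P (D P) k (-k) 0 (by omega) (de hP k i ⊗ₜ hat P k (-k) (by omega) (df hP k i))) =
        ιT P (𝟙_ (DRing.Cx A)) k (-k + q) q (by omega)
          (de hP k i ⊗ₜ (evHom P).f (-k + q) (ιT (D P) P (-k) q (-k + q) rfl
            (hat P k (-k) (by omega) (df hP k i) ⊗ₜ x))) := fun i =>
      (congrArg ((P ◁ evHom P).f q) (associator_ι P (D P) P k (-k) q q 0 (-k + q) (by omega) rfl hpq (by omega)
        _ _ x)).trans (whiskerLeft_ι P (evHom P) k (-k + q) q (by omega) _ _)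
    simp only [hterm]
    split_ifs with hk
    · subst hk
      have key : ∀ (s : ℤ) (hs : -k + k = s) (i : Fin (dk hP k)), ιT P (𝟙_ (DRing.Cx A)) k s k (by omega)
          (de hP k i ⊗ₜ (evHom P).f s (ιT (D P) P (-k) k s hs (hat P k (-k) (by omega) (df hP k i) ⊗ₜ x))) =
          df hP k i x • ιT P (𝟙_ (DRing.Cx A)) k 0 k (add_zero k) (de hP k i ⊗ₜ one₀) := by
        intro s hs i
        obtain rfl : s = 0 := by omega
        exact (congrArg (fun t => ιT P (𝟙_ (DRing.Cx A)) k 0 k (add_zero k) (de hP k i ⊗ₜ t)) (eq_scal _)).trans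
          (((congrArg _ (TensorProduct.tmul_smul _ _ _)).trans (map_smul _ _ _)).trans
            (congrArg (· • _) ((evHom_ι (-k) k (by omega) _ x).trans (hat_v _ _ _ _ x))))
      simp only [key _ rfl, ← map_smul, ← map_sum, TensorProduct.smul_tmul']
      exact congrArg (ιT P (𝟙_ (DRing.Cx A)) k 0 k (add_zero k))
        ((TensorProduct.sum_tmul _ _ _).symm.trans (congrArg (· ⊗ₜ one₀) (sum_df_de hP k x)))
    · refine Finset.sum_eq_zero fun i _ => ?_
      rw [evHom_zero (by omega), TensorProduct.tmul_zero, map_zero]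
  unfold cEl
  rw [map_sum]
  have h1 : scal (one₀ (R := A)) = 1 :=
    ConcreteCategory.congr_hom (singleObjXSelf (ComplexShape.up ℤ) 0 (ModuleCat.of A A)).inv_hom_id (1 : A)
  rw [h1, one_smul]
  by_cases hq : q < a ∨ b < q
  · have := ModuleCat.subsingleton_of_isZero (hab q hq)
    rw [Subsingleton.elim x 0, TensorProduct.zero_tmul, map_zero]
    refine Finset.sum_eq_zero fun k _ => ?_
    rw [hG, Subsingleton.elim x 0, TensorProduct.zero_tmul, map_zero]
    exact dite_eq_right_iff.2 fun _ => rfl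
  rw [Finset.sum_eq_single (q - a).toNat]
  · rw [hG, dif_pos (by omega)]
  · intro k _ hk
    rw [hG, dif_neg (by omega)]
  · intro hk
    rw [Finset.mem_range] at hk
    omega

include hab in
theorem zag : (D P) ◁ coevHom hP hab ≫ (α_ (D P) P (D P)).inv ≫ evHom P ▷ (D P) =
    (ρ_ (D P)).hom ≫ (λ_ (D P)).inv := by
  refine HomologicalComplex.hom_ext _ _ fun n => hom_ext₂ fun p q hpq φ c => ?_
  by_cases hp : q = 0
  swap
  · have := ModuleCat.subsingleton_of_isZero
      (HomologicalComplex.isZero_single_obj_X (ComplexShape.up ℤ) 0 (𝟙_ (ModuleCat.{u} A)) q hp)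
    rw [Subsingleton.elim c 0, TensorProduct.tmul_zero, map_zero, map_zero, map_zero]
  subst hp
  obtain rfl : p = n := by omega
  rw [eq_scal c, TensorProduct.tmul_smul, map_smul, map_smul, map_smul]
  refine congrArg (scal c • ·) ?_
  change (evHom P ▷ D P).f p ((α_ (D P) P (D P)).inv.f p ((D P ◁ coevHom hP hab).f p
      (ιT (D P) (𝟙_ (DRing.Cx A)) p 0 p hpq (φ ⊗ₜ one₀)))) =
    (λ_ (D P)).inv.f p ((ρ_ (D P)).hom.f p (ιT (D P) (𝟙_ (DRing.Cx A)) p 0 p hpq (φ ⊗ₜ one₀)))
  rw [rightUnitor_hom_ι, leftUnitor_inv_f, whiskerLeft_ι, coevHom_one]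
  let G : (tens P (D P)).X 0 →ₗ[A] (tens (𝟙_ (DRing.Cx A)) (D P)).X p :=
    (((evHom P ▷ D P).f p).hom.comp ((α_ (D P) P (D P)).inv.f p).hom).comp
      ((ιT (D P) (tens P (D P)) p 0 p hpq).hom.comp (TensorProduct.mk A _ _ φ))
  change G (cEl hP (a := a) (b := b)) = _
  have hinv : ∀ (k : ℤ) (y : P.X k) (z : (D P).X (-k)),
      (α_ (D P) P (D P)).inv.f p (ιT (D P) (tens P (D P)) p 0 p hpq (φ ⊗ₜ ιT P (D P) k (-k) 0 (by omega) (y ⊗ₜ z))) =
        ιT (tens (D P) P) (D P) (p + k) (-k) p (by omega) (ιT (D P) P p k (p + k) rfl (φ ⊗ₜ y) ⊗ₜ z) := fun k y z =>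
    (congrArg ((α_ (D P) P (D P)).inv.f p)
      (associator_ι (D P) P (D P) p k (-k) p (p + k) 0 rfl (by omega) (by omega) hpq φ y z).symm).trans
      (ConcreteCategory.congr_hom (HomologicalComplex.congr_hom (α_ (D P) P (D P)).hom_inv_id p) _)
  have hG : ∀ k, G (T hP k) = if h : p = -k then ιT (𝟙_ (DRing.Cx A)) (D P) 0 p p (zero_add p) (one₀ ⊗ₜ φ) else 0 := by
    intro k
    unfold T
    rw [map_sum]
    have hterm : ∀ i, G (ιT P (D P) k (-k) 0 (by omega) (de hP k i ⊗ₜ hat P k (-k) (by omega) (df hP k i))) =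
        ιT (𝟙_ (DRing.Cx A)) (D P) (p + k) (-k) p (by omega)
          ((evHom P).f (p + k) (ιT (D P) P p k (p + k) rfl (φ ⊗ₜ de hP k i)) ⊗ₜ
            hat P k (-k) (by omega) (df hP k i)) := fun i =>
      (congrArg ((evHom P ▷ D P).f p) (hinv k _ _)).trans
        (whiskerRight_ι (evHom P) (D P) (p + k) (-k) p (by omega) _ _)
    simp only [hterm]
    split_ifs with hk
    · subst hk
      have key : ∀ (s : ℤ) (hs : -k + k = s) (i : Fin (dk hP k)), ιT (𝟙_ (DRing.Cx A)) (D P) s (-k) (-k) (by omega)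
          ((evHom P).f s (ιT (D P) P (-k) k s hs (φ ⊗ₜ de hP k i)) ⊗ₜ hat P k (-k) (by omega) (df hP k i)) =
          scal (φ.v k 0 (by omega) (de hP k i)) • ιT (𝟙_ (DRing.Cx A)) (D P) 0 (-k) (-k) (zero_add _)
            (one₀ ⊗ₜ hat P k (-k) (by omega) (df hP k i)) := by
        intro s hs i
        obtain rfl : s = 0 := by omega
        exact (congrArg (fun t => ιT (𝟙_ (DRing.Cx A)) (D P) 0 (-k) (-k) (zero_add _)
            (t ⊗ₜ hat P k (-k) (by omega) (df hP k i))) (eq_scal _)).trans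
          (((congrArg _ (TensorProduct.smul_tmul' _ _ _).symm).trans (map_smul _ _ _)).trans
            (congrArg (· • _) (evHom_ι (-k) k (by omega) φ _)))
      simp only [key _ rfl, ← map_smul, ← map_sum]
      refine congrArg (ιT (𝟙_ (DRing.Cx A)) (D P) 0 (-k) (-k) (zero_add _)) ?_
      refine (Finset.sum_congr rfl fun i _ => (TensorProduct.tmul_smul _ _ _).symm).trans
        ((TensorProduct.tmul_sum _ _ _).symm.trans
          (congrArg (one₀ ⊗ₜ ·) ((hatE P k (-k) (by omega)).symm.injective ?_)))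
      simp only [map_sum, map_smul, LinearEquiv.symm_apply_apply]
      refine LinearMap.ext fun y => ?_
      have hd : (hatE P k (-k) (by omega)).symm φ y = scal (φ.v k 0 (by omega) y) := rfl
      rw [hd]
      have he : ∀ y, scal (φ.v k 0 (by omega) y) = dualEquiv P (by omega : k + -k = 0) φ y := fun _ => rfl
      simp only [he, LinearMap.sum_apply, LinearMap.smul_apply, smul_eq_mul]
      conv_rhs => rw [← sum_df_de hP k y]
      simp only [map_sum, map_smul, smul_eq_mul, mul_comm]
    · refine Finset.sum_eq_zero fun i _ => ?_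
      rw [evHom_zero (by omega), TensorProduct.zero_tmul, map_zero]
  unfold cEl
  rw [map_sum]
  have h1 : scal (one₀ (R := A)) = 1 :=
    ConcreteCategory.congr_hom (singleObjXSelf (ComplexShape.up ℤ) 0 (ModuleCat.of A A)).inv_hom_id (1 : A)
  rw [h1, one_smul]
  by_cases hq : -p < a ∨ b < -p
  · have := ModuleCat.subsingleton_of_isZero (vanishesOutside_dual hab p (by omega))
    rw [Subsingleton.elim φ 0, TensorProduct.tmul_zero, map_zero]
    refine Finset.sum_eq_zero fun k _ => ?_
    rw [hG, Subsingleton.elim φ 0, TensorProduct.tmul_zero, map_zero]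
    exact dite_eq_right_iff.2 fun _ => rfl
  rw [Finset.sum_eq_single (-p - a).toNat]
  · rw [hG, dif_pos (by omega)]
  · intro k _ hk
    rw [hG, dif_neg (by omega)]
  · intro hk
    rw [Finset.mem_range] at hk
    omega

/-- A bounded complex of finite projective modules and its dual form an exact pairing. -/
noncomputable abbrev pairing : ExactPairing P (D P) where
  coevaluation' := coevHom hP hab
  evaluation' := evHom P
  coevaluation_evaluation' := zag hP hab
  evaluation_coevaluation' := zig hP hab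

end GrothLib.DT.Cx
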