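import Groth.Agent.Lib.DTen.Monoidal
import Groth.Agent.Lib.DTen.DualCx
import Groth.Agent.Lib.DCxKFlat.KFlatBounded
import Groth.Agent.Lib.DCxKFlat.Balance

/-! # Perfect objects of `D(A)` are dualizable -/

set_option autoImplicit false
set_option maxHeartbeats 800000
universe u

open CategoryTheory CategoryTheory.Limits MonoidalCategory

attribute [local instance] HasDerivedCategory.standard

namespace GrothLib.DT

open DTen

variable {A : Type u} [CommRing A] [HasLTen A] [HasLTen₃ A] [IsSymMonoidal A]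

local notation "Q" => (DerivedCategory.Q : DRing.Cx A ⥤ Dual.D A)

theorem μ_natural_right' {K K' : DRing.Cx A} (f : K ⟶ K') (L : DRing.Cx A) :
    (Q).map f ▷ (Q).obj L ≫ μ K' L = μ K L ≫ (Q).map (f ▷ L) := μ_natural_right f L

theorem μ_natural_left' (K : DRing.Cx A) {L L' : DRing.Cx A} (g : L ⟶ L') :
    (Q).obj K ◁ (Q).map g ≫ μ K L' = μ K L ≫ (Q).map (K ◁ g) := μ_natural_left K g

theorem assoc_fac' (K L M : DRing.Cx A) :
    (α_ ((Q).obj K) ((Q).obj L) ((Q).obj M)).hom ≫ (Q).obj K ◁ μ L M ≫ μ K (L ⊗ M) =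
      μ K L ▷ (Q).obj M ≫ μ (K ⊗ L) M ≫ (Q).map (α_ K L M).hom := assoc_fac K L M

/-- An exact pairing of K-flat complexes gives one in `D(A)`. -/
theorem nonempty_exactPairing_Q (P D : DRing.Cx A) [ExactPairing P D] (hP : KF.IsKFlat P) (hD : KF.IsKFlat D) :
    Nonempty (ExactPairing ((Q).obj P) ((Q).obj D)) := by
  have := isIso_μ hP D
  have := isIso_μ hD P
  let η' : (Q).obj (𝟙_ (DRing.Cx A)) ⟶ (Q).obj P ⊗ (Q).obj D := (Q).map (η_ P D) ≫ inv (μ P D)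
  let ε' : (Q).obj D ⊗ (Q).obj P ⟶ (Q).obj (𝟙_ (DRing.Cx A)) := μ D P ≫ (Q).map (ε_ P D)
  have hη : η' ≫ μ P D = (Q).map (η_ P D) := by simp [η']
  have h1 : (α_ ((Q).obj D) ((Q).obj P) ((Q).obj D)).inv ≫ ε' ▷ (Q).obj D ≫ μ (𝟙_ (DRing.Cx A)) D =
      (Q).obj D ◁ μ P D ≫ μ D (P ⊗ D) ≫ (Q).map (α_ D P D).inv ≫ (Q).map (ε_ P D ▷ D) := by
    rw [Iso.inv_comp_eq, reassoc_of% (assoc_fac' D P D), ← Functor.map_comp, ← Functor.map_comp,
      Iso.hom_inv_id_assoc]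
    simp only [ε', comp_whiskerRight, Category.assoc, μ_natural_right']
  have h2 : (α_ ((Q).obj P) ((Q).obj D) ((Q).obj P)).hom ≫ (Q).obj P ◁ ε' ≫ μ P (𝟙_ (DRing.Cx A)) =
      μ P D ▷ (Q).obj P ≫ μ (P ⊗ D) P ≫ (Q).map (α_ P D P).hom ≫ (Q).map (P ◁ ε_ P D) := by
    simp only [ε', MonoidalCategory.whiskerLeft_comp, Category.assoc, μ_natural_left']
    rw [reassoc_of% (assoc_fac' P D P)]
  have hρ : ∀ K : DRing.Cx A, (ρ_ ((Q).obj K)).hom = μ K (𝟙_ (DRing.Cx A)) ≫ (Q).map (ρ_ K).hom := unitR_fac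
  have hlu : ∀ K : DRing.Cx A, (λ_ ((Q).obj K)).hom = μ (𝟙_ (DRing.Cx A)) K ≫ (Q).map (λ_ K).hom := unitL_fac
  have c1 : (Q).obj D ◁ η' ≫ (α_ ((Q).obj D) ((Q).obj P) ((Q).obj D)).inv ≫ ε' ▷ (Q).obj D =
      (ρ_ ((Q).obj D)).hom ≫ (λ_ ((Q).obj D)).inv := by
    refine (Iso.eq_comp_inv (λ_ ((Q).obj D))).2 ?_
    rw [hρ]
    refine (congrArg (fun t => ((Q).obj D ◁ η' ≫ (α_ ((Q).obj D) ((Q).obj P) ((Q).obj D)).inv ≫
      ε' ▷ (Q).obj D) ≫ t) (hlu D)).trans ?_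
    simp only [Category.assoc]
    rw [reassoc_of% h1, ← whiskerLeft_comp_assoc, hη, reassoc_of% (μ_natural_left' D (η_ P D))]
    simp only [← Functor.map_comp]
    rw [ExactPairing.coevaluation_evaluation_assoc, Iso.inv_hom_id, Category.comp_id]
  have c2 : η' ▷ (Q).obj P ≫ (α_ ((Q).obj P) ((Q).obj D) ((Q).obj P)).hom ≫ (Q).obj P ◁ ε' =
      (λ_ ((Q).obj P)).hom ≫ (ρ_ ((Q).obj P)).inv := by
    refine (Iso.eq_comp_inv (ρ_ ((Q).obj P))).2 ?_
    rw [hlu]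
    refine (congrArg (fun t => (η' ▷ (Q).obj P ≫ (α_ ((Q).obj P) ((Q).obj D) ((Q).obj P)).hom ≫
      (Q).obj P ◁ ε') ≫ t) (hρ P)).trans ?_
    simp only [Category.assoc]
    rw [reassoc_of% h2, ← comp_whiskerRight_assoc, hη, reassoc_of% (μ_natural_right' (η_ P D) P)]
    simp only [← Functor.map_comp]
    rw [ExactPairing.evaluation_coevaluation_assoc, Iso.inv_hom_id, Category.comp_id]
  exact ⟨{ coevaluation' := η', evaluation' := ε', coevaluation_evaluation' := c1,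
           evaluation_coevaluation' := c2 }⟩

omit [HasLTen A] [HasLTen₃ A] [IsSymMonoidal A] in
theorem isKFlat_of_finiteProjective {P : DRing.Cx A} {a b : ℤ} (hP : DRing.TermwiseFiniteProjective P)
    (hab : DRing.VanishesOutside P a b) : KF.IsKFlat P :=
  KF.isKFlat_of_vanishesAbove (b := b) (fun i hi => hab i (Or.inr hi)) fun i =>
    have := (hP i).2
    inferInstanceAs (Module.Flat A (P.X i))

/-- A perfect object has a dual. -/
theorem exists_exactPairing {K : Dual.D A} (hK : DRing.IsPerfect A K) :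
    ∃ D : Dual.D A, Nonempty (ExactPairing K D) := by
  obtain ⟨P, a, b, hab, hP, ⟨e⟩⟩ := hK
  let _ : ExactPairing P (Cx.D P) := Cx.pairing hP hab
  obtain ⟨h⟩ := nonempty_exactPairing_Q P (Cx.D P) (isKFlat_of_finiteProjective hP hab)
    (isKFlat_of_finiteProjective (RH.termwiseFiniteProjective_dual hP) (RH.vanishesOutside_dual hab))
  exact ⟨(Q).obj (Cx.D P), ⟨@exactPairingCongrLeft _ _ _ _ _ _ h e.symm⟩⟩

end GrothLib.DT
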