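import Groth.Agent.Lib.DTen.Monoidal
import Groth.Agent.Lib.DTen.Closed
import Groth.Agent.Lib.DTen.Dualizable

/-! # The evaluation maps of `Def_DTen3` as maps of a closed symmetric monoidal category -/

set_option autoImplicit false
universe u

open CategoryTheory MonoidalCategory

attribute [local instance] HasDerivedCategory.standard

namespace GrothLib.DT

variable {A : Type u} [CommRing A] [DTen.HasLTen A] [DTen.HasLTen₃ A] [DTen.IsSymMonoidal A] [DTen.HasRHom A]

/-- The adjunctions of `Def_DTen3`. -/
noncomputable abbrev adjD (L : Dual.D A) : tensorRight L ⊣ DTen.RHomR A L := DTen.rhomAdj A L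

theorem evalHom_eq (K L M : Dual.D A) : DTen.evalHom K L M = Closed.evalHom adjD K L M := rfl

theorem evalTen_eq (K L M : Dual.D A) : DTen.evalTen K L M = Closed.evalTen adjD K L M := rfl

theorem curryHom_eq (K L M : Dual.D A) : DTen.curryHom K L M = Closed.curryHom adjD K L M := rfl

theorem isIso_curryHom (K L M : Dual.D A) : IsIso (DTen.curryHom K L M) :=
  Closed.isIso_curryHom adjD K L M

theorem isIso_evalHom_of_isPerfect (K L M : Dual.D A) (hK : DRing.IsPerfect A K) :
    IsIso (DTen.evalHom K L M) := by
  obtain ⟨D, ⟨h⟩⟩ := exists_exactPairing hK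
  exact Closed.isIso_evalHom_of_dual adjD K L M D

theorem isIso_evalTen_of_isPerfect_source (K L M : Dual.D A) (hM : DRing.IsPerfect A M) :
    IsIso (DTen.evalTen K L M) := by
  obtain ⟨D, ⟨h⟩⟩ := exists_exactPairing hM
  exact Closed.isIso_evalTen_of_dual_source adjD K L M D

theorem isIso_evalTen_of_isPerfect_left (K L M : Dual.D A) (hK : DRing.IsPerfect A K) :
    IsIso (DTen.evalTen K L M) := by
  obtain ⟨D, ⟨h⟩⟩ := exists_exactPairing hK
  exact Closed.isIso_evalTen_of_dual_left adjD K L M D

end GrothLib.DT
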