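import Groth.Agent.Lib.DTen.Split
import Groth.Agent.Lib.DTen.ClosedD

/-! # Evaluation maps at pseudo-coherent objects, by approximation with perfect ones -/

set_option autoImplicit false
set_option maxHeartbeats 1000000
universe u

open CategoryTheory CategoryTheory.Limits HomologicalComplex Pretriangulated MonoidalCategory

attribute [local instance] HasDerivedCategory.standard

namespace GrothLib.DT

variable {A : Type u} [CommRing A]

theorem whisker_square {C : Type*} [Category C] [MonoidalCategory C] (E : C) {R R' K K' N : C} (f : K' ⟶ K)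
    (g : R ⟶ R') (e : R ⊗ K ⟶ N) (e' : R' ⊗ K' ⟶ N) (h : R ◁ f ≫ e = g ▷ K' ≫ e') :
    (E ⊗ R) ◁ f ≫ (α_ E R K).hom ≫ E ◁ e = (E ◁ g) ▷ K' ≫ (α_ E R' K').hom ≫ E ◁ e' := by
  rw [associator_naturality_right_assoc, associator_naturality_middle_assoc, ← whiskerLeft_comp,
    ← whiskerLeft_comp, h]

theorem isZero_tensor_X (P X : DRing.Cx A) (n : ℤ)
    (h : ∀ p q : ℤ, p + q = n → IsZero (P.X p) ∨ IsZero (X.X q)) : IsZero ((P ⊗ X).X n) := by
  rw [IsZero.iff_id_eq_zero]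
  refine HomologicalComplex.mapBifunctor.hom_ext fun p q hpq => IsZero.eq_of_src ?_ _ _
  rcases h p q hpq with h | h
  · exact Functor.map_isZero ((curriedTensor (ModuleCat.{u} A)).flip.obj (X.X q)) h
  · exact Functor.map_isZero ((curriedTensor (ModuleCat.{u} A)).obj (P.X p)) h

theorem subsingleton_cone {τ : Triangle (Dual.D A)} (hT : τ ∈ distTriang _) (j : ℤ)
    (hs : Function.Surjective fun t : S A j ⟶ τ.obj₁ => t ≫ τ.mor₁)
    (hi : Function.Injective fun t : S A (j + 1) ⟶ τ.obj₁ => t ≫ τ.mor₁) :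
    Subsingleton (S A j ⟶ τ.obj₃) := by
  refine subsingleton_of_forall_eq 0 fun t => ?_
  obtain ⟨e⟩ := isZero_of_nonempty_shift (A := A) (j + 1)
  rw [show j + 1 - 1 = j from by omega] at e
  obtain ⟨u, hu⟩ := (shiftFunctor (Dual.D A) (1 : ℤ)).map_surjective (e.hom ≫ t ≫ τ.mor₃)
  have hu0 : u ≫ τ.mor₁ = 0 := by
    apply (shiftFunctor (Dual.D A) (1 : ℤ)).map_injective
    rw [Functor.map_comp, hu, Functor.map_zero]
    simp only [Category.assoc]
    rw [comp_distTriang_mor_zero₃₁ τ hT, comp_zero, comp_zero]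
  rw [hi (hu0.trans zero_comp.symm : u ≫ τ.mor₁ = 0 ≫ τ.mor₁), Functor.map_zero] at hu
  have ht : t ≫ τ.mor₃ = 0 := by rw [← cancel_epi e.hom, ← hu, comp_zero]
  obtain ⟨w, hw⟩ := Triangle.coyoneda_exact₃ τ hT t ht
  obtain ⟨v, rfl⟩ := hs w
  rw [hw, Category.assoc, comp_distTriang_mor_zero₁₂ τ hT, comp_zero]

section

variable [DTen.HasLTen A] [DTen.HasLTen₃ A] [DTen.IsSymMonoidal A]

local notation "Q" => (DerivedCategory.Q : DRing.Cx A ⥤ Dual.D A)

/-- Tensoring with the class of a K-flat complex. -/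
noncomputable def tensorQIso {P : DRing.Cx A} (hP : KF.IsKFlat P) (X : DRing.Cx A) :
    (Q).obj P ⊗ (Q).obj X ≅ (Q).obj (P ⊗ X) :=
  @asIso _ _ _ _ (μ P X) (isIso_μ hP X)

theorem tensorQIso_natural {P : DRing.Cx A} (hP : KF.IsKFlat P) {X Y : DRing.Cx A} (f : X ⟶ Y) :
    (Q).obj P ◁ (Q).map f = (tensorQIso hP X).hom ≫ (Q).map (P ◁ f) ≫ (tensorQIso hP Y).inv := by
  rw [← Category.assoc, Iso.eq_comp_inv]
  exact μ_natural_left' P f

theorem bijective_whiskerLeft_comp {P : DRing.Cx A} (hP : KF.IsKFlat P) {T : ShortComplex (DRing.Cx A)}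
    (hT : DegSplit T) (i : ℤ) (h₀ : Subsingleton (S A i ⟶ (Q).obj (P ⊗ T.X₃)))
    (h₁ : Subsingleton (S A (i - 1) ⟶ (Q).obj (P ⊗ T.X₃))) :
    Function.Bijective fun t : S A i ⟶ (Q).obj P ⊗ (Q).obj T.X₁ => t ≫ ((Q).obj P ◁ (Q).map T.f) := by
  have h : Function.Bijective fun t : S A i ⟶ (Q).obj (P ⊗ T.X₁) => t ≫ (Q).map (P ◁ T.f) :=
    bijective_S_comp (hT.tensor P) i h₀ h₁
  have he : (fun t : S A i ⟶ (Q).obj P ⊗ (Q).obj T.X₁ => t ≫ ((Q).obj P ◁ (Q).map T.f)) =
      (fun t => t ≫ (tensorQIso hP T.X₂).inv) ∘ (fun t => t ≫ (Q).map (P ◁ T.f)) ∘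
        fun t => t ≫ (tensorQIso hP T.X₁).hom := by
    funext t
    simp only [Function.comp_apply, Category.assoc]
    exact congrArg (t ≫ ·) (tensorQIso_natural hP T.f)
  rw [he]
  exact (Iso.homToEquiv (tensorQIso hP T.X₂).symm).bijective.comp
    (h.comp (Iso.homToEquiv (tensorQIso hP T.X₁)).bijective)

theorem bijective_S_whiskerLeft_precomp {T : ShortComplex (DRing.Cx A)} (hT : DegSplit T) (i : ℤ) (M : Dual.D A)
    (h₀ : Subsingleton ((Q).obj (sCx A i ⊗ T.X₃) ⟶ M))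
    (h₁ : Subsingleton (((Q).obj (sCx A i ⊗ T.X₃))⟦(-1 : ℤ)⟧ ⟶ M)) :
    Function.Bijective fun t : S A i ⊗ (Q).obj T.X₂ ⟶ M => (S A i ◁ (Q).map T.f) ≫ t := by
  have h : Function.Bijective fun t : (Q).obj (sCx A i ⊗ T.X₂) ⟶ M => (Q).map (sCx A i ◁ T.f) ≫ t :=
    bijective_precomp (hT.tensor (sCx A i)) M h₀ h₁
  have he : (fun t : S A i ⊗ (Q).obj T.X₂ ⟶ M => (S A i ◁ (Q).map T.f) ≫ t) =
      (fun t => (tensorQIso (isKFlat_sCx i) T.X₁).hom ≫ t) ∘ (fun t => (Q).map (sCx A i ◁ T.f) ≫ t) ∘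
        fun t => (tensorQIso (isKFlat_sCx i) T.X₂).inv ≫ t := by
    funext t
    have e : S A i ◁ (Q).map T.f = (tensorQIso (isKFlat_sCx i) T.X₁).hom ≫ (Q).map (sCx A i ◁ T.f) ≫
        (tensorQIso (isKFlat_sCx i) T.X₂).inv := tensorQIso_natural _ T.f
    simp only [Function.comp_apply, e, Category.assoc]
  rw [he]
  exact (Iso.homFromEquiv (tensorQIso (isKFlat_sCx i) T.X₁).symm).bijective.comp
    (h.comp (Iso.homFromEquiv (tensorQIso (isKFlat_sCx i) T.X₂)).bijective)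

theorem isGE_tensor {P : DRing.Cx A} (hP : KF.IsKFlat P) {a : ℤ} (hPa : ∀ p, p < a → IsZero (P.X p))
    (X : Dual.D A) (s : ℤ) [X.IsGE s] (k : ℤ) (hk : k ≤ a + s) : ((Q).obj P ⊗ X).IsGE k := by
  obtain ⟨C, _, ⟨e⟩⟩ := X.exists_iso_Q_obj_of_isGE s
  have : (P ⊗ C).IsStrictlyGE k := (CochainComplex.isStrictlyGE_iff _ k).2 fun i hi =>
    isZero_tensor_X P C i fun p q hpq => by
      by_cases hp : p < a
      · exact Or.inl (hPa p hp)
      · exact Or.inr (C.isZero_of_isStrictlyGE s q (by omega))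
  exact DerivedCategory.TStructure.t.isGE_of_iso (whiskerLeftIso ((Q).obj P) e ≪≫ tensorQIso hP C).symm k

theorem isGE_S_tensor (i : ℤ) (X : Dual.D A) (s : ℤ) [X.IsGE s] : (S A i ⊗ X).IsGE (i + s) :=
  isGE_tensor (isKFlat_sCx i) (a := i) (fun p hp => vanishesOutside_sCx i p (Or.inl hp)) X s _ le_rfl

theorem isLE_S_tensor (i : ℤ) {X : DRing.Cx A} {k : ℤ} (h : ∀ q, k < q → IsZero (X.X q)) :
    ((Q).obj (sCx A i ⊗ X)).IsLE (i + k) :=
  have : (sCx A i ⊗ X).IsStrictlyLE (i + k) := (CochainComplex.isStrictlyLE_iff _ _).2 fun j hj =>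
    isZero_tensor_X _ X j fun p q hpq => by
      by_cases hp : p = i
      · exact Or.inr (h q (by omega))
      · exact Or.inl (vanishesOutside_sCx i p (by omega))
  inferInstance

variable [DTen.HasRHom A]

theorem isIso_RHomMap {L L' : Dual.D A} (g : L' ⟶ L) [IsIso g] (M : Dual.D A) : IsIso (DTen.RHomMap g M) :=
  inferInstanceAs (IsIso (((DTen.RHom A).map g.op).app M))

theorem ev_RHomMap {L L' : Dual.D A} (g : L' ⟶ L) (M : Dual.D A) :
    DTen.RHomMap g M ▷ L' ≫ DTen.ev L' M = (DTen.RHomR A L).obj M ◁ g ≫ DTen.ev L M :=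
  DTen.RHom_map_ev g M

theorem rhom_symm {X L M : Dual.D A} (t : X ⟶ (DTen.RHomR A L).obj M) :
    (DTen.rhomHomEquiv X L M).symm t = t ▷ L ≫ DTen.ev L M :=
  Closed.cur_symm adjD t

theorem bijective_comp_RHomMap (T : Dual.D A) {L L' : Dual.D A} (g : L' ⟶ L) (M : Dual.D A)
    (h : Function.Bijective fun u : T ⊗ L ⟶ M => (T ◁ g) ≫ u) :
    Function.Bijective fun t : T ⟶ (DTen.RHomR A L).obj M => t ≫ DTen.RHomMap g M := by
  have he : (fun t : T ⟶ (DTen.RHomR A L).obj M => t ≫ DTen.RHomMap g M) =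
      (DTen.rhomHomEquiv T L' M) ∘ (fun u : T ⊗ L ⟶ M => (T ◁ g) ≫ u) ∘ (DTen.rhomHomEquiv T L M).symm := by
    funext t
    simp only [Function.comp_apply]
    rw [← Equiv.symm_apply_eq, rhom_symm, rhom_symm, comp_whiskerRight, Category.assoc, ev_RHomMap,
      whisker_exchange_assoc]
  rw [he]
  exact (Equiv.bijective _).comp (h.comp (Equiv.bijective _))

theorem subsingleton_S_RHom {i : ℤ} {L M : Dual.D A} (h : Subsingleton (S A i ⊗ L ⟶ M)) :
    Subsingleton (S A i ⟶ (DTen.RHomR A L).obj M) :=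
  (DTen.rhomHomEquiv (S A i) L M).symm.subsingleton

theorem evalHom_natural {K' K : Dual.D A} (f : K' ⟶ K) (L M : Dual.D A) :
    (DTen.RHomR A L).obj M ◁ f ≫ DTen.evalHom K L M =
      DTen.evalHom K' L M ≫ DTen.RHomMap (DTen.RHomMap f L) M := by
  apply (DTen.rhomHomEquiv _ _ _).symm.injective
  rw [rhom_symm, rhom_symm, comp_whiskerRight, comp_whiskerRight, Category.assoc, Category.assoc, ev_RHomMap,
    ← whisker_exchange_assoc]
  have e1 : DTen.evalHom K L M ▷ (DTen.RHomR A K).obj L ≫ DTen.ev ((DTen.RHomR A K).obj L) M =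
      DTen.evalHomAux K L M := DTen.evalHom_fac K L M
  have e2 : DTen.evalHom K' L M ▷ (DTen.RHomR A K').obj L ≫ DTen.ev ((DTen.RHomR A K').obj L) M =
      DTen.evalHomAux K' L M := DTen.evalHom_fac K' L M
  rw [e1, e2]
  change _ ≫ (α_ _ _ _).hom ≫ _ ◁ ((β_ _ _).hom ≫ _) ≫ _ = _ ≫ (α_ _ _ _).hom ≫ _ ◁ ((β_ _ _).hom ≫ _) ≫ _
  rw [associator_naturality_middle_assoc, associator_naturality_right_assoc, ← whiskerLeft_comp_assoc,
    ← whiskerLeft_comp_assoc, BraidedCategory.braiding_naturality_left_assoc,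
    BraidedCategory.braiding_naturality_right_assoc, ev_RHomMap]

theorem evalTen_natural (E M : Dual.D A) {K' K : Dual.D A} (f : K' ⟶ K) :
    DTen.evalTen E M K ≫ DTen.RHomMap f (E ⊗ M) = E ◁ DTen.RHomMap f M ≫ DTen.evalTen E M K' := by
  apply (DTen.rhomHomEquiv _ _ _).symm.injective
  rw [rhom_symm, rhom_symm, comp_whiskerRight, comp_whiskerRight, Category.assoc, Category.assoc, ev_RHomMap]
  erw [← whisker_exchange_assoc]
  have e1 : DTen.evalTen E M K ▷ K ≫ DTen.ev K (E ⊗ M) = DTen.evalTenAux E M K := DTen.evalTen_fac E M K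
  have e2 : DTen.evalTen E M K' ▷ K' ≫ DTen.ev K' (E ⊗ M) = DTen.evalTenAux E M K' := DTen.evalTen_fac E M K'
  rw [e1, e2]
  exact whisker_square E f (DTen.RHomMap f M) (DTen.ev K M) (DTen.ev K' M) (ev_RHomMap f M).symm

/-- The dual of an approximation has a bounded below error term. -/
theorem exists_split_RHomMap {T : ShortComplex (DRing.Cx A)} (hT : DegSplit T) {m n : ℤ}
    (hm : ∀ i, m ≤ i → IsZero (T.X₃.X i)) (L : Dual.D A) [L.IsGE n] :
    ∃ (T' : ShortComplex (DRing.Cx A)) (eX : (Q).obj T'.X₁ ≅ (DTen.RHomR A ((Q).obj T.X₂)).obj L)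
      (eY : (Q).obj T'.X₂ ≅ (DTen.RHomR A ((Q).obj T.X₁)).obj L),
      DegSplit T' ∧ (Q).map T'.f ≫ eY.hom = eX.hom ≫ DTen.RHomMap ((Q).map T.f) L ∧
        ((Q).obj T'.X₃).IsGE (n - m - 1) := by
  obtain ⟨T', eX, eY, hT', hf⟩ := exists_split (DTen.RHomMap ((Q).map T.f) L)
  refine ⟨T', eX, eY, hT', hf, isGE_of_subsingleton fun j hj => ?_⟩
  have hb : ∀ j, j + m < n →
      Function.Bijective fun t : S A j ⟶ (Q).obj T'.X₁ => t ≫ (Q).map T'.f := by
    intro j hj
    have := isLE_S_tensor (A := A) j (X := T.X₃) (k := m - 1) fun q hq => hm q (by omega)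
    have h₀ : Subsingleton ((Q).obj (sCx A j ⊗ T.X₃) ⟶ L) :=
      subsingleton_hom_orth (k := j + (m - 1)) (n := n) (by omega)
    have : (((Q).obj (sCx A j ⊗ T.X₃))⟦(-1 : ℤ)⟧).IsLE (j + m) :=
      DerivedCategory.TStructure.t.isLE_shift _ (j + (m - 1)) (-1) (j + m) (by omega)
    have h₁ : Subsingleton (((Q).obj (sCx A j ⊗ T.X₃))⟦(-1 : ℤ)⟧ ⟶ L) :=
      subsingleton_hom_orth (k := j + m) (n := n) (by omega)
    have hB := bijective_comp_RHomMap (S A j) ((Q).map T.f) L (bijective_S_whiskerLeft_precomp hT j L h₀ h₁)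
    have he : (fun t : S A j ⟶ (Q).obj T'.X₁ => t ≫ (Q).map T'.f) =
        (fun t => t ≫ eY.inv) ∘ (fun t => t ≫ DTen.RHomMap ((Q).map T.f) L) ∘ fun t => t ≫ eX.hom := by
      funext t
      simp only [Function.comp_apply, Category.assoc, ← reassoc_of% hf, Iso.hom_inv_id, Category.comp_id]
    rw [he]
    exact (Iso.homToEquiv eY.symm).bijective.comp (hB.comp (Iso.homToEquiv eX).bijective)
  exact subsingleton_cone (DerivedCategory.triangleOfSES_distinguished hT'.shortExact) j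
    (hb j (by omega)).2 (hb (j + 1) (by omega)).1

/-- A bijectivity criterion from a commutative square. -/
theorem bijective_of_square {T X X' Y Y' : Dual.D A} (u : X ⟶ X') (v : Y ⟶ Y') (f : X ⟶ Y) (f' : X' ⟶ Y')
    [IsIso f] (h : u ≫ f' = f ≫ v) (hu : Function.Bijective fun t : T ⟶ X => t ≫ u)
    (hv : Function.Bijective fun t : T ⟶ Y => t ≫ v) : Function.Bijective fun t : T ⟶ X' => t ≫ f' := by
  refine (Function.Bijective.of_comp_iff _ hu).1 ?_
  have he : ((fun t : T ⟶ X' => t ≫ f') ∘ fun t : T ⟶ X => t ≫ u) =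
      (fun t => t ≫ v) ∘ fun t => t ≫ f := by
    funext t
    simp only [Function.comp_apply, Category.assoc, h]
  rw [he]
  exact hv.comp (Iso.homToEquiv (asIso f)).bijective

/-- The other bijectivity criterion from a commutative square. -/
theorem bijective_of_square' {T X X' Y Y' : Dual.D A} (u : X ⟶ X') (v : Y ⟶ Y') (f : X ⟶ Y) (f' : X' ⟶ Y')
    [IsIso f'] (h : u ≫ f' = f ≫ v) (hu : Function.Bijective fun t : T ⟶ X => t ≫ u)
    (hv : Function.Bijective fun t : T ⟶ Y => t ≫ v) : Function.Bijective fun t : T ⟶ X => t ≫ f := by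
  refine (Function.Bijective.of_comp_iff' hv _).1 ?_
  have he : ((fun t : T ⟶ Y => t ≫ v) ∘ fun t : T ⟶ X => t ≫ f) =
      (fun t => t ≫ f') ∘ fun t => t ≫ u := by
    funext t
    simp only [Function.comp_apply, Category.assoc, h]
  rw [he]
  exact (Iso.homToEquiv (asIso f')).bijective.comp hu

theorem isIso_evalHom_of_isPseudoCoherent (K L M : Dual.D A) (hK : DRing.IsPseudoCoherent' A K) (n : ℤ)
    [L.IsGE n] (hM : DRing.HasFiniteInjDim A M) : IsIso (DTen.evalHom K L M) := by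
  obtain ⟨a, b, E, hE, hinj, ⟨eM⟩⟩ := hM
  have hMle : ∀ {W : Dual.D A} {s : ℤ}, W.IsGE s → b < s → Subsingleton (W ⟶ M) := fun {W s} hW hs =>
    have := hW
    have := subsingleton_hom_inj hE hinj (W := W) hs
    (Iso.homToEquiv eM.symm).subsingleton
  have hH : ((DTen.RHomR A L).obj M).IsLE (b - n) := isLE_of_subsingleton fun i hi =>
    subsingleton_S_RHom (hMle (isGE_S_tensor i L n) (by omega))
  obtain ⟨PH, hPH, hproj, ⟨eH⟩⟩ := DR.exists_projective_rep ((DTen.RHomR A L).obj M) (b - n) (fun i hi =>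
    ModuleCat.subsingleton_of_isZero ((DerivedCategory.isLE_iff _ _).1 hH i hi))
  have hPHflat : KF.IsKFlat PH := KF.isKFlat_of_vanishesAbove (b := b - n) hPH fun i =>
    have := hproj i
    inferInstanceAs (Module.Flat A (PH.X i))
  refine isIso_of_bijective_S _ fun i => ?_
  obtain ⟨T, -, ⟨eK⟩, hT, hperf, -, -, hm⟩ := exists_approx hK (i - b + n - 2)
  have := isIso_evalHom_of_isPerfect ((Q).obj T.X₁) L M hperf
  obtain ⟨T', eX, eY, hT', hf, hge⟩ := exists_split_RHomMap (n := n) hT hm L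
  have hv : Function.Bijective fun t : S A i ⟶ (DTen.RHomR A ((DTen.RHomR A ((Q).obj T.X₁)).obj L)).obj M =>
      t ≫ DTen.RHomMap (DTen.RHomMap ((Q).map T.f) L) M := by
    refine bijective_comp_RHomMap _ _ M ?_
    have hge₀ : ((Q).obj (sCx A i ⊗ T'.X₃)).IsGE (i + (n - (i - b + n - 2) - 1)) :=
      have := isGE_S_tensor i ((Q).obj T'.X₃) (n - (i - b + n - 2) - 1)
      DerivedCategory.TStructure.t.isGE_of_iso (tensorQIso (isKFlat_sCx i) T'.X₃) _
    have hge₁ : (((Q).obj (sCx A i ⊗ T'.X₃))⟦(-1 : ℤ)⟧).IsGE (i + (n - (i - b + n - 2) - 1) + 1) :=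
      DerivedCategory.TStructure.t.isGE_shift _ (i + (n - (i - b + n - 2) - 1)) (-1) _ (by omega)
    have hb := bijective_S_whiskerLeft_precomp hT' i M (hMle hge₀ (by omega)) (hMle hge₁ (by omega))
    have hg : DTen.RHomMap ((Q).map T.f) L = eX.inv ≫ (Q).map T'.f ≫ eY.hom := by
      rw [hf, Iso.inv_hom_id_assoc]
    rw [hg]
    have he : (fun u : S A i ⊗ (DTen.RHomR A ((Q).obj T.X₁)).obj L ⟶ M =>
        (S A i ◁ (eX.inv ≫ (Q).map T'.f ≫ eY.hom)) ≫ u) =
        (fun u => (S A i ◁ eX.inv) ≫ u) ∘ (fun u => (S A i ◁ (Q).map T'.f) ≫ u) ∘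
          fun u => (S A i ◁ eY.hom) ≫ u := by
      funext u
      simp only [Function.comp_apply, MonoidalCategory.whiskerLeft_comp, Category.assoc]
    rw [he]
    exact (Iso.homFromEquiv (whiskerLeftIso (S A i) eX)).bijective.comp
      (hb.comp (Iso.homFromEquiv (whiskerLeftIso (S A i) eY.symm)).bijective)
  have hu : Function.Bijective fun t : S A i ⟶ (DTen.RHomR A L).obj M ⊗ (Q).obj T.X₁ =>
      t ≫ ((DTen.RHomR A L).obj M ◁ (Q).map T.f) := by
    have hz : ∀ j, i - 1 ≤ j → Subsingleton (S A j ⟶ (Q).obj (PH ⊗ T.X₃)) := fun j hj =>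
      subsingleton_S_Q j _ (isZero_tensor_X _ _ _ fun p q hpq => by
        by_cases hp : b - n < p
        · exact Or.inl (hPH p hp)
        · exact Or.inr (hm q (by omega)))
    have hb := bijective_whiskerLeft_comp hPHflat hT i (hz i (by omega)) (hz (i - 1) le_rfl)
    have he : (fun t : S A i ⟶ (DTen.RHomR A L).obj M ⊗ (Q).obj T.X₁ =>
        t ≫ ((DTen.RHomR A L).obj M ◁ (Q).map T.f)) =
        (fun t => t ≫ eH.hom ▷ (Q).obj T.X₂) ∘ (fun t => t ≫ ((Q).obj PH ◁ (Q).map T.f)) ∘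
          fun t => t ≫ eH.inv ▷ (Q).obj T.X₁ := by
      funext t
      simp only [Function.comp_apply, Category.assoc]
      rw [whisker_exchange, ← comp_whiskerRight_assoc]
      erw [eH.inv_hom_id]
      rw [id_whiskerRight, Category.id_comp]
    rw [he]
    exact (Iso.homToEquiv (whiskerRightIso eH ((Q).obj T.X₂))).bijective.comp
      (hb.comp (Iso.homToEquiv (whiskerRightIso eH.symm ((Q).obj T.X₁))).bijective)
  have h2 : Function.Bijective fun t : S A i ⟶ (DTen.RHomR A L).obj M ⊗ (Q).obj T.X₂ =>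
      t ≫ DTen.evalHom ((Q).obj T.X₂) L M :=
    bijective_of_square _ _ _ _ (evalHom_natural ((Q).map T.f) L M) hu hv
  have hsq := evalHom_natural eK.hom L M
  have : IsIso (DTen.RHomMap eK.hom L) := isIso_RHomMap _ _
  have : IsIso (DTen.RHomMap (DTen.RHomMap eK.hom L) M) := isIso_RHomMap _ _
  have : IsIso ((DTen.RHomR A L).obj M ◁ eK.hom) := inferInstance
  have he : (fun t : S A i ⟶ (DTen.RHomR A L).obj M ⊗ K => t ≫ DTen.evalHom K L M) =
      (fun t => t ≫ DTen.RHomMap (DTen.RHomMap eK.hom L) M) ∘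
        (fun t => t ≫ DTen.evalHom ((Q).obj T.X₂) L M) ∘ fun t => t ≫ (DTen.RHomR A L).obj M ◁ eK.inv := by
    funext t
    simp only [Function.comp_apply, Category.assoc, ← hsq, ← whiskerLeft_comp_assoc, Iso.inv_hom_id,
      whiskerLeft_id, Category.id_comp]
  exact Eq.mpr (congrArg Function.Bijective he)
    ((Iso.homToEquiv (asIso (DTen.RHomMap (DTen.RHomMap eK.hom L) M))).bijective.comp
      (h2.comp (Iso.homToEquiv (whiskerLeftIso _ eK.symm)).bijective))

theorem isIso_evalTen_of_isPseudoCoherent (E M K : Dual.D A) (hK : DRing.IsPseudoCoherent' A K) (n : ℤ)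
    [M.IsGE n] (hE : DRing.HasFiniteTorDimCx A E) : IsIso (DTen.evalTen E M K) := by
  obtain ⟨a, b, PE, hPE, hflat, ⟨eE⟩⟩ := hE
  have hPEflat : KF.IsKFlat PE := KF.isKFlat_of_vanishesAbove (b := b) (fun i hi => hPE i (Or.inr hi)) hflat
  have hEM : (E ⊗ M).IsGE (a + n) :=
    have := isGE_tensor hPEflat (a := a) (fun p hp => hPE p (Or.inl hp)) M n (a + n) le_rfl
    DerivedCategory.TStructure.t.isGE_of_iso (whiskerRightIso eE M) _
  refine isIso_of_bijective_S _ fun i => ?_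
  obtain ⟨T, -, ⟨eK⟩, hT, hperf, -, -, hm⟩ := exists_approx hK (a + n - i - 2)
  have := isIso_evalTen_of_isPerfect_source E M ((Q).obj T.X₁) hperf
  obtain ⟨T', eX, eY, hT', hf, hge⟩ := exists_split_RHomMap (n := n) hT hm M
  have hv : Function.Bijective fun t : S A i ⟶ (DTen.RHomR A ((Q).obj T.X₂)).obj (E ⊗ M) =>
      t ≫ DTen.RHomMap ((Q).map T.f) (E ⊗ M) := by
    have := hEM
    have := isLE_S_tensor (A := A) i (X := T.X₃) (k := a + n - i - 3) fun q hq => hm q (by omega)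
    have h₀ : Subsingleton ((Q).obj (sCx A i ⊗ T.X₃) ⟶ E ⊗ M) :=
      subsingleton_hom_orth (k := i + (a + n - i - 3)) (n := a + n) (by omega)
    have : (((Q).obj (sCx A i ⊗ T.X₃))⟦(-1 : ℤ)⟧).IsLE (i + (a + n - i - 2)) :=
      DerivedCategory.TStructure.t.isLE_shift _ (i + (a + n - i - 3)) (-1) (i + (a + n - i - 2)) (by omega)
    have h₁ : Subsingleton (((Q).obj (sCx A i ⊗ T.X₃))⟦(-1 : ℤ)⟧ ⟶ E ⊗ M) :=
      subsingleton_hom_orth (k := i + (a + n - i - 2)) (n := a + n) (by omega)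
    exact bijective_comp_RHomMap _ _ _ (bijective_S_whiskerLeft_precomp hT i _ h₀ h₁)
  have hu : Function.Bijective fun t : S A i ⟶ E ⊗ (DTen.RHomR A ((Q).obj T.X₂)).obj M =>
      t ≫ (E ◁ DTen.RHomMap ((Q).map T.f) M) := by
    have hz : ∀ j, j ≤ i → Subsingleton (S A j ⟶ (Q).obj (PE ⊗ T'.X₃)) := fun j hj => by
      have h := isGE_tensor hPEflat (a := a) (fun p hp => hPE p (Or.inl hp)) ((Q).obj T'.X₃)
        (n - (a + n - i - 2) - 1) (i + 1) (by omega)
      have := DerivedCategory.TStructure.t.isGE_of_iso (tensorQIso hPEflat T'.X₃) (i + 1)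
      have : (S A j).IsLE j :=
        have : (sCx A j).IsStrictlyLE j :=
          (CochainComplex.isStrictlyLE_iff _ _).2 fun q hq => vanishesOutside_sCx j q (Or.inr hq)
        inferInstance
      exact subsingleton_hom_orth (k := j) (n := i + 1) (by omega)
    have hb := bijective_whiskerLeft_comp hPEflat hT' i (hz i le_rfl) (hz (i - 1) (by omega))
    have hg : DTen.RHomMap ((Q).map T.f) M = eX.inv ≫ (Q).map T'.f ≫ eY.hom := by
      rw [hf, Iso.inv_hom_id_assoc]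
    rw [hg]
    have he : (fun t : S A i ⟶ E ⊗ (DTen.RHomR A ((Q).obj T.X₂)).obj M =>
        t ≫ (E ◁ (eX.inv ≫ (Q).map T'.f ≫ eY.hom))) =
        (fun t => t ≫ (eE.hom ⊗ₘ eY.hom)) ∘ (fun t => t ≫ ((Q).obj PE ◁ (Q).map T'.f)) ∘
          fun t => t ≫ (eE.inv ⊗ₘ eX.inv) := by
      funext t
      simp only [Function.comp_apply, Category.assoc]
      congr 1
      rw [← MonoidalCategory.id_tensorHom ((Q).obj PE), tensorHom_comp, tensorHom_comp]
      erw [Category.id_comp, eE.inv_hom_id]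
      rw [MonoidalCategory.id_tensorHom]
    rw [he]
    exact (Iso.homToEquiv (eE ⊗ᵢ eY)).bijective.comp (hb.comp (Iso.homToEquiv (eE.symm ⊗ᵢ eX.symm)).bijective)
  have h2 : Function.Bijective fun t : S A i ⟶ E ⊗ (DTen.RHomR A ((Q).obj T.X₂)).obj M =>
      t ≫ DTen.evalTen E M ((Q).obj T.X₂) :=
    bijective_of_square' _ _ _ _ (evalTen_natural E M ((Q).map T.f)).symm hu hv
  have hsq := evalTen_natural E M eK.inv
  have he : (fun t : S A i ⟶ E ⊗ (DTen.RHomR A K).obj M => t ≫ DTen.evalTen E M K) =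
      (fun t => t ≫ DTen.RHomMap eK.inv (E ⊗ M)) ∘
        (fun t => t ≫ DTen.evalTen E M ((Q).obj T.X₂)) ∘ fun t => t ≫ E ◁ DTen.RHomMap eK.hom M := by
    funext t
    simp only [Function.comp_apply, Category.assoc, hsq, ← whiskerLeft_comp_assoc]
    rw [show DTen.RHomMap eK.hom M ≫ DTen.RHomMap eK.inv M = 𝟙 _ from
      ((congrArg (fun g => g.app M) ((DTen.RHom A).map_comp eK.hom.op eK.inv.op)).symm.trans (by
        rw [← op_comp, Iso.inv_hom_id, op_id, CategoryTheory.Functor.map_id]; rfl))]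
    rw [whiskerLeft_id, Category.id_comp]
  have : IsIso (DTen.RHomMap eK.inv (E ⊗ M)) := isIso_RHomMap _ _
  have : IsIso (DTen.RHomMap eK.hom M) := isIso_RHomMap _ _
  exact Eq.mpr (congrArg Function.Bijective he)
    ((Iso.homToEquiv (asIso (DTen.RHomMap eK.inv (E ⊗ M)))).bijective.comp
      (h2.comp (Iso.homToEquiv (whiskerLeftIso E (asIso (DTen.RHomMap eK.hom M)))).bijective))

end

end GrothLib.DT
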