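import Groth.Agent.Lib.DTen.ResCx
import Groth.Agent.Lib.DTen.WayOut

/-! # Base change for derived hom -/

set_option autoImplicit false
set_option maxHeartbeats 1000000
set_option backward.isDefEq.respectTransparency false
universe u

open CategoryTheory CategoryTheory.Limits MonoidalCategory HomologicalComplex

attribute [local instance] HasDerivedCategory.standard

namespace GrothLib.DT

variable {R R' : Type u} [CommRing R] [CommRing R'] (φ : R →+* R')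

local notation "G" => DRing.restrictD φ

theorem isIso_of_isIso_restrictD {X Y : Dual.D R'} (f : X ⟶ Y) [IsIso ((G).map f)] : IsIso f := by
  obtain ⟨P, -, ⟨eX⟩⟩ := exists_Q_iso X
  obtain ⟨N, -, ⟨eY⟩⟩ := exists_Q_iso Y
  obtain ⟨P', s, hs, g, hg⟩ := DerivedCategory.right_fac (eX.hom ≫ f ≫ eY.inv)
  have h1 : IsIso ((G).map (DerivedCategory.Q.map g)) := by
    have e : DerivedCategory.Q.map g = DerivedCategory.Q.map s ≫ eX.hom ≫ f ≫ eY.inv := by
      rw [hg, IsIso.hom_inv_id_assoc]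
    rw [e, Functor.map_comp, Functor.map_comp, Functor.map_comp]
    infer_instance
  have h2 : IsIso (DerivedCategory.Q.map ((DTen.resCx φ).map g)) :=
    (NatIso.isIso_map_iff (DTen.resFactors φ) g).1 h1
  have h3 : QuasiIso g :=
    (HomologicalComplex.quasiIso_map_iff_of_preservesHomology g (ModuleCat.restrictScalars.{u} φ)).1
      ((DerivedCategory.isIso_Q_map_iff_quasiIso _ _).1 h2)
  have h4 := (DerivedCategory.isIso_Q_map_iff_quasiIso _ g).2 h3
  have h5 : IsIso (eX.hom ≫ f ≫ eY.inv) := by rw [hg]; infer_instance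
  have h6 : f = eX.inv ≫ (eX.hom ≫ f ≫ eY.inv) ≫ eY.hom := by
    simp only [Category.assoc, Iso.inv_hom_id, Category.comp_id, Iso.inv_hom_id_assoc]
  rw [h6]
  infer_instance

section

variable [DTen.HasLTen R] [DTen.HasLTen₃ R] [DTen.IsSymMonoidal R]
  [DTen.HasLTen R'] [DTen.HasLTen₃ R'] [DTen.IsSymMonoidal R'] [DTen.HasResTen φ] [DTen.ResLegIso φ]

/-- The lax structure of derived restriction. -/
noncomputable abbrev P₂ (E F : Dual.D R') : (G).obj E ⊗ (G).obj F ⟶ (G).obj (E ⊗ F) := (DTen.resPF φ).app (E, F)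

theorem P₂_natural {E E' F F' : Dual.D R'} (f : E ⟶ E') (g : F ⟶ F') :
    ((G).map f ⊗ₘ (G).map g) ≫ P₂ φ E' F' = P₂ φ E F ≫ (G).map (f ⊗ₘ g) :=
  (DTen.resPF φ).naturality (Prod.mkHom f g)

theorem P₂_natural_right (E : Dual.D R') {F F' : Dual.D R'} (g : F ⟶ F') :
    (G).obj E ◁ (G).map g ≫ P₂ φ E F' = P₂ φ E F ≫ (G).map (E ◁ g) := by
  have h := P₂_natural φ (𝟙 E) g
  rwa [CategoryTheory.Functor.map_id, id_tensorHom, id_tensorHom] at h

theorem P₂_natural_left {E E' : Dual.D R'} (f : E ⟶ E') (F : Dual.D R') :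
    (G).map f ▷ (G).obj F ≫ P₂ φ E' F = P₂ φ E F ≫ (G).map (f ▷ F) := by
  have h := P₂_natural φ f (𝟙 F)
  rwa [CategoryTheory.Functor.map_id, tensorHom_id, tensorHom_id] at h

/-- The identification of restriction on complexes. -/
noncomputable abbrev rF (Y : DRing.Cx R') :
    (G).obj (DerivedCategory.Q.obj Y) ⟶ DerivedCategory.Q.obj ((DTen.resCx φ).obj Y) :=
  (DTen.resFactors φ).hom.app Y

theorem rF_natural {Y Z : DRing.Cx R'} (g : Y ⟶ Z) :
    (G).map (DerivedCategory.Q.map g) ≫ rF φ Z = rF φ Y ≫ DerivedCategory.Q.map ((DTen.resCx φ).map g) :=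
  (DTen.resFactors φ).hom.naturality g

theorem P₂_fac (Y Y' : DRing.Cx R') :
    P₂ φ (DerivedCategory.Q.obj Y) (DerivedCategory.Q.obj Y') ≫ (G).map (μ Y Y') ≫ rF φ (Y ⊗ Y') =
      (rF φ Y ⊗ₘ rF φ Y') ≫ μ ((DTen.resCx φ).obj Y) ((DTen.resCx φ).obj Y') ≫
        DerivedCategory.Q.map (DTen.resTenCx φ Y Y') :=
  DTen.resPF_fac φ (Y, Y')

/-- The action of the restricted unit on a restricted object. -/
noncomputable def mAct (E : Dual.D R') : (G).obj (𝟙_ (Dual.D R')) ⊗ (G).obj E ⟶ (G).obj E :=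
  P₂ φ (𝟙_ (Dual.D R')) E ≫ (G).map (λ_ E).hom

theorem mAct_natural {E F : Dual.D R'} (f : E ⟶ F) :
    (G).obj (𝟙_ (Dual.D R')) ◁ (G).map f ≫ mAct φ F = mAct φ E ≫ (G).map f := by
  rw [mAct, mAct, reassoc_of% (P₂_natural_right φ (𝟙_ (Dual.D R')) f), Category.assoc, ← Functor.map_comp,
    ← Functor.map_comp, leftUnitor_naturality]

theorem mAct_Q (Y : DRing.Cx R') :
    mAct φ (DerivedCategory.Q.obj Y) ≫ rF φ Y =
      (rF φ (𝟙_ (DRing.Cx R')) ⊗ₘ rF φ Y) ≫ μ ((DTen.resCx φ).obj (𝟙_ (DRing.Cx R'))) ((DTen.resCx φ).obj Y) ≫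
        DerivedCategory.Q.map (ResCx.aCx φ Y) := by
  rw [mAct, Category.assoc, unitL_fac]
  erw [Functor.map_comp]
  rw [Category.assoc, rF_natural]
  erw [reassoc_of% (P₂_fac φ (𝟙_ (DRing.Cx R')) Y)]
  rw [ResCx.aCx, Functor.map_comp]

theorem mAct_linear (E F : Dual.D R') :
    mAct φ E ▷ (G).obj F ≫ P₂ φ E F =
      (α_ ((G).obj (𝟙_ (Dual.D R'))) ((G).obj E) ((G).obj F)).hom ≫
        (G).obj (𝟙_ (Dual.D R')) ◁ P₂ φ E F ≫ mAct φ (E ⊗ F) := by
  obtain ⟨Y, hY, ⟨eE⟩⟩ := exists_Q_iso E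
  obtain ⟨Z, -, ⟨eF⟩⟩ := exists_Q_iso F
  have key : mAct φ (DerivedCategory.Q.obj Y) ▷ (G).obj (DerivedCategory.Q.obj Z) ≫
      P₂ φ (DerivedCategory.Q.obj Y) (DerivedCategory.Q.obj Z) =
      (α_ ((G).obj (𝟙_ (Dual.D R'))) ((G).obj (DerivedCategory.Q.obj Y)) ((G).obj (DerivedCategory.Q.obj Z))).hom ≫
        (G).obj (𝟙_ (Dual.D R')) ◁ P₂ φ (DerivedCategory.Q.obj Y) (DerivedCategory.Q.obj Z) ≫
          mAct φ (DerivedCategory.Q.obj Y ⊗ DerivedCategory.Q.obj Z) := by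
    have := isIso_μ hY Z
    rw [← cancel_mono ((G).map (μ Y Z) ≫ rF φ (Y ⊗ Z))]
    simp only [Category.assoc]
    rw [P₂_fac, ← tensorHom_id, ← Category.assoc, tensorHom_comp_tensorHom, mAct_Q, Category.id_comp]
    rw [show (((rF φ (𝟙_ (DRing.Cx R')) ⊗ₘ rF φ Y) ≫ μ ((DTen.resCx φ).obj (𝟙_ (DRing.Cx R'))) ((DTen.resCx φ).obj Y) ≫
        DerivedCategory.Q.map (ResCx.aCx φ Y)) ⊗ₘ rF φ Z) =
      ((rF φ (𝟙_ (DRing.Cx R')) ⊗ₘ rF φ Y) ⊗ₘ rF φ Z) ≫ (μ _ _ ⊗ₘ 𝟙 _) ≫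
        (DerivedCategory.Q.map (ResCx.aCx φ Y) ⊗ₘ 𝟙 _) from by
      rw [tensorHom_comp_tensorHom, tensorHom_comp_tensorHom]; simp only [Category.comp_id]]
    simp only [Category.assoc]
    rw [reassoc_of% (μ_natural_right (ResCx.aCx φ Y) ((DTen.resCx φ).obj Z)), ← Functor.map_comp,
      ResCx.aCx_linear]
    rw [← reassoc_of% (mAct_natural φ (μ Y Z)), mAct_Q]
    symm
    simp only [← id_tensorHom, tensorHom_comp_tensorHom_assoc, Category.id_comp, Category.comp_id, Category.assoc]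
    rw [P₂_fac]
    rw [show (rF φ (𝟙_ (DRing.Cx R')) ⊗ₘ (rF φ Y ⊗ₘ rF φ Z) ≫ μ ((DTen.resCx φ).obj Y) ((DTen.resCx φ).obj Z) ≫
        DerivedCategory.Q.map (DTen.resTenCx φ Y Z)) =
      (rF φ (𝟙_ (DRing.Cx R')) ⊗ₘ (rF φ Y ⊗ₘ rF φ Z)) ≫ (𝟙 _ ⊗ₘ μ _ _) ≫
        (𝟙 _ ⊗ₘ DerivedCategory.Q.map (DTen.resTenCx φ Y Z)) from by
      rw [tensorHom_comp_tensorHom, tensorHom_comp_tensorHom]; simp only [Category.comp_id]]
    simp only [Category.assoc]
    erw [reassoc_of% (μ_natural_left ((DTen.resCx φ).obj (𝟙_ (DRing.Cx R'))) (DTen.resTenCx φ Y Z))]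
    erw [← associator_naturality_assoc]
    erw [reassoc_of% (assoc_fac ((DTen.resCx φ).obj (𝟙_ (DRing.Cx R'))) ((DTen.resCx φ).obj Y)
        ((DTen.resCx φ).obj Z))]
    simp only [← Functor.map_comp, id_tensorHom, tensorHom_id]
    rw [← tensorHom_id, tensorHom_comp_tensorHom_assoc, Category.comp_id]
  have : IsIso (((G).obj (𝟙_ (Dual.D R')) ◁ (G).map eE.hom) ⊗ₘ (G).map eF.hom) := inferInstance
  rw [← cancel_epi (((G).obj (𝟙_ (Dual.D R')) ◁ (G).map eE.hom) ⊗ₘ (G).map eF.hom)]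
  have hl : (((G).obj (𝟙_ (Dual.D R')) ◁ (G).map eE.hom) ⊗ₘ (G).map eF.hom) ≫ mAct φ E ▷ (G).obj F ≫ P₂ φ E F =
      mAct φ (DerivedCategory.Q.obj Y) ▷ (G).obj (DerivedCategory.Q.obj Z) ≫ P₂ φ _ _ ≫
        (G).map (eE.hom ⊗ₘ eF.hom) := by
    rw [← P₂_natural, ← tensorHom_id, ← tensorHom_id, tensorHom_comp_tensorHom_assoc,
      tensorHom_comp_tensorHom_assoc, mAct_natural, Category.comp_id, Category.id_comp]
  rw [hl, reassoc_of% key, ← id_tensorHom, ← id_tensorHom, ← id_tensorHom, associator_naturality_assoc,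
    tensorHom_comp_tensorHom_assoc, Category.comp_id, P₂_natural, ← mAct_natural, ← id_tensorHom,
    tensorHom_comp_tensorHom_assoc, Category.comp_id]

variable [DTen.HasLBase φ]

local notation "Lb" => DTen.LBase φ

/-- The oplax structure of derived base change. -/
noncomputable def cBase (X K : Dual.D R) : (Lb).obj (X ⊗ K) ⟶ (Lb).obj X ⊗ (Lb).obj K :=
  ((DTen.baseAdj φ).homEquiv _ _).symm (((DTen.baseAdj φ).unit.app X ⊗ₘ (DTen.baseAdj φ).unit.app K) ≫ P₂ φ _ _)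

theorem cBase_fac (X K : Dual.D R) :
    (DTen.baseAdj φ).unit.app (X ⊗ K) ≫ (G).map (cBase φ X K) = ((DTen.baseAdj φ).unit.app X ⊗ₘ (DTen.baseAdj φ).unit.app K) ≫ P₂ φ _ _ := by
  exact ((DTen.baseAdj φ).homEquiv_unit _ _ _).symm.trans (Equiv.apply_symm_apply _ _)

theorem cBase_natural {X X' K K' : Dual.D R} (f : X ⟶ X') (g : K ⟶ K') :
    (Lb).map (f ⊗ₘ g) ≫ cBase φ X' K' = cBase φ X K ≫ ((Lb).map f ⊗ₘ (Lb).map g) := by
  apply ((DTen.baseAdj φ).homEquiv _ _).injective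
  rw [Adjunction.homEquiv_unit, Adjunction.homEquiv_unit, Functor.map_comp, Functor.map_comp,
    (DTen.baseAdj φ).unit_naturality_assoc, cBase_fac, reassoc_of% (cBase_fac φ X K), ← P₂_natural,
    tensorHom_comp_tensorHom_assoc, tensorHom_comp_tensorHom_assoc, (DTen.baseAdj φ).unit_naturality f,
    (DTen.baseAdj φ).unit_naturality g]

theorem baseγ_rF (P : DRing.Cx R) :
    ((DTen.baseAdj φ).unit.app (DerivedCategory.Q.obj P)) ≫ (G).map ((DTen.baseCmp φ).app P) ≫ rF φ ((DTen.extCx φ).obj P) =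
      DerivedCategory.Q.map ((DTen.unitCx φ).app P) := by
  rw [← Category.assoc, DTen.baseCmp_fac]
  exact (Category.assoc _ _ _).trans ((congrArg (DerivedCategory.Q.map ((DTen.unitCx φ).app P) ≫ ·)
    ((DTen.resFactors φ).inv_hom_id_app ((DTen.extCx φ).obj P))).trans (Category.comp_id _))

theorem isIso_cBase (X K : Dual.D R) : IsIso (cBase φ X K) := by
  obtain ⟨P, hP, ⟨eX⟩⟩ := exists_Q_iso X
  obtain ⟨N, hN, ⟨eK⟩⟩ := exists_Q_iso K
  have := isIso_baseCmp φ hP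
  have := isIso_baseCmp φ hN
  have := isIso_baseCmp φ (K := P ⊗ N) (isKFlat_tensor hP hN)
  have := isIso_μ (isKFlat_extCx φ hP) ((DTen.extCx φ).obj N)
  have := isIso_μ hP N
  have : IsIso (cBase φ (DerivedCategory.Q.obj P) (DerivedCategory.Q.obj N)) := by
    have e : cBase φ (DerivedCategory.Q.obj P) (DerivedCategory.Q.obj N) ≫
        (((DTen.baseCmp φ).app P ⊗ₘ (DTen.baseCmp φ).app N) ≫ μ ((DTen.extCx φ).obj P) ((DTen.extCx φ).obj N)) =
        (Lb).map (μ P N) ≫ (DTen.baseCmp φ).app (P ⊗ N) ≫ DerivedCategory.Q.map (DR.bcTensorIso φ P N).hom := by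
      apply ((DTen.baseAdj φ).homEquiv _ _).injective
      rw [Adjunction.homEquiv_unit, Adjunction.homEquiv_unit, ← cancel_mono (rF φ _)]
      simp only [Functor.map_comp, Category.assoc]
      rw [reassoc_of% (cBase_fac φ _ _), ← reassoc_of% (P₂_natural φ ((DTen.baseCmp φ).app P) ((DTen.baseCmp φ).app N)),
        P₂_fac, tensorHom_comp_tensorHom_assoc, tensorHom_comp_tensorHom_assoc, Category.assoc, Category.assoc,
        baseγ_rF, baseγ_rF,
        reassoc_of% (μ_natural ((DTen.unitCx φ).app P) ((DTen.unitCx φ).app N))]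
      symm
      rw [(DTen.baseAdj φ).unit_naturality_assoc]
      erw [rF_natural, reassoc_of% (baseγ_rF φ (P ⊗ N))]
      rw [← Functor.map_comp, ← Functor.map_comp]
      exact congrArg (fun t => μ P N ≫ DerivedCategory.Q.map t) (ResCx.unitCx_tensor φ P N)
    have : IsIso (cBase φ (DerivedCategory.Q.obj P) (DerivedCategory.Q.obj N) ≫
        (((DTen.baseCmp φ).app P ⊗ₘ (DTen.baseCmp φ).app N) ≫ μ ((DTen.extCx φ).obj P) ((DTen.extCx φ).obj N))) := by
      rw [e]; infer_instance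
    exact IsIso.of_isIso_comp_right _
      (((DTen.baseCmp φ).app P ⊗ₘ (DTen.baseCmp φ).app N) ≫ μ ((DTen.extCx φ).obj P) ((DTen.extCx φ).obj N))
  have : IsIso ((Lb).map (eX.hom ⊗ₘ eK.hom) ≫ cBase φ X K) := by
    rw [cBase_natural]; infer_instance
  exact IsIso.of_isIso_comp_left ((Lb).map (eX.hom ⊗ₘ eK.hom)) _

/-- The projection formula map at the unit. -/
noncomputable def qProj (X : Dual.D R) : (G).obj (𝟙_ (Dual.D R')) ⊗ X ⟶ (G).obj ((Lb).obj X) :=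
  (G).obj (𝟙_ (Dual.D R')) ◁ (DTen.baseAdj φ).unit.app X ≫ mAct φ ((Lb).obj X)

theorem isIso_qProj (X : Dual.D R) : IsIso (qProj φ X) := by
  obtain ⟨N, hN, ⟨e⟩⟩ := exists_Q_iso X
  have := isIso_baseCmp φ hN
  have := ResCx.isIso_projCx φ N
  have := isIso_ε_right ((DTen.resCx φ).obj (𝟙_ (DRing.Cx R'))) hN
  have : IsIso (qProj φ (DerivedCategory.Q.obj N)) := by
    have h : qProj φ (DerivedCategory.Q.obj N) ≫ (G).map ((DTen.baseCmp φ).app N) ≫ rF φ _ =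
        rF φ (𝟙_ (DRing.Cx R')) ▷ DerivedCategory.Q.obj N ≫ μ ((DTen.resCx φ).obj (𝟙_ (DRing.Cx R'))) N ≫
          DerivedCategory.Q.map (ResCx.projCx φ N ≫ (DTen.resCx φ).map (λ_ ((DTen.extCx φ).obj N)).hom) := by
      rw [qProj, Category.assoc, ← reassoc_of% (mAct_natural φ ((DTen.baseCmp φ).app N)), mAct_Q,
        ← id_tensorHom, ← id_tensorHom, tensorHom_comp_tensorHom_assoc]
      erw [tensorHom_comp_tensorHom_assoc]
      simp only [Category.id_comp, Category.assoc]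
      erw [baseγ_rF]
      rw [show (rF φ (𝟙_ (DRing.Cx R')) ⊗ₘ DerivedCategory.Q.map ((DTen.unitCx φ).app N)) =
        rF φ (𝟙_ (DRing.Cx R')) ▷ DerivedCategory.Q.obj N ≫
          (𝟙 _ ⊗ₘ DerivedCategory.Q.map ((DTen.unitCx φ).app N)) from by rw [tensorHom_def, id_tensorHom]; rfl]
      rw [Category.assoc, reassoc_of% (μ_natural_left ((DTen.resCx φ).obj (𝟙_ (DRing.Cx R'))) ((DTen.unitCx φ).app N)),
        ← Functor.map_comp, ResCx.projCx, ResCx.aCx, Category.assoc]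
    have : IsIso (qProj φ (DerivedCategory.Q.obj N) ≫ (G).map ((DTen.baseCmp φ).app N) ≫ rF φ _) := by
      rw [h]; infer_instance
    exact IsIso.of_isIso_comp_right _ ((G).map ((DTen.baseCmp φ).app N) ≫ rF φ _)
  have : IsIso ((G).obj (𝟙_ (Dual.D R')) ◁ e.hom ≫ qProj φ X) := by
    have h : (G).obj (𝟙_ (Dual.D R')) ◁ e.hom ≫ qProj φ X =
        qProj φ (DerivedCategory.Q.obj N) ≫ (G).map ((Lb).map e.hom) := by
      rw [qProj, qProj, Category.assoc, ← mAct_natural, ← whiskerLeft_comp_assoc, ← whiskerLeft_comp_assoc,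
        (DTen.baseAdj φ).unit_naturality]
    rw [h]; infer_instance
  exact IsIso.of_isIso_comp_left ((G).obj (𝟙_ (Dual.D R')) ◁ e.hom) _

variable [DTen.HasRHom R] [DTen.HasRHom R']

theorem isIso_rhomBC (K : Dual.D R) (M : Dual.D R') : IsIso (DTen.rhomBC φ K M) := by
  refine (isIso_iff_yoneda_map_bijective _).2 fun X => ?_
  let e : (X ⟶ (G).obj ((DTen.RHomR R' ((Lb).obj K)).obj M)) ≃ (X ⟶ (DTen.RHomR R K).obj ((G).obj M)) :=
    ((((DTen.baseAdj φ).homEquiv X _).symm.trans (DTen.rhomHomEquiv ((Lb).obj X) ((Lb).obj K) M).symm).trans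
      ((Iso.homFromEquiv (@asIso _ _ _ _ (cBase φ X K) (isIso_cBase φ X K)).symm).trans
        ((DTen.baseAdj φ).homEquiv (X ⊗ K) M))).trans (DTen.rhomHomEquiv X K ((G).obj M))
  have he : (fun t : X ⟶ (G).obj ((DTen.RHomR R' ((Lb).obj K)).obj M) => t ≫ DTen.rhomBC φ K M) = e := by
    funext t
    obtain ⟨v, rfl⟩ := ((DTen.baseAdj φ).homEquiv X _).surjective t
    simp only [e, Equiv.trans_apply, Equiv.symm_apply_apply]
    refine (Equiv.symm_apply_eq _).1 ?_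
    rw [rhom_symm]
    erw [rhom_symm]
    rw [comp_whiskerRight, Category.assoc,
      show DTen.rhomBC φ K M ▷ K ≫ DTen.ev K ((G).obj M) = DTen.rhomBCCore φ K M from DTen.rhomBC_fac φ K M]
    change _ = (DTen.baseAdj φ).homEquiv (X ⊗ K) M (cBase φ X K ≫ v ▷ _ ≫ DTen.ev _ M)
    rw [Adjunction.homEquiv_unit, Adjunction.homEquiv_unit, Functor.map_comp, Functor.map_comp,
      reassoc_of% (cBase_fac φ X K), ← reassoc_of% (P₂_natural_left φ v ((Lb).obj K)), tensorHom_def,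
      comp_whiskerRight]
    simp only [Category.assoc]
    rw [whisker_exchange_assoc]
    rfl
  rw [he]
  exact e.bijective

variable (K M : Dual.D R) [IsIso (DTen.rhomBC φ K ((DTen.LBase φ).obj M))]

theorem bcRHom_evalTen :
    qProj φ ((DTen.RHomR R K).obj M) ≫ (G).map (DTen.bcRHom φ K M) ≫ DTen.rhomBC φ K ((Lb).obj M) =
      DTen.evalTen ((G).obj (𝟙_ (Dual.D R'))) M K ≫ (DTen.RHomR R K).map (qProj φ M) := by
  set b := ((DTen.baseAdj φ).unit.app ((DTen.RHomR R K).obj M)) ≫ (G).map (DTen.bcRHom φ K M) with hb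
  have hb' : b ▷ K ≫ DTen.rhomBCCore φ K ((Lb).obj M) = DTen.ev K M ≫ (DTen.baseAdj φ).unit.app M := by
    rw [← DTen.rhomBC_fac]
    change b ▷ K ≫ DTen.rhomBC φ K ((Lb).obj M) ▷ K ≫ _ = _
    rw [← comp_whiskerRight_assoc, hb, DTen.bcRHom_fac, Category.assoc, IsIso.inv_hom_id, Category.comp_id]
    exact (DTen.rhomAdj R K).counit.naturality ((DTen.baseAdj φ).unit.app M)
  have hq : qProj φ ((DTen.RHomR R K).obj M) ≫ (G).map (DTen.bcRHom φ K M) =
      (G).obj (𝟙_ (Dual.D R')) ◁ b ≫ mAct φ _ := by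
    rw [qProj, Category.assoc, ← mAct_natural, ← whiskerLeft_comp_assoc]
  apply (DTen.rhomHomEquiv _ _ _).symm.injective
  rw [rhom_symm, rhom_symm, reassoc_of% hq]
  simp only [comp_whiskerRight, Category.assoc]
  have e1 : DTen.rhomBC φ K ((Lb).obj M) ▷ K ≫ DTen.ev K ((G).obj ((Lb).obj M)) =
      DTen.rhomBCCore φ K ((Lb).obj M) := DTen.rhomBC_fac φ K _
  have e2 : DTen.evalTen ((G).obj (𝟙_ (Dual.D R'))) M K ▷ K ≫ DTen.ev K ((G).obj (𝟙_ (Dual.D R')) ⊗ M) =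
      DTen.evalTenAux ((G).obj (𝟙_ (Dual.D R'))) M K := DTen.evalTen_fac _ M K
  have e3 : (DTen.RHomR R K).map (qProj φ M) ▷ K ≫ DTen.ev K ((G).obj ((Lb).obj M)) =
      DTen.ev K ((G).obj (𝟙_ (Dual.D R')) ⊗ M) ≫ qProj φ M := (DTen.rhomAdj R K).counit.naturality (qProj φ M)
  rw [e1, e3, reassoc_of% e2]
  have e4 : DTen.evalTenAux ((G).obj (𝟙_ (Dual.D R'))) M K =
      (α_ _ ((DTen.RHomR R K).obj M) K).hom ≫ (G).obj (𝟙_ (Dual.D R')) ◁ DTen.ev K M := rfl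
  rw [e4, Category.assoc]
  change _ ≫ _ ≫ (G).obj ((DTen.RHomR R' _).obj _) ◁ (DTen.baseAdj φ).unit.app K ≫ P₂ φ _ _ ≫ (G).map (DTen.ev _ _) = _
  rw [← whisker_exchange_assoc]
  erw [reassoc_of% (mAct_linear φ ((DTen.RHomR R' ((Lb).obj K)).obj ((Lb).obj M)) ((Lb).obj K))]
  rw [← mAct_natural]
  erw [associator_naturality_right_assoc, associator_naturality_middle_assoc]
  simp only [← whiskerLeft_comp_assoc]
  rw [show b ▷ K ≫ (G).obj ((DTen.RHomR R' ((Lb).obj K)).obj ((Lb).obj M)) ◁ (DTen.baseAdj φ).unit.app K ≫ P₂ φ _ _ ≫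
      (G).map (DTen.ev ((Lb).obj K) ((Lb).obj M)) = DTen.ev K M ≫ (DTen.baseAdj φ).unit.app M from hb',
    whiskerLeft_comp_assoc]
  rfl

theorem isIso_bcRHom (h : IsIso (DTen.evalTen ((G).obj (𝟙_ (Dual.D R'))) M K)) : IsIso (DTen.bcRHom φ K M) := by
  have := isIso_qProj φ M
  have := isIso_qProj φ ((DTen.RHomR R K).obj M)
  have : IsIso (qProj φ ((DTen.RHomR R K).obj M) ≫ (G).map (DTen.bcRHom φ K M) ≫ DTen.rhomBC φ K ((Lb).obj M)) := by
    rw [bcRHom_evalTen]; infer_instance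
  have := IsIso.of_isIso_comp_left (qProj φ ((DTen.RHomR R K).obj M))
    ((G).map (DTen.bcRHom φ K M) ≫ DTen.rhomBC φ K ((Lb).obj M))
  have := IsIso.of_isIso_comp_right ((G).map (DTen.bcRHom φ K M)) (DTen.rhomBC φ K ((Lb).obj M))
  exact isIso_of_isIso_restrictD φ _

end

end GrothLib.DT
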