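import Groth.Agent.Lib.DCxRHom.HomAssoc
import Groth.Prelude.Def_DTen
import Mathlib.CategoryTheory.Monoidal.Braided.Basic

/-! # The symmetric monoidal category of complexes of modules, on elements

The elementwise formulas for the unitors, associator and whiskerings are those of `Groth.Agent.S7016`.
`braidCx` satisfies the axioms of a symmetry.
-/

set_option autoImplicit false
universe u
open CategoryTheory CategoryTheory.Limits MonoidalCategory HomologicalComplex GrothLib.RH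
open scoped TensorProduct
attribute [local instance] HasDerivedCategory.standard

namespace GrothLib.DT.Cx

variable {R : Type u} [CommRing R]

/-- The coefficient in degree zero. -/
noncomputable def scal : (𝟙_ (DRing.Cx R)).X 0 →ₗ[R] R :=
  (singleObjXSelf (ComplexShape.up ℤ) 0 (ModuleCat.of R R)).hom.hom

/-- The unit in degree zero. -/
noncomputable def one₀ : (𝟙_ (DRing.Cx R)).X 0 :=
  (singleObjXSelf (ComplexShape.up ℤ) 0 (ModuleCat.of R R)).inv (1 : R)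

lemma eq_scal (c : (𝟙_ (DRing.Cx R)).X 0) : c = scal c • one₀ := by
  change c = scal c • (singleObjXSelf (ComplexShape.up ℤ) 0 (ModuleCat.of R R)).inv (1 : R)
  rw [← map_smul]
  change c = (singleObjXSelf (ComplexShape.up ℤ) 0 (ModuleCat.of R R)).inv (scal c * 1)
  rw [mul_one]
  exact (ConcreteCategory.congr_hom (singleObjXSelf (ComplexShape.up ℤ) 0 (ModuleCat.of R R)).hom_inv_id c).symm

lemma rightUnitor_inv_f (K : DRing.Cx R) (q : ℤ) (x : K.X q) :
    (ρ_ K).inv.f q x = ιT K (𝟙_ (DRing.Cx R)) q 0 q (add_zero q) (x ⊗ₜ one₀) :=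
  ConcreteCategory.congr_hom (HomologicalComplex.rightUnitor'_inv K q) x

lemma leftUnitor_inv_f (K : DRing.Cx R) (q : ℤ) (x : K.X q) :
    (λ_ K).inv.f q x = ιT (𝟙_ (DRing.Cx R)) K 0 q q (zero_add q) (one₀ ⊗ₜ x) :=
  ConcreteCategory.congr_hom (HomologicalComplex.leftUnitor'_inv K q) x

lemma rightUnitor_hom_ι (K : DRing.Cx R) (q : ℤ) (x : K.X q) (c : (𝟙_ (DRing.Cx R)).X 0) :
    (ρ_ K).hom.f q (ιT K (𝟙_ (DRing.Cx R)) q 0 q (add_zero q) (x ⊗ₜ c)) = scal c • x := by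
  let G := ((ρ_ K).hom.f q).hom.comp ((ιT K (𝟙_ (DRing.Cx R)) q 0 q (add_zero q)).hom.comp
    (TensorProduct.mk R (K.X q) ((𝟙_ (DRing.Cx R)).X 0) x))
  change G c = _
  rw [show G c = G (scal c • one₀) from congrArg G (eq_scal c), map_smul]
  refine congrArg (scal c • ·) ?_
  exact (congrArg ((ρ_ K).hom.f q) (rightUnitor_inv_f K q x).symm).trans (ConcreteCategory.congr_hom
    (HomologicalComplex.congr_hom (ρ_ K).inv_hom_id q) x)

lemma leftUnitor_hom_ι (K : DRing.Cx R) (q : ℤ) (x : K.X q) (c : (𝟙_ (DRing.Cx R)).X 0) :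
    (λ_ K).hom.f q (ιT (𝟙_ (DRing.Cx R)) K 0 q q (zero_add q) (c ⊗ₜ x)) = scal c • x := by
  let G := ((λ_ K).hom.f q).hom.comp ((ιT (𝟙_ (DRing.Cx R)) K 0 q q (zero_add q)).hom.comp
    ((TensorProduct.mk R ((𝟙_ (DRing.Cx R)).X 0) (K.X q)).flip x))
  change G c = _
  rw [show G c = G (scal c • one₀) from congrArg G (eq_scal c), map_smul]
  refine congrArg (scal c • ·) ?_
  exact (congrArg ((λ_ K).hom.f q) (leftUnitor_inv_f K q x).symm).trans (ConcreteCategory.congr_hom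
    (HomologicalComplex.congr_hom (λ_ K).inv_hom_id q) x)

lemma whiskerLeft_ι (K : DRing.Cx R) {L L' : DRing.Cx R} (g : L ⟶ L') (p r s : ℤ) (h : p + r = s)
    (x : K.X p) (y : L.X r) :
    (K ◁ g).f s (ιT K L p r s h (x ⊗ₜ y)) = ιT K L' p r s h (x ⊗ₜ g.f r y) :=
  ConcreteCategory.congr_hom (HomologicalComplex.ι_mapBifunctorMap (f₁ := 𝟙 K) (f₂ := g)
    (F := curriedTensor (ModuleCat.{u} R)) (c := ComplexShape.up ℤ) p r s h) (x ⊗ₜ y)

lemma whiskerRight_ι {K K' : DRing.Cx R} (f : K ⟶ K') (L : DRing.Cx R) (p r s : ℤ) (h : p + r = s)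
    (x : K.X p) (y : L.X r) :
    (f ▷ L).f s (ιT K L p r s h (x ⊗ₜ y)) = ιT K' L p r s h (f.f p x ⊗ₜ y) :=
  ConcreteCategory.congr_hom (HomologicalComplex.ι_mapBifunctorMap (f₁ := f) (f₂ := 𝟙 L)
    (F := curriedTensor (ModuleCat.{u} R)) (c := ComplexShape.up ℤ) p r s h) (x ⊗ₜ y)

lemma associator_ι (K L M : DRing.Cx R) (p q r s pq qr : ℤ) (hpq : p + q = pq) (hqr : q + r = qr)
    (h : pq + r = s) (h' : p + qr = s) (x : K.X p) (y : L.X q) (z : M.X r) :
    (α_ K L M).hom.f s (ιT (tens K L) M pq r s h (ιT K L p q pq hpq (x ⊗ₜ y) ⊗ₜ z)) =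
      ιT K (tens L M) p qr s h' (x ⊗ₜ ιT L M q r qr hqr (y ⊗ₜ z)) := by
  have hh := HomologicalComplex.ι_mapBifunctorAssociatorX_hom (curriedAssociatorNatIso (ModuleCat.{u} R))
    K L M (ComplexShape.up ℤ) (ComplexShape.up ℤ) (ComplexShape.up ℤ) p q r s
    (show p + q + r = s by omega)
  rw [HomologicalComplex.mapBifunctor₁₂.ι_eq _ _ _ _ _ _ _ p q r pq s hpq h,
    HomologicalComplex.mapBifunctor₂₃.ι_eq _ _ _ _ _ _ _ _ p q r qr s hqr h'] at hh
  exact ConcreteCategory.congr_hom hh ((x ⊗ₜ y) ⊗ₜ z)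

lemma braidCx_ι (K L : DRing.Cx R) (p q n : ℤ) (h : p + q = n) (x : K.X p) (y : L.X q) :
    (DTen.braidCx K L).hom.f n (ιT K L p q n h (x ⊗ₜ y)) =
      ((p * q).negOnePow : ℤ) • ιT L K q p n (by omega) (y ⊗ₜ x) :=
  ConcreteCategory.congr_hom (DTen.ι_braidCx_hom K L p q n h) (x ⊗ₜ y)

lemma hom_ext₂ {K L : DRing.Cx R} {n : ℤ} {Z : ModuleCat.{u} R} {f g : (tens K L).X n ⟶ Z}
    (h : ∀ (p q : ℤ) (hpq : p + q = n) (x : K.X p) (y : L.X q),
      f (ιT K L p q n hpq (x ⊗ₜ y)) = g (ιT K L p q n hpq (x ⊗ₜ y))) : f = g :=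
  HomologicalComplex.mapBifunctor.hom_ext fun p q hpq =>
    ModuleCat.MonoidalCategory.tensor_ext fun x y => h p q hpq x y

lemma hom_ext₃ {K L M : DRing.Cx R} {n : ℤ} {Z : ModuleCat.{u} R} {f g : (tens (tens K L) M).X n ⟶ Z}
    (h : ∀ (p q r : ℤ) (hs : (p + q) + r = n) (x : K.X p) (y : L.X q) (z : M.X r),
      f (ιT (tens K L) M (p + q) r n hs (ιT K L p q (p + q) rfl (x ⊗ₜ y) ⊗ₜ z)) =
        g (ιT (tens K L) M (p + q) r n hs (ιT K L p q (p + q) rfl (x ⊗ₜ y) ⊗ₜ z))) : f = g := by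
  refine hom_ext₂ fun s r hs e z => ?_
  let F := f.hom.comp ((ιT (tens K L) M s r n hs).hom.comp ((TensorProduct.mk R _ _).flip z))
  let G := g.hom.comp ((ιT (tens K L) M s r n hs).hom.comp ((TensorProduct.mk R _ _).flip z))
  have hFG : ModuleCat.ofHom F = ModuleCat.ofHom G := hom_ext₂ fun p q hpq x y => by
    subst hpq
    exact h p q r hs x y z
  exact ConcreteCategory.congr_hom hFG e

theorem braidCx_symmetry (K L : DRing.Cx R) :
    (DTen.braidCx K L).hom ≫ (DTen.braidCx L K).hom = 𝟙 (K ⊗ L) :=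
  HomologicalComplex.hom_ext _ _ fun n => hom_ext₂ fun p q h x y => by
    change (DTen.braidCx L K).hom.f n ((DTen.braidCx K L).hom.f n (ιT K L p q n h (x ⊗ₜ y))) = _
    erw [braidCx_ι, map_zsmul, braidCx_ι L K q p n (by omega) y x, smul_smul, mul_comm q p, ← Units.val_mul,
      Int.units_mul_self, Units.val_one, one_smul]
    rfl

lemma map_tmul_zsmul {X Y : ModuleCat.{u} R} {W : ModuleCat.{u} R} (f : X ⊗ Y ⟶ W) (c : ℤ) (x : X) (y : Y) :
    f ((c • x) ⊗ₜ y) = c • f (x ⊗ₜ y) :=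
  (congrArg f (TensorProduct.smul_tmul' c x y).symm).trans (map_zsmul f.hom c (x ⊗ₜ y))

lemma map_zsmul_tmul {X Y : ModuleCat.{u} R} {W : ModuleCat.{u} R} (f : X ⊗ Y ⟶ W) (c : ℤ) (x : X) (y : Y) :
    f (x ⊗ₜ (c • y)) = c • f (x ⊗ₜ y) :=
  (congrArg f (TensorProduct.tmul_smul c x y)).trans (map_zsmul f.hom c (x ⊗ₜ y))

theorem hexagon_forward (K L M : DRing.Cx R) :
    (α_ K L M).hom ≫ (DTen.braidCx K (L ⊗ M)).hom ≫ (α_ L M K).hom =
      ((DTen.braidCx K L).hom ▷ M) ≫ (α_ L K M).hom ≫ (L ◁ (DTen.braidCx K M).hom) := by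
  refine HomologicalComplex.hom_ext _ _ fun n => hom_ext₃ fun p q r hs x y z => ?_
  have hn : p + (q + r) = n := by omega
  have hn' : q + (p + r) = n := by omega
  let e := ιT L (tens M K) q (p + r) n hn' (y ⊗ₜ ιT M K r p (p + r) (add_comm r p) (z ⊗ₜ x))
  have hl : (α_ L M K).hom.f n ((DTen.braidCx K (L ⊗ M)).hom.f n ((α_ K L M).hom.f n
      (ιT (tens K L) M (p + q) r n hs (ιT K L p q (p + q) rfl (x ⊗ₜ y) ⊗ₜ z)))) =
      ((p * (q + r)).negOnePow : ℤ) • e :=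
    (congrArg (fun t => (α_ L M K).hom.f n ((DTen.braidCx K (L ⊗ M)).hom.f n t))
        (associator_ι K L M p q r n (p + q) (q + r) rfl rfl hs hn x y z)).trans
      ((congrArg ((α_ L M K).hom.f n) (braidCx_ι K (tens L M) p (q + r) n hn x _)).trans
        ((map_zsmul ((α_ L M K).hom.f n).hom _ _).trans
          (congrArg (_ • ·) (associator_ι L M K q r p n (q + r) (p + r) rfl (add_comm r p) (by omega) hn' y z x))))
  have h1 : ((DTen.braidCx K L).hom ▷ M).f n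
      (ιT (tens K L) M (p + q) r n hs (ιT K L p q (p + q) rfl (x ⊗ₜ y) ⊗ₜ z)) =
      ((p * q).negOnePow : ℤ) • ιT (tens L K) M (p + q) r n hs (ιT L K q p (p + q) (add_comm q p) (y ⊗ₜ x) ⊗ₜ z) :=
    (whiskerRight_ι (DTen.braidCx K L).hom M (p + q) r n hs _ z).trans
      ((congrArg (fun t => ιT (tens L K) M (p + q) r n hs (t ⊗ₜ z)) (braidCx_ι K L p q (p + q) rfl x y)).trans
        (map_tmul_zsmul _ _ _ _))
  have h2 : (L ◁ (DTen.braidCx K M).hom).f n (ιT L (tens K M) q (p + r) n hn'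
      (y ⊗ₜ ιT K M p r (p + r) rfl (x ⊗ₜ z))) = ((p * r).negOnePow : ℤ) • e :=
    (whiskerLeft_ι L (DTen.braidCx K M).hom q (p + r) n hn' y _).trans
      ((congrArg (fun t => ιT L (tens M K) q (p + r) n hn' (y ⊗ₜ t)) (braidCx_ι K M p r (p + r) rfl x z)).trans
        (map_zsmul_tmul _ _ _ _))
  have hr : (L ◁ (DTen.braidCx K M).hom).f n ((α_ L K M).hom.f n (((DTen.braidCx K L).hom ▷ M).f n
      (ιT (tens K L) M (p + q) r n hs (ιT K L p q (p + q) rfl (x ⊗ₜ y) ⊗ₜ z)))) =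
      ((p * q).negOnePow : ℤ) • ((p * r).negOnePow : ℤ) • e :=
    (congrArg (fun t => (L ◁ (DTen.braidCx K M).hom).f n ((α_ L K M).hom.f n t)) h1).trans
      ((congrArg ((L ◁ (DTen.braidCx K M).hom).f n) ((map_zsmul ((α_ L K M).hom.f n).hom _ _).trans
          (congrArg (_ • ·) (associator_ι L K M q p r n (p + q) (p + r) (add_comm q p) rfl hs hn' y x z)))).trans
        ((map_zsmul ((L ◁ (DTen.braidCx K M).hom).f n).hom _ _).trans (congrArg (_ • ·) h2)))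
  refine hl.trans (Eq.trans ?_ hr.symm)
  rw [smul_smul, ← Units.val_mul, ← Int.negOnePow_add, mul_add]

end GrothLib.DT.Cx
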