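import Groth.Agent.Lib.DTen.ProTor
import Groth.Agent.Lib.DTen.Dualizable

/-! # `I^n M ⟶ M` factors through `I ⊗^L M` -/

set_option autoImplicit false
set_option maxHeartbeats 1000000
set_option backward.isDefEq.respectTransparency false
universe u

open CategoryTheory CategoryTheory.Limits MonoidalCategory Opposite HomologicalComplex Pretriangulated
open scoped TensorProduct

attribute [local instance] HasDerivedCategory.standard

namespace GrothLib.DT.FactorIdeal

variable {A : Type u} [CommRing A]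

/-- A module in degree zero, as a complex. -/
noncomputable abbrev s0 : ModuleCat.{u} A ⥤ DRing.Cx A :=
  HomologicalComplex.single (ModuleCat.{u} A) (ComplexShape.up ℤ) 0

/-- The projection to a level of the adic system. -/
noncomputable def π (I : Ideal A) (n : ℕ) :
    ModuleCat.of A A ⟶ (CohIII.adicSystem I (ModuleCat.of A A)).obj (op n) :=
  ModuleCat.ofHom (Y := (CohIII.adicSystem I (ModuleCat.of A A)).obj (op n)) (Submodule.mkQ _)

theorem zero_of_smul (I : Ideal A) (M : Type u) [AddCommGroup M] [Module A M] (m : ℕ) :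
    s0.map (ModuleCat.ofHom (I ^ (m + 1) • (⊤ : Submodule A M)).subtype) ≫ (ρ_ (s0.obj (ModuleCat.of A M))).inv ≫
      s0.obj (ModuleCat.of A M) ◁ s0.map (π I m) = 0 := by
  refine HomologicalComplex.from_single_hom_ext (ModuleCat.hom_ext (LinearMap.ext fun x => ?_))
  let K := s0.obj (ModuleCat.of A M)
  let N := s0.obj ((CohIII.adicSystem I (ModuleCat.of A A)).obj (op m))
  let c : N.X 0 := (s0.map (π I m)).f 0 Cx.one₀
  have hc : ∀ a ∈ I ^ (m + 1), a • c = 0 := fun a ha => by
    have h1 : a • c = (singleObjXSelf (ComplexShape.up ℤ) 0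
        ((CohIII.adicSystem I (ModuleCat.of A A)).obj (op m))).inv (a • π I m (1 : A)) := by
      rw [map_smul]
      refine congrArg (a • ·) ?_
      change (s0.map (π I m)).f 0 Cx.one₀ = _
      rw [HomologicalComplex.single_map_f_self]
      change (singleObjXSelf (ComplexShape.up ℤ) 0 ((CohIII.adicSystem I (ModuleCat.of A A)).obj (op m))).inv
        (π I m ((singleObjXSelf (ComplexShape.up ℤ) 0 (ModuleCat.of A A)).hom
          ((singleObjXSelf (ComplexShape.up ℤ) 0 (ModuleCat.of A A)).inv (1 : A)))) = _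
      exact congrArg (fun t => (singleObjXSelf (ComplexShape.up ℤ) 0
          ((CohIII.adicSystem I (ModuleCat.of A A)).obj (op m))).inv (π I m t))
        (ConcreteCategory.congr_hom (singleObjXSelf (ComplexShape.up ℤ) 0 (ModuleCat.of A A)).inv_hom_id (1 : A))
    rw [h1]
    have h2 : a • π I m (1 : A) = 0 := by
      rw [← map_smul]
      refine (Submodule.Quotient.mk_eq_zero _).2 ?_
      exact Submodule.smul_mem_smul ha (Submodule.mem_top : (1 : A) ∈ _)
    rw [h2, map_zero]
  let G : M →ₗ[A] (K ⊗ N).X 0 :=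
    (RH.ιT K N 0 0 0 (add_zero 0)).hom.comp
      (((TensorProduct.mk A (K.X 0) (N.X 0)).flip c).comp
        (singleObjXSelf (ComplexShape.up ℤ) 0 (ModuleCat.of A M)).inv.hom)
  have hG : ∀ y ∈ (I ^ (m + 1) • (⊤ : Submodule A M)), G y = 0 := fun y hy =>
    Submodule.smul_induction_on hy
      (fun a ha z _ => by
        rw [map_smul]
        change a • RH.ιT K N 0 0 0 (add_zero 0) (_ ⊗ₜ c) = 0
        rw [← map_smul, ← TensorProduct.tmul_smul, hc a ha, TensorProduct.tmul_zero, map_zero])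
      (fun y z hy hz => by rw [map_add, hy, hz, add_zero])
  let w := (singleObjXSelf (ComplexShape.up ℤ) 0 (ModuleCat.of A ↥(I ^ (m + 1) • (⊤ : Submodule A M)))).hom x
  refine Eq.trans ?_ (hG w.1 w.2)
  change (K ◁ s0.map (π I m)).f 0 ((ρ_ K).inv.f 0
    ((s0.map (ModuleCat.ofHom (I ^ (m + 1) • (⊤ : Submodule A M)).subtype)).f 0 x)) = _
  rw [Cx.rightUnitor_inv_f]
  refine (Cx.whiskerLeft_ι K (s0.map (π I m)) 0 0 0 (add_zero 0) _ Cx.one₀).trans ?_
  refine congrArg (fun t : K.X 0 => RH.ιT K N 0 0 0 (add_zero 0) (t ⊗ₜ c)) ?_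
  rw [HomologicalComplex.single_map_f_self]
  rfl

variable [IsNoetherianRing A] [DTen.HasLTen A] [DTen.HasLTen₃ A] [DTen.IsSymMonoidal A]

theorem exists_factor (I : Ideal A) (M : Type u) [AddCommGroup M] [Module A M] [Module.Finite A M] :
    ∃ (n : ℕ) (_ : 0 < n)
      (g : DerivedCategory.Q.obj (s0.obj (ModuleCat.of A ↥(I ^ n • (⊤ : Submodule A M)))) ⟶
        DerivedCategory.Q.obj (s0.obj (ModuleCat.of A ↥I)) ⊗ DerivedCategory.Q.obj (s0.obj (ModuleCat.of A M))),
      g ≫ DerivedCategory.Q.map (s0.map (ModuleCat.ofHom I.subtype)) ▷ DerivedCategory.Q.obj (s0.obj (ModuleCat.of A M)) ≫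
          (λ_ (DerivedCategory.Q.obj (s0.obj (ModuleCat.of A M)))).hom =
        DerivedCategory.Q.map (s0.map (ModuleCat.ofHom (I ^ n • (⊤ : Submodule A M)).subtype)) := by
  let K := s0.obj (ModuleCat.of A M)
  have hKv : DRing.VanishesOutside K 0 0 := fun i hi =>
    isZero_single_obj_X (ComplexShape.up ℤ) 0 _ i (by omega)
  have hKf : ∀ i, Module.Finite A (K.X i) := fun i => by
    by_cases hi : i = 0
    · subst hi
      exact Module.Finite.equiv (singleObjXSelf (ComplexShape.up ℤ) 0 (ModuleCat.of A M)).symm.toLinearEquiv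
    · have := ModuleCat.subsingleton_of_isZero (isZero_single_obj_X (ComplexShape.up ℤ) 0 (ModuleCat.of A M) i hi)
      infer_instance
  obtain ⟨P, q, hP, hflat, hq, -⟩ := KF.exists_kflat_resolution K
  have := isIso_Q_map q
  obtain ⟨m, _hm, b, hb, -⟩ := ProTor.isPro_adicSystem q hKv hKf hflat I 0
  refine ⟨m + 1, m.succ_pos, ?_⟩
  let z := s0.map (ModuleCat.ofHom (I ^ (m + 1) • (⊤ : Submodule A M)).subtype)
  let j := DerivedCategory.Q.map z ≫ inv (DerivedCategory.Q.map q) ≫ DerivedCategory.Q.map (ρ_ P).inv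
  let A₀ := CohIII.adicSystem I (ModuleCat.of A A)
  have hπ : π I m ≫ A₀.map (homOfLE (Nat.zero_le m)).op = π I 0 :=
    ModuleCat.hom_ext (LinearMap.ext fun a => ProTor.adicSystem_map_mk I (Nat.zero_le m) a)
  have hj : j ≫ DerivedCategory.Q.map (P ◁ s0.map (π I 0)) = 0 := by
    have h1 : DerivedCategory.Q.map (P ◁ s0.map (π I 0)) =
        DerivedCategory.Q.map (P ◁ s0.map (π I m)) ≫ DerivedCategory.Q.map (q ▷ s0.obj (A₀.obj (op m))) ≫ b := by
      refine Eq.trans ?_ (congrArg (DerivedCategory.Q.map (P ◁ s0.map (π I m)) ≫ ·) hb).symm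
      change _ = DerivedCategory.Q.map (P ◁ s0.map (π I m)) ≫
        DerivedCategory.Q.map (P ◁ s0.map (A₀.map (homOfLE (Nat.zero_le m)).op))
      rw [← Functor.map_comp, ← MonoidalCategory.whiskerLeft_comp, ← Functor.map_comp, hπ]
    have h2 : (ρ_ P).inv ≫ P ◁ s0.map (π I m) ≫ q ▷ s0.obj (A₀.obj (op m)) =
        q ≫ (ρ_ K).inv ≫ K ◁ s0.map (π I m) := by
      rw [whisker_exchange, ← rightUnitor_inv_naturality_assoc]
    rw [h1]
    simp only [j, Category.assoc]
    rw [← Functor.map_comp_assoc, ← Functor.map_comp_assoc, Category.assoc, h2, Functor.map_comp_assoc,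
      IsIso.inv_hom_id_assoc, ← Functor.map_comp_assoc, zero_of_smul, Functor.map_zero, zero_comp]
  have hcomp : ModuleCat.ofHom I.subtype ≫ π I 0 = 0 := ModuleCat.hom_ext (LinearMap.ext fun x =>
    (Submodule.Quotient.mk_eq_zero _).2 (by
      rw [show (I ^ (0 + 1) • (⊤ : Submodule A A) : Submodule A A) = I from by rw [zero_add, pow_one]; exact Ideal.mul_top I]
      exact x.2))
  let S := ShortComplex.mk (ModuleCat.ofHom I.subtype) (π I 0) hcomp
  have hS : S.Exact := (ShortComplex.moduleCat_exact_iff _).2 fun a ha => by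
    have ha' := (Submodule.Quotient.mk_eq_zero _).1 ha
    rw [show (I ^ (0 + 1) • (⊤ : Submodule A A) : Submodule A A) = I from by rw [zero_add, pow_one]; exact Ideal.mul_top I] at ha'
    exact ⟨(⟨a, ha'⟩ : I), rfl⟩
  have : Epi S.g := (ModuleCat.epi_iff_surjective _).2 (Submodule.mkQ_surjective _)
  have hFS : (S.map (ProTor.FS P)).ShortExact := by
    have hf : ∀ i, Mono (((ProTor.FS P).map S.f).f i) := fun i => by
      have e : ((ProTor.FS P).map S.f).f i =
          (ProTor.degIso P i).hom.app S.X₁ ≫ (P.X i ◁ S.f) ≫ (ProTor.degIso P i).inv.app S.X₂ := by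
        rw [← reassoc_of% (ProTor.degIso_natural P i S.f), Iso.hom_inv_id_app]
        exact (Category.comp_id _).symm
      have : Mono (P.X i ◁ S.f) := (ModuleCat.mono_iff_injective _).2
        (have := hflat i; Module.Flat.lTensor_preserves_injective_linearMap I.subtype Subtype.val_injective)
      rw [e]
      infer_instance
    exact
      { exact := (ProTor.shortExact_FS hS P).1
        mono_f := HomologicalComplex.mono_of_mono_f _ hf
        epi_g := (ProTor.shortExact_FS hS P).2 }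
  obtain ⟨g₀, hg₀⟩ := Triangle.coyoneda_exact₂ _ (DerivedCategory.triangleOfSES_distinguished hFS) j hj
  have := isIso_μ hP (s0.obj (ModuleCat.of A I))
  have := isIso_μ hP (𝟙_ (DRing.Cx A))
  let QM := DerivedCategory.Q.obj K
  let g : DerivedCategory.Q.obj (s0.obj (ModuleCat.of A ↥(I ^ (m + 1) • (⊤ : Submodule A M)))) ⟶
      DerivedCategory.Q.obj (s0.obj (ModuleCat.of A ↥I)) ⊗ QM :=
    g₀ ≫ inv (μ P (s0.obj (ModuleCat.of A I))) ≫ DerivedCategory.Q.map q ▷ _ ≫ (β_ QM _).hom
  refine ⟨g, ?_⟩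
  have hι : inv (μ P (s0.obj (ModuleCat.of A I))) ≫
      DerivedCategory.Q.obj P ◁ DerivedCategory.Q.map (s0.map (ModuleCat.ofHom I.subtype)) =
      DerivedCategory.Q.map (P ◁ s0.map (ModuleCat.ofHom I.subtype)) ≫ inv (μ P (𝟙_ (DRing.Cx A))) := by
    rw [IsIso.inv_comp_eq, ← Category.assoc, IsIso.eq_comp_inv]
    exact μ_natural_left' P _
  simp only [g, Category.assoc, QM]
  rw [← BraidedCategory.braiding_naturality_right_assoc]
  erw [braiding_leftUnitor]
  rw [← whisker_exchange_assoc, reassoc_of% hι]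
  have hρ : DerivedCategory.Q.map q ▷ 𝟙_ (Dual.D A) ≫ (ρ_ (DerivedCategory.Q.obj K)).hom =
      (ρ_ (DerivedCategory.Q.obj P)).hom ≫ DerivedCategory.Q.map q := rightUnitor_naturality _
  erw [hρ, unitR_fac]
  rw [Category.assoc, IsIso.inv_hom_id_assoc]
  have : g₀ ≫ DerivedCategory.Q.map (P ◁ s0.map (ModuleCat.ofHom I.subtype)) = j := hg₀.symm
  erw [reassoc_of% this]
  simp only [j, Category.assoc]
  rw [← Functor.map_comp_assoc (DerivedCategory.Q) (ρ_ P).inv, Iso.inv_hom_id, CategoryTheory.Functor.map_id,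
    Category.id_comp, IsIso.inv_hom_id, Category.comp_id]

end GrothLib.DT.FactorIdeal
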