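import Groth.Agent.Lib.DTen.Values
import Groth.Agent.Lib.DTen.CxSymm

/-! # The derived category of modules is symmetric monoidal

Under the hypotheses `HasLTen`, `HasLTen₃`, `IsSymMonoidal` the structure maps of `Def_DTen3` satisfy the
axioms of a symmetric monoidal category; the axioms are transported from complexes along the counit.
-/

set_option autoImplicit false
set_option maxHeartbeats 800000
universe u

open CategoryTheory CategoryTheory.Limits MonoidalCategory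

attribute [local instance] HasDerivedCategory.standard

namespace GrothLib.DT

open DTen

variable {A : Type u} [CommRing A] [HasLTen A] [HasLTen₃ A] [IsSymMonoidal A]

noncomputable instance monoidalStruct : MonoidalCategoryStruct (Dual.D A) where
  tensorObj X Y := (LTen₂ A).obj (X, Y)
  whiskerLeft X _ _ f := (LTen₂ A).map (Prod.mkHom (𝟙 X) f)
  whiskerRight f Y := (LTen₂ A).map (Prod.mkHom f (𝟙 Y))
  tensorHom f g := (LTen₂ A).map (Prod.mkHom f g)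
  tensorUnit := DTen.unit A
  associator := DTen.associator
  leftUnitor := DTen.leftUnitor
  rightUnitor := DTen.rightUnitor

local notation "Q" => (DerivedCategory.Q : DRing.Cx A ⥤ Dual.D A)

/-- The lax structure map of `Q`. -/
noncomputable abbrev μ (K L : DRing.Cx A) : (Q).obj K ⊗ (Q).obj L ⟶ (Q).obj (K ⊗ L) := (ε A).app (K, L)

omit [HasLTen₃ A] [IsSymMonoidal A] in
theorem map_mkHom_comp {X₁ X₂ Y₁ Y₂ Z₁ Z₂ : Dual.D A} (f₁ : X₁ ⟶ Y₁) (g₁ : Y₁ ⟶ Z₁) (f₂ : X₂ ⟶ Y₂)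
    (g₂ : Y₂ ⟶ Z₂) : (LTen₂ A).map (Prod.mkHom f₁ f₂) ≫ (LTen₂ A).map (Prod.mkHom g₁ g₂) =
      (LTen₂ A).map (Prod.mkHom (f₁ ≫ g₁) (f₂ ≫ g₂)) :=
  ((LTen₂ A).map_comp _ _).symm

theorem tensorHom_comp {X₁ X₂ Y₁ Y₂ Z₁ Z₂ : Dual.D A} (f₁ : X₁ ⟶ Y₁) (f₂ : X₂ ⟶ Y₂)
    (g₁ : Y₁ ⟶ Z₁) (g₂ : Y₂ ⟶ Z₂) : (f₁ ⊗ₘ f₂) ≫ (g₁ ⊗ₘ g₂) = (f₁ ≫ g₁) ⊗ₘ (f₂ ≫ g₂) :=
  map_mkHom_comp f₁ g₁ f₂ g₂

theorem id_tensorHom' (X : Dual.D A) {Y Y' : Dual.D A} (f : Y ⟶ Y') : 𝟙 X ⊗ₘ f = X ◁ f := rfl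

theorem tensorHom_id' {X X' : Dual.D A} (f : X ⟶ X') (Y : Dual.D A) : f ⊗ₘ 𝟙 Y = f ▷ Y := rfl

theorem id_tensorHom_id' (X Y : Dual.D A) : 𝟙 X ⊗ₘ 𝟙 Y = 𝟙 (X ⊗ Y) := (LTen₂ A).map_id (X, Y)

theorem split_left {X X' X'' : Dual.D A} (f : X ⟶ X') (g : X' ⟶ X'') (Y : Dual.D A) :
    (f ≫ g) ⊗ₘ 𝟙 Y = (f ⊗ₘ 𝟙 Y) ≫ (g ⊗ₘ 𝟙 Y) := by
  rw [tensorHom_comp, Category.comp_id]

theorem split_right {Y Y' Y'' : Dual.D A} (X : Dual.D A) (f : Y ⟶ Y') (g : Y' ⟶ Y'') :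
    𝟙 X ⊗ₘ (f ≫ g) = (𝟙 X ⊗ₘ f) ≫ (𝟙 X ⊗ₘ g) := by
  rw [tensorHom_comp, Category.id_comp]

theorem tensor_isIso {X X' Y Y' : Dual.D A} (f : X ⟶ X') (g : Y ⟶ Y') [IsIso f] [IsIso g] : IsIso (f ⊗ₘ g) :=
  have := isIso_mkHom f g
  inferInstanceAs (IsIso ((LTen₂ A).map (Prod.mkHom f g)))

theorem μ_natural {K K' L L' : DRing.Cx A} (f : K ⟶ K') (g : L ⟶ L') :
    ((Q).map f ⊗ₘ (Q).map g) ≫ μ K' L' = μ K L ≫ (Q).map (f ⊗ₘ g) := by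
  rw [MonoidalCategory.tensorHom_def f g]
  exact (ε A).naturality (Prod.mkHom f g)

theorem isIso_μ {K : DRing.Cx A} (hK : KF.IsKFlat K) (L : DRing.Cx A) : IsIso (μ K L) := isIso_ε_left hK L

theorem assoc_fac (K L M : DRing.Cx A) :
    (α_ ((Q).obj K) ((Q).obj L) ((Q).obj M)).hom ≫ (𝟙 ((Q).obj K) ⊗ₘ μ L M) ≫ μ K (L ⊗ M) =
      (μ K L ⊗ₘ 𝟙 ((Q).obj M)) ≫ μ (K ⊗ L) M ≫ (Q).map (α_ K L M).hom := by
  have h := DTen.associator_hom_assocR ((Q).obj K) ((Q).obj L) ((Q).obj M)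
  have hR := DTen.assocR_fac A (K, (L, M))
  have hL := DTen.assocL_fac A (K, (L, M))
  exact (congrArg (_ ≫ ·) hR.symm).trans ((Category.assoc _ _ _).symm.trans
    ((congrArg (· ≫ (ε₃ A).app (K, (L, M))) h).trans hL))

theorem unitL_fac (L : DRing.Cx A) :
    (λ_ ((Q).obj L)).hom = μ (𝟙_ (DRing.Cx A)) L ≫ (Q).map (λ_ L).hom := DTen.unitL_app A L

theorem unitR_fac (K : DRing.Cx A) :
    (ρ_ ((Q).obj K)).hom = μ K (𝟙_ (DRing.Cx A)) ≫ (Q).map (ρ_ K).hom := DTen.unitR_app A K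

theorem assoc_natural {X₁ X₂ X₃ Y₁ Y₂ Y₃ : Dual.D A} (f₁ : X₁ ⟶ Y₁) (f₂ : X₂ ⟶ Y₂) (f₃ : X₃ ⟶ Y₃) :
    ((f₁ ⊗ₘ f₂) ⊗ₘ f₃) ≫ (α_ Y₁ Y₂ Y₃).hom = (α_ X₁ X₂ X₃).hom ≫ (f₁ ⊗ₘ (f₂ ⊗ₘ f₃)) := by
  rw [← cancel_mono ((assocR A).app (Y₁, (Y₂, Y₃))), Category.assoc, Category.assoc]
  have hL := (assocL A).naturality (X := (X₁, (X₂, X₃))) (Y := (Y₁, (Y₂, Y₃))) (Prod.mkHom f₁ (Prod.mkHom f₂ f₃))
  have hR := (assocR A).naturality (X := (X₁, (X₂, X₃))) (Y := (Y₁, (Y₂, Y₃))) (Prod.mkHom f₁ (Prod.mkHom f₂ f₃))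
  exact (congrArg (_ ≫ ·) (DTen.associator_hom_assocR Y₁ Y₂ Y₃)).trans (hL.trans
    ((congrArg (· ≫ _) (DTen.associator_hom_assocR X₁ X₂ X₃).symm).trans
      ((Category.assoc _ _ _).trans (congrArg (_ ≫ ·) hR.symm))))

theorem unitL_natural {X Y : Dual.D A} (f : X ⟶ Y) :
    (𝟙_ (Dual.D A)) ◁ f ≫ (λ_ Y).hom = (λ_ X).hom ≫ f := (unitL A).naturality f

theorem unitR_natural {X Y : Dual.D A} (f : X ⟶ Y) :
    f ▷ (𝟙_ (Dual.D A)) ≫ (ρ_ Y).hom = (ρ_ X).hom ≫ f := (unitR A).naturality f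

theorem μ_natural_left (K : DRing.Cx A) {L L' : DRing.Cx A} (g : L ⟶ L') :
    (𝟙 ((Q).obj K) ⊗ₘ (Q).map g) ≫ μ K L' = μ K L ≫ (Q).map (K ◁ g) := by
  rw [← (Q).map_id K, μ_natural, MonoidalCategory.id_tensorHom]

theorem μ_natural_right {K K' : DRing.Cx A} (f : K ⟶ K') (L : DRing.Cx A) :
    ((Q).map f ⊗ₘ 𝟙 ((Q).obj L)) ≫ μ K' L = μ K L ≫ (Q).map (f ▷ L) := by
  rw [← (Q).map_id L, μ_natural, MonoidalCategory.tensorHom_id]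

theorem pentagon_Q {K L M N : DRing.Cx A} (hK : KF.IsKFlat K) (hL : KF.IsKFlat L) (hM : KF.IsKFlat M) :
    MonoidalCategory.Pentagon ((Q).obj K) ((Q).obj L) ((Q).obj M) ((Q).obj N) := by
  let m : (Q).obj K ⊗ ((Q).obj L ⊗ ((Q).obj M ⊗ (Q).obj N)) ⟶ (Q).obj (K ⊗ (L ⊗ (M ⊗ N))) :=
    (𝟙 _ ⊗ₘ ((𝟙 _ ⊗ₘ μ M N) ≫ μ L (M ⊗ N))) ≫ μ K (L ⊗ (M ⊗ N))
  have : IsIso m := by
    have := isIso_μ hM N
    have := isIso_μ hL (M ⊗ N)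
    have := tensor_isIso (𝟙 ((Q).obj L)) (μ M N)
    have := tensor_isIso (𝟙 ((Q).obj K)) ((𝟙 ((Q).obj L) ⊗ₘ μ M N) ≫ μ L (M ⊗ N))
    exact IsIso.comp_isIso' inferInstance (isIso_μ hK _)
  unfold MonoidalCategory.Pentagon
  rw [← cancel_mono m, ← id_tensorHom', ← tensorHom_id']
  -- the left hand side
  have hl1 : (𝟙 ((Q).obj K) ⊗ₘ (α_ ((Q).obj L) ((Q).obj M) ((Q).obj N)).hom) ≫ m =
      (𝟙 ((Q).obj K) ⊗ₘ (μ L M ⊗ₘ 𝟙 ((Q).obj N))) ≫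
        (𝟙 ((Q).obj K) ⊗ₘ μ (L ⊗ M) N) ≫ μ K ((L ⊗ M) ⊗ N) ≫ (Q).map (K ◁ (α_ L M N).hom) := by
    change _ ≫ (𝟙 _ ⊗ₘ _) ≫ _ = _
    rw [← Category.assoc, tensorHom_comp, Category.id_comp, assoc_fac, split_right, split_right,
      Category.assoc, Category.assoc, μ_natural_left]
  have hl : ((α_ ((Q).obj K) ((Q).obj L) ((Q).obj M)).hom ⊗ₘ 𝟙 ((Q).obj N)) ≫
      (α_ ((Q).obj K) ((Q).obj L ⊗ (Q).obj M) ((Q).obj N)).hom ≫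
        (𝟙 ((Q).obj K) ⊗ₘ (α_ ((Q).obj L) ((Q).obj M) ((Q).obj N)).hom) ≫ m =
      ((μ K L ⊗ₘ 𝟙 ((Q).obj M)) ⊗ₘ 𝟙 ((Q).obj N)) ≫ (μ (K ⊗ L) M ⊗ₘ 𝟙 ((Q).obj N)) ≫
        μ ((K ⊗ L) ⊗ M) N ≫ (Q).map ((α_ K L M).hom ▷ N ≫ (α_ K (L ⊗ M) N).hom ≫ K ◁ (α_ L M N).hom) := by
    rw [hl1, ← reassoc_of% (assoc_natural (𝟙 ((Q).obj K)) (μ L M) (𝟙 ((Q).obj N))),
      reassoc_of% (assoc_fac K (L ⊗ M) N), ← Category.assoc, tensorHom_comp, Category.comp_id,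
      ← Category.assoc, tensorHom_comp, Category.comp_id, Category.assoc, assoc_fac,
      split_left, split_left]
    simp only [Category.assoc]
    rw [reassoc_of% (μ_natural_right (α_ K L M).hom N), ← Functor.map_comp, ← Functor.map_comp]
  -- the right hand side
  have hr1 : (α_ ((Q).obj K) ((Q).obj L) ((Q).obj M ⊗ (Q).obj N)).hom ≫ m =
      (μ K L ⊗ₘ μ M N) ≫ μ (K ⊗ L) (M ⊗ N) ≫ (Q).map (α_ K L (M ⊗ N)).hom := by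
    change _ ≫ (_ ⊗ₘ _) ≫ _ = _
    rw [show (𝟙 ((Q).obj K) ⊗ₘ ((𝟙 ((Q).obj L) ⊗ₘ μ M N) ≫ μ L (M ⊗ N))) =
        (𝟙 ((Q).obj K) ⊗ₘ (𝟙 ((Q).obj L) ⊗ₘ μ M N)) ≫ (𝟙 ((Q).obj K) ⊗ₘ μ L (M ⊗ N)) from by
      rw [tensorHom_comp, Category.id_comp], Category.assoc,
      ← reassoc_of% (assoc_natural (𝟙 ((Q).obj K)) (𝟙 ((Q).obj L)) (μ M N)), assoc_fac, ← Category.assoc,
      tensorHom_comp, id_tensorHom_id', Category.id_comp, Category.comp_id]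
  have hr : (α_ ((Q).obj K ⊗ (Q).obj L) ((Q).obj M) ((Q).obj N)).hom ≫
      (α_ ((Q).obj K) ((Q).obj L) ((Q).obj M ⊗ (Q).obj N)).hom ≫ m =
      ((μ K L ⊗ₘ 𝟙 ((Q).obj M)) ⊗ₘ 𝟙 ((Q).obj N)) ≫ (μ (K ⊗ L) M ⊗ₘ 𝟙 ((Q).obj N)) ≫
        μ ((K ⊗ L) ⊗ M) N ≫ (Q).map ((α_ (K ⊗ L) M N).hom ≫ (α_ K L (M ⊗ N)).hom) := by
    have e : (μ K L ⊗ₘ μ M N) = (μ K L ⊗ₘ (𝟙 ((Q).obj M) ⊗ₘ 𝟙 ((Q).obj N))) ≫ (𝟙 ((Q).obj (K ⊗ L)) ⊗ₘ μ M N) := by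
      rw [id_tensorHom_id', tensorHom_comp, Category.comp_id, Category.id_comp]
    rw [hr1, e, Category.assoc, ← reassoc_of% (assoc_natural (μ K L) (𝟙 ((Q).obj M)) (𝟙 ((Q).obj N))),
      reassoc_of% (assoc_fac (K ⊗ L) M N), ← Functor.map_comp]
  simp only [Category.assoc]
  rw [hl, hr, MonoidalCategory.pentagon]

theorem triangle_Q {K L : DRing.Cx A} (hK : KF.IsKFlat K) :
    (α_ ((Q).obj K) (𝟙_ (Dual.D A)) ((Q).obj L)).hom ≫ ((Q).obj K) ◁ (λ_ ((Q).obj L)).hom =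
      (ρ_ ((Q).obj K)).hom ▷ ((Q).obj L) := by
  have := isIso_μ hK L
  have key : (α_ ((Q).obj K) ((Q).obj (𝟙_ (DRing.Cx A))) ((Q).obj L)).hom ≫
      (𝟙 ((Q).obj K) ⊗ₘ (μ (𝟙_ (DRing.Cx A)) L ≫ (Q).map (λ_ L).hom)) =
      (μ K (𝟙_ (DRing.Cx A)) ≫ (Q).map (ρ_ K).hom) ⊗ₘ 𝟙 ((Q).obj L) := by
    rw [← cancel_mono (μ K L), split_left, split_right]
    simp only [Category.assoc]
    rw [μ_natural_left, μ_natural_right, reassoc_of% (assoc_fac K (𝟙_ (DRing.Cx A)) L), ← Functor.map_comp,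
      MonoidalCategory.triangle]
  exact (congrArg (fun t => (α_ ((Q).obj K) (𝟙_ (Dual.D A)) ((Q).obj L)).hom ≫ (𝟙 ((Q).obj K) ⊗ₘ t))
      (unitL_fac L)).trans (key.trans (congrArg (fun t => t ⊗ₘ 𝟙 ((Q).obj L)) (unitR_fac K).symm))

noncomputable instance monoidalCategory : MonoidalCategory (Dual.D A) where
  tensorHom_def f g := by
    rw [← id_tensorHom', ← tensorHom_id', tensorHom_comp, Category.id_comp, Category.comp_id]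
  id_tensorHom_id X Y := id_tensorHom_id' X Y
  tensorHom_comp_tensorHom f₁ f₂ g₁ g₂ := tensorHom_comp f₁ f₂ g₁ g₂
  whiskerLeft_id X Y := id_tensorHom_id' X Y
  id_whiskerRight X Y := id_tensorHom_id' X Y
  associator_naturality f₁ f₂ f₃ := assoc_natural f₁ f₂ f₃
  leftUnitor_naturality f := unitL_natural f
  rightUnitor_naturality f := unitR_natural f
  pentagon W X Y Z := by
    obtain ⟨K, hK, ⟨eW⟩⟩ := exists_Q_iso W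
    obtain ⟨L, hL, ⟨eX⟩⟩ := exists_Q_iso X
    obtain ⟨M, hM, ⟨eY⟩⟩ := exists_Q_iso Y
    obtain ⟨N, -, ⟨eZ⟩⟩ := exists_Q_iso Z
    have h := pentagon_Q (N := N) hK hL hM
    unfold MonoidalCategory.Pentagon at h
    have := tensor_isIso eW.hom eX.hom
    have := tensor_isIso (eW.hom ⊗ₘ eX.hom) eY.hom
    have := tensor_isIso ((eW.hom ⊗ₘ eX.hom) ⊗ₘ eY.hom) eZ.hom
    rw [← cancel_epi (((eW.hom ⊗ₘ eX.hom) ⊗ₘ eY.hom) ⊗ₘ eZ.hom)]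
    simp only [← id_tensorHom', ← tensorHom_id'] at h ⊢
    rw [reassoc_of% (assoc_natural (eW.hom ⊗ₘ eX.hom) eY.hom eZ.hom), assoc_natural, ← reassoc_of% h,
      ← Category.assoc, tensorHom_comp, Category.comp_id, assoc_natural,
      show ((α_ ((Q).obj K) ((Q).obj L) ((Q).obj M)).hom ≫ (eW.hom ⊗ₘ (eX.hom ⊗ₘ eY.hom))) ⊗ₘ eZ.hom =
        ((α_ ((Q).obj K) ((Q).obj L) ((Q).obj M)).hom ⊗ₘ 𝟙 ((Q).obj N)) ≫
          ((eW.hom ⊗ₘ (eX.hom ⊗ₘ eY.hom)) ⊗ₘ eZ.hom) from by rw [tensorHom_comp, Category.id_comp],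
      Category.assoc, reassoc_of% (assoc_natural eW.hom (eX.hom ⊗ₘ eY.hom) eZ.hom), tensorHom_comp,
      Category.comp_id, assoc_natural, tensorHom_comp, Category.id_comp]
  triangle X Y := by
    obtain ⟨K, hK, ⟨eX⟩⟩ := exists_Q_iso X
    obtain ⟨L, -, ⟨eY⟩⟩ := exists_Q_iso Y
    have h := triangle_Q (L := L) hK
    have := tensor_isIso eX.hom (𝟙 (𝟙_ (Dual.D A)))
    have := tensor_isIso (eX.hom ⊗ₘ 𝟙 (𝟙_ (Dual.D A))) eY.hom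
    rw [← cancel_epi ((eX.hom ⊗ₘ 𝟙 (𝟙_ (Dual.D A))) ⊗ₘ eY.hom)]
    simp only [← id_tensorHom', ← tensorHom_id'] at h ⊢
    rw [reassoc_of% (assoc_natural eX.hom (𝟙 (𝟙_ (Dual.D A))) eY.hom), tensorHom_comp, Category.comp_id,
      show (𝟙 (𝟙_ (Dual.D A)) ⊗ₘ eY.hom) ≫ (λ_ Y).hom = (λ_ ((Q).obj L)).hom ≫ eY.hom from unitL_natural eY.hom,
      tensorHom_comp, Category.comp_id,
      show (eX.hom ⊗ₘ 𝟙 (𝟙_ (Dual.D A))) ≫ (ρ_ X).hom = (ρ_ ((Q).obj K)).hom ≫ eX.hom from unitR_natural eX.hom,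
      show (ρ_ ((Q).obj K)).hom ≫ eX.hom ⊗ₘ eY.hom =
        ((ρ_ ((Q).obj K)).hom ⊗ₘ 𝟙 ((Q).obj L)) ≫ (eX.hom ⊗ₘ eY.hom) from by rw [tensorHom_comp, Category.id_comp],
      ← h, Category.assoc, tensorHom_comp, Category.id_comp]

theorem braid_natural {X X' Y Y' : Dual.D A} (f : X ⟶ X') (g : Y ⟶ Y') :
    (f ⊗ₘ g) ≫ (DTen.braiding Y' X').hom = (DTen.braiding Y X).hom ≫ (g ⊗ₘ f) :=
  (DTen.symm A).naturality (X := (Y, X)) (Y := (Y', X')) (Prod.mkHom g f)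

theorem braid_fac (K L : DRing.Cx A) :
    (DTen.braiding ((Q).obj L) ((Q).obj K)).hom ≫ μ L K = μ K L ≫ (Q).map (DTen.braidCx K L).hom :=
  DTen.symm_fac A L K

theorem braid_symmetry (X Y : Dual.D A) :
    (DTen.braiding Y X).hom ≫ (DTen.braiding X Y).hom = 𝟙 (X ⊗ Y) := by
  obtain ⟨K, hK, ⟨eX⟩⟩ := exists_Q_iso X
  obtain ⟨L, hL, ⟨eY⟩⟩ := exists_Q_iso Y
  have := tensor_isIso eX.hom eY.hom
  have := isIso_μ hK L
  have h : (DTen.braiding ((Q).obj L) ((Q).obj K)).hom ≫ (DTen.braiding ((Q).obj K) ((Q).obj L)).hom =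
      𝟙 ((Q).obj K ⊗ (Q).obj L) := by
    rw [← cancel_mono (μ K L), Category.assoc, braid_fac, reassoc_of% (braid_fac K L), ← Functor.map_comp,
      Cx.braidCx_symmetry, CategoryTheory.Functor.map_id]
    exact (Category.comp_id _).trans (Category.id_comp _).symm
  rw [← cancel_epi (eX.hom ⊗ₘ eY.hom), reassoc_of% (braid_natural eX.hom eY.hom), braid_natural, reassoc_of% h]
  exact (Category.id_comp _).trans (Category.comp_id _).symm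

theorem hexagon (X Y Z : Dual.D A) :
    (α_ X Y Z).hom ≫ (DTen.braiding (Y ⊗ Z) X).hom ≫ (α_ Y Z X).hom =
      ((DTen.braiding Y X).hom ▷ Z) ≫ (α_ Y X Z).hom ≫ (Y ◁ (DTen.braiding Z X).hom) := by
  obtain ⟨K, hK, ⟨eX⟩⟩ := exists_Q_iso X
  obtain ⟨L, hL, ⟨eY⟩⟩ := exists_Q_iso Y
  obtain ⟨M, hM, ⟨eZ⟩⟩ := exists_Q_iso Z
  have := tensor_isIso eX.hom eY.hom
  have := tensor_isIso (eX.hom ⊗ₘ eY.hom) eZ.hom
  have h : (α_ ((Q).obj K) ((Q).obj L) ((Q).obj M)).hom ≫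
      (DTen.braiding ((Q).obj L ⊗ (Q).obj M) ((Q).obj K)).hom ≫ (α_ ((Q).obj L) ((Q).obj M) ((Q).obj K)).hom =
      ((DTen.braiding ((Q).obj L) ((Q).obj K)).hom ⊗ₘ 𝟙 ((Q).obj M)) ≫
        (α_ ((Q).obj L) ((Q).obj K) ((Q).obj M)).hom ≫
          (𝟙 ((Q).obj L) ⊗ₘ (DTen.braiding ((Q).obj M) ((Q).obj K)).hom) := by
    have := isIso_μ hM K
    have := tensor_isIso (𝟙 ((Q).obj L)) (μ M K)
    have := isIso_μ hL (M ⊗ K)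
    rw [← cancel_mono ((𝟙 ((Q).obj L) ⊗ₘ μ M K) ≫ μ L (M ⊗ K))]
    simp only [Category.assoc]
    rw [assoc_fac, ← reassoc_of% (braid_natural (𝟙 ((Q).obj K)) (μ L M)), reassoc_of% (braid_fac K (L ⊗ M)),
      reassoc_of% (assoc_fac K L M), ← Functor.map_comp, ← Functor.map_comp, Cx.hexagon_forward,
      ← Category.assoc (𝟙 ((Q).obj L) ⊗ₘ _) (𝟙 ((Q).obj L) ⊗ₘ μ M K), tensorHom_comp, Category.comp_id, braid_fac]
    rw [show (𝟙 ((Q).obj L) ⊗ₘ μ K M ≫ (Q).map (DTen.braidCx K M).hom) =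
        (𝟙 ((Q).obj L) ⊗ₘ μ K M) ≫ (𝟙 ((Q).obj L) ⊗ₘ (Q).map (DTen.braidCx K M).hom) from by
      rw [tensorHom_comp, Category.id_comp], Category.assoc, μ_natural_left,
      reassoc_of% (assoc_fac L K M), ← Category.assoc ((DTen.braiding _ _).hom ⊗ₘ _), tensorHom_comp,
      Category.comp_id, braid_fac]
    rw [show (μ K L ≫ (Q).map (DTen.braidCx K L).hom ⊗ₘ 𝟙 ((Q).obj M)) =
        (μ K L ⊗ₘ 𝟙 ((Q).obj M)) ≫ ((Q).map (DTen.braidCx K L).hom ⊗ₘ 𝟙 ((Q).obj M)) from by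
      rw [tensorHom_comp, Category.comp_id], Category.assoc, reassoc_of% (μ_natural_right (DTen.braidCx K L).hom M)]
    simp only [← Functor.map_comp]
  have hl : ((eX.hom ⊗ₘ eY.hom) ⊗ₘ eZ.hom) ≫ (α_ X Y Z).hom ≫ (DTen.braiding (Y ⊗ Z) X).hom ≫ (α_ Y Z X).hom =
      ((DTen.braiding ((Q).obj L) ((Q).obj K)).hom ⊗ₘ 𝟙 ((Q).obj M)) ≫
        (α_ ((Q).obj L) ((Q).obj K) ((Q).obj M)).hom ≫
          (𝟙 ((Q).obj L) ⊗ₘ (DTen.braiding ((Q).obj M) ((Q).obj K)).hom) ≫ (eY.hom ⊗ₘ (eZ.hom ⊗ₘ eX.hom)) := by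
    rw [reassoc_of% (assoc_natural eX.hom eY.hom eZ.hom), reassoc_of% (braid_natural eX.hom (eY.hom ⊗ₘ eZ.hom)),
      assoc_natural, reassoc_of% h]
  rw [← cancel_epi ((eX.hom ⊗ₘ eY.hom) ⊗ₘ eZ.hom), hl, tensorHom_comp, Category.id_comp,
    ← tensorHom_id', ← id_tensorHom', ← Category.assoc ((eX.hom ⊗ₘ eY.hom) ⊗ₘ eZ.hom), tensorHom_comp,
    Category.comp_id, braid_natural,
    show ((DTen.braiding ((Q).obj L) ((Q).obj K)).hom ≫ (eY.hom ⊗ₘ eX.hom)) ⊗ₘ eZ.hom =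
      ((DTen.braiding ((Q).obj L) ((Q).obj K)).hom ⊗ₘ 𝟙 ((Q).obj M)) ≫ ((eY.hom ⊗ₘ eX.hom) ⊗ₘ eZ.hom) from by
      rw [tensorHom_comp, Category.id_comp],
    Category.assoc, reassoc_of% (assoc_natural eY.hom eX.hom eZ.hom), tensorHom_comp, Category.comp_id,
    braid_natural]

noncomputable instance braidedCategory : BraidedCategory (Dual.D A) where
  braiding X Y := DTen.braiding Y X
  braiding_naturality_right X Y Z f := braid_natural (𝟙 X) f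
  braiding_naturality_left f Z := braid_natural f (𝟙 Z)
  hexagon_forward X Y Z := hexagon X Y Z
  hexagon_reverse X Y Z := by
    have hinv : ∀ U V : Dual.D A, inv (DTen.braiding V U).hom = (DTen.braiding U V).hom := fun U V =>
      IsIso.inv_eq_of_hom_inv_id (braid_symmetry U V)
    have h := hexagon Z X Y
    have h' : inv ((α_ Z X Y).hom ≫ (DTen.braiding (X ⊗ Y) Z).hom ≫ (α_ X Y Z).hom) =
        inv ((DTen.braiding X Z).hom ▷ Y ≫ (α_ X Z Y).hom ≫ X ◁ (DTen.braiding Y Z).hom) := by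
      simp only [h]
    simp only [IsIso.inv_comp, IsIso.Iso.inv_hom, MonoidalCategory.inv_whiskerRight,
      MonoidalCategory.inv_whiskerLeft, hinv, Category.assoc] at h'
    exact h'

noncomputable instance symmetricCategory : SymmetricCategory (Dual.D A) where
  symmetry X Y := braid_symmetry X Y

end GrothLib.DT
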