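import Groth.Agent.Lib.DCxRing.FromSingle
import Groth.Agent.Lib.DCxKFlat.KFlatBounded
import Groth.Agent.Lib.DTen.Monoidal

/-! # Testing objects of `D(A)` by maps out of the free module in one degree -/

set_option autoImplicit false
set_option maxHeartbeats 800000
universe u

open CategoryTheory CategoryTheory.Limits HomologicalComplex Pretriangulated

attribute [local instance] HasDerivedCategory.standard

namespace GrothLib.DT

variable {A : Type u} [CommRing A]

variable (A) in
/-- `A` in degree `i`, as a complex. -/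
noncomputable abbrev sCx (i : ℤ) : DRing.Cx A :=
  (HomologicalComplex.single (ModuleCat.{u} A) (ComplexShape.up ℤ) i).obj (ModuleCat.of A A)

variable (A) in
/-- `A` in degree `i`, in `D(A)`. -/
noncomputable abbrev S (i : ℤ) : Dual.D A := DerivedCategory.Q.obj (sCx A i)

theorem vanishesOutside_sCx (i : ℤ) : DRing.VanishesOutside (sCx A i) i i :=
  fun j hj => isZero_single_obj_X _ _ _ _ (by omega)

instance isKProjective_sCx (i : ℤ) : (sCx A i).IsKProjective :=
  DR.isKProjective _ i (fun j hj => isZero_single_obj_X _ _ _ _ (by omega)) fun j => by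
    by_cases hj : j = i
    · subst hj
      exact Module.Projective.of_equiv
        (singleObjXSelf (ComplexShape.up ℤ) j (ModuleCat.of A A)).symm.toLinearEquiv
    · have := ModuleCat.subsingleton_of_isZero
        (isZero_single_obj_X (ComplexShape.up ℤ) i (ModuleCat.of A A) j hj)
      infer_instance

theorem isKFlat_sCx (i : ℤ) : KF.IsKFlat (sCx A i) :=
  KF.isKFlat_single (ModuleCat.of A A) (inferInstanceAs (Module.Flat A A)) i

theorem subsingleton_S_Q (i : ℤ) (C : DRing.Cx A) (h : IsZero (C.X i)) :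
    Subsingleton (S A i ⟶ DerivedCategory.Q.obj C) := by
  refine subsingleton_of_forall_eq 0 fun g => ?_
  obtain ⟨φ, rfl⟩ := DR.exists_lift (sCx A i) g
  rw [show φ = 0 from from_single_hom_ext (h.eq_of_tgt _ _)]
  exact DerivedCategory.Q.map_zero _ _

theorem subsingleton_S_of_isLE {X : Dual.D A} {k i : ℤ} [X.IsLE k] (h : k < i) :
    Subsingleton (S A i ⟶ X) := by
  obtain ⟨C, _, ⟨e⟩⟩ := X.exists_iso_Q_obj_of_isLE k
  have := subsingleton_S_Q i C (C.isZero_of_isStrictlyLE k i h)
  exact (Iso.homToEquiv e).subsingleton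

/-- An element of a free rank one source. -/
noncomputable def cycleMap (C : DRing.Cx A) (i : ℤ) (z : C.X i) (hz : C.d i (i + 1) z = 0) : sCx A i ⟶ C :=
  mkHomFromSingle (ModuleCat.ofHom (LinearMap.toSpanSingleton A _ z)) fun j hj => by
    obtain rfl : i + 1 = j := hj
    refine ModuleCat.hom_ext (LinearMap.ext fun r => ?_)
    change C.d i (i + 1) (r • z) = 0
    rw [map_smul, hz, smul_zero]

theorem isZero_HD_of_subsingleton (X : Dual.D A) (i : ℤ) (h : Subsingleton (S A i ⟶ X)) :
    IsZero ((DerivedCategory.homologyFunctor (ModuleCat.{u} A) i).obj X) := by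
  let C := DerivedCategory.Q.objPreimage X
  let e := DerivedCategory.Q.objObjPreimageIso X
  have hs : Subsingleton (S A i ⟶ DRing.toD C) := (Iso.homToEquiv e).subsingleton
  suffices hC : C.ExactAt i from
    IsZero.of_iso ((exactAt_iff_isZero_homology _ _).1 hC)
      (((DerivedCategory.homologyFunctor (ModuleCat.{u} A) i).mapIso e.symm) ≪≫ DR.homologyIso C i)
  rw [C.exactAt_iff' (i - 1) i (i + 1) (by simp) (by simp), ShortComplex.moduleCat_exact_iff]
  intro z hz
  obtain ⟨H⟩ := (DR.map_eq_iff (sCx A i) (cycleMap C i z hz) 0).1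
    (Subsingleton.elim (α := S A i ⟶ DRing.toD C) _ _)
  have hc := H.comm i
  rw [dNext_eq _ (show (ComplexShape.up ℤ).Rel i (i + 1) from rfl),
    prevD_eq _ (show (ComplexShape.up ℤ).Rel (i - 1) i from by simp), zero_f, add_zero,
    show (sCx A i).d i (i + 1) = 0 from (isZero_single_obj_X _ _ _ _ (by omega)).eq_of_tgt _ _,
    zero_comp, zero_add] at hc
  let η := singleObjXSelf (ComplexShape.up ℤ) i (ModuleCat.of A A)
  refine ⟨H.hom i (i - 1) (η.inv (1 : A)), ?_⟩
  have hone : (cycleMap C i z hz).f i (η.inv (1 : A)) = z := by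
    have hf : (cycleMap C i z hz).f i = η.hom ≫ ModuleCat.ofHom (LinearMap.toSpanSingleton A _ z) :=
      mkHomFromSingle_f _ _
    rw [hf]
    change (η.hom (η.inv (1 : A))) • z = z
    rw [show η.hom (η.inv (1 : A)) = (1 : A) from ConcreteCategory.congr_hom η.inv_hom_id (1 : A), one_smul]
  exact (ConcreteCategory.congr_hom hc.symm (η.inv (1 : A))).trans hone

theorem isLE_of_subsingleton {X : Dual.D A} {k : ℤ} (h : ∀ i, k < i → Subsingleton (S A i ⟶ X)) : X.IsLE k :=
  (DerivedCategory.isLE_iff X k).2 fun i hi => isZero_HD_of_subsingleton X i (h i hi)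

theorem isGE_of_subsingleton {X : Dual.D A} {k : ℤ} (h : ∀ i, i < k → Subsingleton (S A i ⟶ X)) : X.IsGE k :=
  (DerivedCategory.isGE_iff X k).2 fun i hi => isZero_HD_of_subsingleton X i (h i hi)

theorem isZero_of_subsingleton {X : Dual.D A} (h : ∀ i, Subsingleton (S A i ⟶ X)) : IsZero X := by
  have h0 : ∀ i, IsZero ((DerivedCategory.homologyFunctor (ModuleCat.{u} A) i).obj X) :=
    fun i => isZero_HD_of_subsingleton X i (h i)
  have : X.IsLE 0 := isLE_of_subsingleton fun i _ => h i
  have : X.IsGE 1 := isGE_of_subsingleton fun i _ => h i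
  exact (IsZero.iff_id_eq_zero X).2
    (DerivedCategory.TStructure.t.zero_of_isLE_of_isGE (𝟙 X) 0 1 (by omega) inferInstance inferInstance)

theorem isZero_of_nonempty_shift (i : ℤ) : Nonempty ((S A i)⟦(1 : ℤ)⟧ ≅ S A (i - 1)) :=
  ⟨(shiftFunctor (Dual.D A) (1 : ℤ)).mapIso (DR.toDSingleIso i (ModuleCat.of A A)) ≪≫
    ((shiftFunctorAdd' (Dual.D A) (-i) (1 : ℤ) (-(i - 1)) (by omega)).app _).symm ≪≫
      (DR.toDSingleIso (i - 1) (ModuleCat.of A A)).symm⟩

theorem isIso_of_bijective_S {X Y : Dual.D A} (f : X ⟶ Y)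
    (h : ∀ i, Function.Bijective fun t : S A i ⟶ X => t ≫ f) : IsIso f := by
  obtain ⟨Z, g, δ, hT⟩ := distinguished_cocone_triangle f
  let T := Triangle.mk f g δ
  have h₁ : IsZero Z := by
    refine isZero_of_subsingleton fun i => subsingleton_of_forall_eq 0 fun t => ?_
    obtain ⟨e⟩ := isZero_of_nonempty_shift (A := A) (i + 1)
    rw [show i + 1 - 1 = i from by omega] at e
    obtain ⟨u, hu⟩ := (shiftFunctor (Dual.D A) (1 : ℤ)).map_surjective (e.hom ≫ t ≫ δ)
    have hu0 : u ≫ f = 0 := by
      apply (shiftFunctor (Dual.D A) (1 : ℤ)).map_injective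
      rw [Functor.map_comp, hu, Functor.map_zero]
      simp only [Category.assoc]
      erw [show δ ≫ f⟦(1 : ℤ)⟧' = 0 from comp_distTriang_mor_zero₃₁ T hT, comp_zero, comp_zero]
    have hu1 : u = 0 := (h (i + 1)).1 (hu0.trans zero_comp.symm)
    rw [hu1, Functor.map_zero] at hu
    have ht : t ≫ δ = 0 := by
      rw [← cancel_epi e.hom, ← hu, comp_zero]
    obtain ⟨w, hw⟩ := Triangle.coyoneda_exact₃ T hT t ht
    obtain ⟨v, rfl⟩ := (h i).2 w
    have h2 : f ≫ g = 0 := comp_distTriang_mor_zero₁₂ T hT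
    change t = (v ≫ f) ≫ g at hw
    rw [hw, Category.assoc, h2, comp_zero]
  exact (Triangle.isZero₃_iff_isIso₁ T hT).1 h₁

/-- Maps into a bounded complex of injectives vanish from objects in high degrees. -/
theorem subsingleton_hom_inj {W : Dual.D A} {E : DRing.Cx A} {a b s : ℤ} (hE : DRing.VanishesOutside E a b)
    (hinj : DRing.TermwiseInjective E) [W.IsGE s] (h : b < s) :
    Subsingleton (W ⟶ DerivedCategory.Q.obj E) := by
  have : E.IsStrictlyGE a := (CochainComplex.isStrictlyGE_iff E a).2 fun i hi => hE i (Or.inl hi)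
  have : ∀ i, CategoryTheory.Injective (E.X i) :=
    fun i => (Module.injective_iff_injective_object (R := A) (E.X i)).1 (hinj i)
  have : E.IsKInjective := CochainComplex.isKInjective_of_injective E a
  obtain ⟨C, _, ⟨e⟩⟩ := W.exists_iso_Q_obj_of_isGE s
  have : Subsingleton (DRing.toD C ⟶ DRing.toD E) := by
    refine subsingleton_of_forall_eq 0 fun g => ?_
    obtain ⟨φ, rfl⟩ := DR.exists_lift_inj g
    have : φ = 0 := HomologicalComplex.hom_ext _ _ fun i => by
      by_cases hi : i < s
      · exact (C.isZero_of_isStrictlyGE s i hi).eq_of_src _ _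
      · exact (hE i (Or.inr (by omega))).eq_of_tgt _ _
    rw [this]
    exact DerivedCategory.Q.map_zero _ _
  exact (Iso.homFromEquiv e).subsingleton

theorem subsingleton_hom_orth {W L : Dual.D A} {k n : ℤ} [W.IsLE k] [L.IsGE n] (h : k < n) :
    Subsingleton (W ⟶ L) :=
  subsingleton_of_forall_eq 0 fun f =>
    DerivedCategory.TStructure.t.zero_of_isLE_of_isGE f k n h inferInstance inferInstance

end GrothLib.DT
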