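import Groth.Agent.Lib.DTen.BCRHom
import Groth.Agent.Lib.DCxKFlat.Balance

/-! # The restriction of the unit -/

set_option autoImplicit false
universe u

open CategoryTheory CategoryTheory.Limits MonoidalCategory HomologicalComplex

attribute [local instance] HasDerivedCategory.standard

namespace GrothLib.DT

variable (R R' : Type u) [CommRing R] [CommRing R'] [Algebra R R']

/-- The algebra as a module, by restriction. -/
noncomputable def restrictSelfIso :
    (ModuleCat.restrictScalars.{u} (algebraMap R R')).obj (ModuleCat.of R' R') ≅ ModuleCat.of R R' :=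
  LinearEquiv.toModuleIso
    ({ toFun := fun x => (x : R')
       invFun := fun x => x
       map_add' := fun _ _ => rfl
       left_inv := fun _ => rfl
       right_inv := fun _ => rfl
       map_smul' := fun r x => (Algebra.smul_def (A := R') r (show R' from x)).symm } :
      ((ModuleCat.restrictScalars.{u} (algebraMap R R')).obj (ModuleCat.of R' R')) ≃ₗ[R] R')

/-- The restriction of the unit of `D(R')` is the algebra in degree zero. -/
noncomputable def restrictUnitIso :
    (DRing.restrictD (algebraMap R R')).obj (DTen.unit R') ≅ Dual.inD R R' :=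
  (DTen.resFactors (algebraMap R R')).app (𝟙_ (DRing.Cx R')) ≪≫
    DerivedCategory.Q.mapIso ((HomologicalComplex.singleMapHomologicalComplex
      (ModuleCat.restrictScalars.{u} (algebraMap R R')) (ComplexShape.up ℤ) 0).app (ModuleCat.of R' R') ≪≫
      (HomologicalComplex.single (ModuleCat.{u} R) (ComplexShape.up ℤ) 0).mapIso (restrictSelfIso R R')) ≪≫
    ((DerivedCategory.singleFunctorIsoCompQ (ModuleCat.{u} R) 0).app (ModuleCat.of R R')).symm

theorem hasFiniteTorDimCx_of_flat [Module.Flat R R'] :
    DRing.HasFiniteTorDimCx R ((DRing.restrictD (algebraMap R R')).obj (DTen.unit R')) := by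
  refine ⟨0, 0, (HomologicalComplex.single (ModuleCat.{u} R) (ComplexShape.up ℤ) 0).obj (ModuleCat.of R R'),
    fun i hi => HomologicalComplex.isZero_single_obj_X (ComplexShape.up ℤ) 0 _ i (by omega), fun i => ?_,
    ⟨((DerivedCategory.singleFunctorIsoCompQ (ModuleCat.{u} R) 0).app (ModuleCat.of R R')).symm ≪≫
      (restrictUnitIso R R').symm⟩⟩
  by_cases hi : i = 0
  · subst hi
    exact Module.Flat.of_linearEquiv
      (HomologicalComplex.singleObjXSelf (ComplexShape.up ℤ) 0 (ModuleCat.of R R')).toLinearEquiv
  · have := ModuleCat.subsingleton_of_isZero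
      (HomologicalComplex.isZero_single_obj_X (ComplexShape.up ℤ) 0 (ModuleCat.of R R') i hi)
    infer_instance

theorem hasFiniteTorDimCx_of_hasFiniteTorDim (h : DRing.HasFiniteTorDim R R') :
    DRing.HasFiniteTorDimCx R ((DRing.restrictD (algebraMap R R')).obj (DTen.unit R')) := by
  obtain ⟨n, hn⟩ := h
  exact ⟨_, _, DR.hasTorAmplitudeIn_of_iso (restrictUnitIso R R').symm ((KF.hasTorDimLE_iff R' n).1 hn)⟩

theorem isPerfect_of_isPerfectModule (h : DRing.IsPerfectModule R R') :
    DRing.IsPerfect R ((DRing.restrictD (algebraMap R R')).obj (DTen.unit R')) := by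
  obtain ⟨E, a, b, hE, hp, ⟨e⟩⟩ := h
  exact ⟨E, a, b, hE, hp, ⟨e ≪≫ (restrictUnitIso R R').symm⟩⟩

end GrothLib.DT
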