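import Groth.Agent.Lib.DTen.WayOut
import Groth.Agent.Lib.DTen.RestrictUnit
import Groth.Agent.Lib.DCxRing.Perfect
import Groth.Agent.Lib.DCxRing.ToSingle
import Mathlib.Algebra.Homology.DerivedCategory.SingleTriangle
import Mathlib.RingTheory.PicardGroup

/-! # The relative dualising object of a surjection with invertible kernel -/

set_option autoImplicit false
set_option maxHeartbeats 1000000
set_option backward.isDefEq.respectTransparency false
universe u

open CategoryTheory CategoryTheory.Limits Pretriangulated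
open scoped TensorProduct

attribute [local instance] HasDerivedCategory.standard

namespace GrothLib.DT.InvKer

variable {R A : Type u} [CommRing R] [CommRing A] [Algebra R A]

/-- A module in degree zero. -/
noncomputable abbrev σ (S : Type u) [CommRing S] : ModuleCat.{u} S ⥤ Dual.D S :=
  DerivedCategory.singleFunctor (ModuleCat.{u} S) 0

variable (R A) in
/-- Restriction of modules to the base. -/
noncomputable abbrev res : ModuleCat.{u} A ⥤ ModuleCat.{u} R := ModuleCat.restrictScalars.{u} (algebraMap R A)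

local notation "G" => DRing.restrictD (algebraMap R A)
variable (R A) in
/-- The kernel. -/
abbrev Ker : Ideal R := RingHom.ker (algebraMap R A)

variable (R A) in
/-- Restriction commutes with placing a module in degree zero. -/
noncomputable def sres : (σ A) ⋙ G ≅ (res R A) ⋙ (σ R) :=
  Functor.isoWhiskerRight (DerivedCategory.singleFunctorIsoCompQ (ModuleCat.{u} A) 0) G ≪≫
    Functor.associator _ _ _ ≪≫
    Functor.isoWhiskerLeft (HomologicalComplex.single (ModuleCat.{u} A) (ComplexShape.up ℤ) 0)
      (DTen.resFactors (algebraMap R A)) ≪≫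
    (Functor.associator _ _ _).symm ≪≫
    Functor.isoWhiskerRight (HomologicalComplex.singleMapHomologicalComplex (res R A) (ComplexShape.up ℤ) 0)
      DerivedCategory.Q ≪≫
    Functor.associator _ _ _ ≪≫
    Functor.isoWhiskerLeft (res R A) (DerivedCategory.singleFunctorIsoCompQ (ModuleCat.{u} R) 0).symm

theorem subsingleton_hom_projective (P X : ModuleCat.{u} R) [Module.Projective R P] (j : ℤ) (hj : j ≠ 0) :
    Subsingleton ((σ R).obj P ⟶ ((σ R).obj X)⟦j⟧) := by
  have h : DR.HasProjAmp ((σ R).obj P) 0 0 :=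
    ⟨(HomologicalComplex.single (ModuleCat.{u} R) (ComplexShape.up ℤ) 0).obj P,
      fun i hi => HomologicalComplex.isZero_single_obj_X (ComplexShape.up ℤ) 0 _ i (by omega),
      fun i => by
        by_cases hi : i = 0
        · subst hi
          exact Module.Projective.of_equiv
            (HomologicalComplex.singleObjXSelf (ComplexShape.up ℤ) 0 P).symm.toLinearEquiv
        · have := ModuleCat.subsingleton_of_isZero
            (HomologicalComplex.isZero_single_obj_X (ComplexShape.up ℤ) 0 P i hi)
          infer_instance,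
      ⟨((DerivedCategory.singleFunctorIsoCompQ (ModuleCat.{u} R) 0).app P).symm⟩⟩
  have h' := DR.subsingleton_hom_of_hasProjAmp h (-j) (by omega) X
  rw [neg_neg] at h'
  exact h'

variable (R A)

/-- `0 → I → R → A → 0`. -/
noncomputable abbrev extI : ShortComplex (ModuleCat.{u} R) :=
  ShortComplex.mk (X₁ := ModuleCat.of R (Ker R A)) (X₂ := ModuleCat.of R R) (X₃ := (res R A).obj (ModuleCat.of A A))
    (ModuleCat.ofHom (Submodule.subtype (Ker R A)))
    (ModuleCat.ofHom (Y := (res R A).obj (ModuleCat.of A A))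
      ({ toFun := fun r => (show (res R A).obj (ModuleCat.of A A) from algebraMap R A r)
         map_add' := fun x y => map_add (algebraMap R A) x y
         map_smul' := fun r x => show algebraMap R A (r * x) = algebraMap R A r * algebraMap R A x from
           map_mul (algebraMap R A) r x } : R →ₗ[R] ((res R A).obj (ModuleCat.of A A))))
    (ModuleCat.hom_ext (LinearMap.ext fun x => show algebraMap R A (show (Ker R A) from x).1 = 0 from
      RingHom.mem_ker.1 (show (Ker R A) from x).2))

variable {R A}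

theorem shortExact_extI (hφ : Function.Surjective (algebraMap R A)) : (extI R A).ShortExact where
  exact := (ShortComplex.moduleCat_exact_iff _).2 fun x hx =>
    ⟨(show (Ker R A) from ⟨(show R from x), RingHom.mem_ker.2 hx⟩), rfl⟩
  mono_f := (ModuleCat.mono_iff_injective _).2 (fun x y h => @Subtype.ext _ _ (show (Ker R A) from x) (show (Ker R A) from y) h)
  epi_g := (ModuleCat.epi_iff_surjective _).2 (fun y => hφ (show A from y))

theorem isPerfect_restrict_unit (hφ : Function.Surjective (algebraMap R A)) [Module.Invertible R (Ker R A)] :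
    DRing.IsPerfect R ((G).obj (DTen.unit A)) := by
  have hp : ∀ P : ModuleCat.{u} R, Module.Finite R P → Module.Projective R P →
      DRing.IsPerfect R ((σ R).obj P) := fun P h1 h2 =>
    ⟨(HomologicalComplex.single (ModuleCat.{u} R) (ComplexShape.up ℤ) 0).obj P, 0, 0,
      fun i hi => HomologicalComplex.isZero_single_obj_X (ComplexShape.up ℤ) 0 _ i (by omega),
      fun i => by
        by_cases hi : i = 0
        · subst hi
          exact ⟨Module.Finite.equiv (HomologicalComplex.singleObjXSelf (ComplexShape.up ℤ) 0 P).symm.toLinearEquiv,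
            Module.Projective.of_equiv (HomologicalComplex.singleObjXSelf (ComplexShape.up ℤ) 0 P).symm.toLinearEquiv⟩
        · have := ModuleCat.subsingleton_of_isZero
            (HomologicalComplex.isZero_single_obj_X (ComplexShape.up ℤ) 0 P i hi)
          exact ⟨inferInstance, inferInstance⟩,
      ⟨((DerivedCategory.singleFunctorIsoCompQ (ModuleCat.{u} R) 0).app P).symm⟩⟩
  have h : DRing.IsPerfect R ((σ R).obj ((res R A).obj (ModuleCat.of A A))) :=
    (DR.isPerfect_triangle _ (shortExact_extI hφ).singleTriangle_distinguished).1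
      (hp (ModuleCat.of R (Ker R A)) inferInstance inferInstance)
      (hp (ModuleCat.of R R) inferInstance inferInstance)
  exact DR.isPerfect_of_iso (((σ R).mapIso (restrictSelfIso R A)) ≪≫ (restrictUnitIso R A).symm) h

variable {N : ModuleCat.{u} A} (q : ModuleCat.of R (Module.Dual R (Ker R A)) ⟶ (res R A).obj N)

/-- Multiplication, as functionals on the kernel. -/
noncomputable def ιD : ModuleCat.of R R ⟶ ModuleCat.of R (Module.Dual R (Ker R A)) :=
  ModuleCat.ofHom (LinearMap.toSpanSingleton R _ (Submodule.subtype (Ker R A)))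

variable (hker : ∀ g : Module.Dual R (Ker R A), q g = 0 ↔ ∃ r : R, ιD (A := A) r = g)
  (hq : Function.Surjective q)

/-- `0 → R → I^∨ → N → 0`. -/
noncomputable abbrev extN : ShortComplex (ModuleCat.{u} R) :=
  ShortComplex.mk (X₁ := ModuleCat.of R R) (X₂ := ModuleCat.of R (Module.Dual R (Ker R A))) (X₃ := (res R A).obj N)
    ιD q (ModuleCat.hom_ext (LinearMap.ext fun r => (hker _).2 ⟨r, rfl⟩))

theorem ιD_injective [Module.Invertible R (Ker R A)] : Function.Injective (ιD (R := R) (A := A)) := by
  intro r s h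
  apply (Module.Invertible.toModuleEnd_bijective R (Ker R A)).injective
  exact LinearMap.ext fun x => Subtype.ext (LinearMap.congr_fun h x)

include hq in
theorem shortExact_extN [Module.Invertible R (Ker R A)] : (extN q hker).ShortExact where
  exact := (ShortComplex.moduleCat_exact_iff _).2 fun g hg => (hker g).1 hg
  mono_f := (ModuleCat.mono_iff_injective _).2 ιD_injective
  epi_g := (ModuleCat.epi_iff_surjective _).2 hq

theorem eq_zero_of_hom [Module.Invertible R (Ker R A)] (h : (res R A).obj (ModuleCat.of A A) ⟶ ModuleCat.of R R)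
    (hφ : Function.Surjective (algebraMap R A)) : h = 0 := by
  have he := (shortExact_extI hφ).epi_g
  rw [← cancel_epi (extI R A).g, comp_zero]
  refine ModuleCat.hom_ext ?_
  apply LinearMap.ext_ring
  let F : R →ₗ[R] R := ((extI R A).g ≫ h).hom
  apply ιD_injective (A := A)
  refine LinearMap.ext fun x => ?_
  have h0 : F (x : R) = 0 :=
    (congrArg h (show (extI R A).g (x : R) = 0 from x.2)).trans (map_zero h.hom)
  change F 1 * (x : R) = (0 : R) * (x : R)
  rw [zero_mul, mul_comm, ← smul_eq_mul, ← map_smul, smul_eq_mul, mul_one, h0]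

theorem subsingleton_hom_A [Module.Invertible R (Ker R A)] (hφ : Function.Surjective (algebraMap R A)) (j : ℤ) (hj : j ≠ 1) :
    Subsingleton ((σ R).obj ((res R A).obj (ModuleCat.of A A)) ⟶ ((σ R).obj (ModuleCat.of R R))⟦j⟧) := by
  refine subsingleton_of_forall_eq 0 fun f => ?_
  by_cases h0 : j = 0
  · subst h0
    let c := (shiftFunctorZero (Dual.D R) ℤ).app ((σ R).obj (ModuleCat.of R R))
    obtain ⟨h, hh⟩ := (σ R).map_surjective (f ≫ c.hom)
    rw [← cancel_mono c.hom, ← hh, eq_zero_of_hom h hφ, zero_comp, Functor.map_zero]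
  · have hT := (shortExact_extI (R := R) hφ).singleTriangle_distinguished
    have := subsingleton_hom_projective (ModuleCat.of R R) (ModuleCat.of R R) j h0
    have hv : Subsingleton (((σ R).obj (ModuleCat.of R (Ker R A)))⟦(1 : ℤ)⟧ ⟶ ((σ R).obj (ModuleCat.of R R))⟦j⟧) := by
      have := subsingleton_hom_projective (ModuleCat.of R (Ker R A)) (ModuleCat.of R R) (j - 1) (by omega)
      exact (((shiftFunctor (Dual.D R) (1 : ℤ)).asEquivalence.fullyFaithfulFunctor.homEquiv).trans
        (Iso.homToEquiv ((shiftFunctorAdd' (Dual.D R) (j - 1) 1 j (by omega)).app _).symm)).symm.subsingleton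
    obtain ⟨v, hv'⟩ := Triangle.yoneda_exact₃ _ hT f (Subsingleton.elim (α := (σ R).obj (ModuleCat.of R R) ⟶ ((σ R).obj (ModuleCat.of R R))⟦j⟧) _ _)
    rw [hv', Subsingleton.elim (α := ((σ R).obj (ModuleCat.of R (Ker R A)))⟦(1 : ℤ)⟧ ⟶ ((σ R).obj (ModuleCat.of R R))⟦j⟧) v 0]
    exact comp_zero

include hq in
theorem bijective_extension [Module.Invertible R (Ker R A)] (hφ : Function.Surjective (algebraMap R A)) :
    Function.Bijective fun a : ModuleCat.of A A ⟶ N =>
      (σ R).map ((res R A).map a) ≫ (shortExact_extN q hker hq).singleδ := by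
  have hN := shortExact_extN q hker hq
  have hI := shortExact_extI (R := R) hφ
  have hT := hI.singleTriangle_distinguished
  have hz := subsingleton_hom_projective (ModuleCat.of R R) (ModuleCat.of R R) 1 one_ne_zero
  have key : ∀ (a : ModuleCat.of A A ⟶ N) (g : ModuleCat.of R (Ker R A) ⟶ ModuleCat.of R R), q g.hom = a (1 : A) →
      hI.singleδ ≫ ((σ R).map g)⟦(1 : ℤ)⟧' = (σ R).map ((res R A).map a) ≫ hN.singleδ := by
    intro a g hg
    let f : extI R A ⟶ extN q hker :=
      { τ₁ := g
        τ₂ := ModuleCat.ofHom (LinearMap.toSpanSingleton R _ g.hom)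
        τ₃ := (res R A).map a
        comm₁₂ := ModuleCat.hom_ext (LinearMap.ext fun x => LinearMap.ext fun y => by
          change g.hom x * (y : R) = (x : R) * g.hom y
          have hxy : (y : R) • x = (x : R) • y := Subtype.ext (mul_comm (y : R) (x : R))
          rw [mul_comm (g.hom x), ← smul_eq_mul, ← smul_eq_mul, ← map_smul, ← map_smul]
          exact congrArg g.hom hxy)
        comm₂₃ := ModuleCat.hom_ext (LinearMap.ext_ring (by
          change q ((1 : R) • g.hom) = a (algebraMap R A 1)
          rw [one_smul, map_one, hg])) }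
    exact (ShortComplex.ShortExact.singleTriangle.map hI hN f).comm₃
  constructor
  · intro a a' haa
    rw [← sub_eq_zero]
    simp only at haa
    obtain ⟨g, hg⟩ := hq ((a - a') (1 : A))
    have h0 : hI.singleδ ≫ ((σ R).map (ModuleCat.ofHom g))⟦(1 : ℤ)⟧' = 0 := by
      rw [key (a - a') (ModuleCat.ofHom g) hg, Functor.map_sub, Functor.map_sub, Preadditive.sub_comp,
        sub_eq_zero, haa]
    obtain ⟨w, hw⟩ := Triangle.yoneda_exact₃ _ (rot_of_distTriang _ hT) _ h0
    obtain ⟨w', rfl⟩ := (shiftFunctor (Dual.D R) (1 : ℤ)).map_surjective w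
    obtain ⟨h, rfl⟩ := (σ R).map_surjective w'
    have hgh : ModuleCat.ofHom g = -((extI R A).f ≫ h) := by
      apply (σ R).map_injective
      apply (shiftFunctor (Dual.D R) (1 : ℤ)).map_injective
      refine hw.trans ?_
      change (-((σ R).map (extI R A).f)⟦(1 : ℤ)⟧') ≫ _ = _
      rw [Preadditive.neg_comp, Functor.map_neg, Functor.map_neg, Functor.map_comp, Functor.map_comp]
    have hr : ∃ r : R, ιD (A := A) r = g := by
      refine ⟨-h.hom (1 : R), LinearMap.ext fun x => ?_⟩
      have hx : g x = -h.hom (x : R) := LinearMap.congr_fun (congrArg ModuleCat.Hom.hom hgh) x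
      change -h.hom (1 : R) * (x : R) = g x
      rw [hx, neg_mul, mul_comm, ← smul_eq_mul, ← map_smul, smul_eq_mul, mul_one]
    have h1 : (a - a') (1 : A) = 0 := hg.symm.trans ((hker g).2 hr)
    exact ModuleCat.hom_ext (LinearMap.ext_ring h1)
  · intro f
    obtain ⟨v, hv⟩ := Triangle.yoneda_exact₃ _ hT f
      (Subsingleton.elim (α := (σ R).obj (ModuleCat.of R R) ⟶ ((σ R).obj (ModuleCat.of R R))⟦(1 : ℤ)⟧) _ _)
    obtain ⟨v', rfl⟩ := (shiftFunctor (Dual.D R) (1 : ℤ)).map_surjective v
    obtain ⟨g, rfl⟩ := (σ R).map_surjective v'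
    exact ⟨ModuleCat.ofHom (LinearMap.toSpanSingleton A N (q g.hom)),
      (key _ g (one_smul A (show N from q g.hom)).symm).symm.trans hv.symm⟩

variable [DTen.HasRHomRel (algebraMap R A)]

include hker hq in
theorem nonempty_iso_RHomRel_unit [Module.Invertible R (Ker R A)] (hφ : Function.Surjective (algebraMap R A)) :
    Nonempty (((σ A).obj N)⟦(-1 : ℤ)⟧ ≅ (DTen.RHomRel (algebraMap R A)).obj (DTen.unit R)) := by
  have hN := shortExact_extN q hker hq
  let δ' : (G).obj ((σ A).obj N) ⟶ ((σ R).obj (ModuleCat.of R R))⟦(1 : ℤ)⟧ :=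
    (sres R A).hom.app N ≫ hN.singleδ
  let c := (shiftFunctorCompIsoId (Dual.D R) (1 : ℤ) (-1) (by omega)).app ((σ R).obj (ModuleCat.of R R))
  let uR : (σ R).obj (ModuleCat.of R R) ≅ DTen.unit R :=
    (DerivedCategory.singleFunctorIsoCompQ (ModuleCat.{u} R) 0).app (ModuleCat.of R R)
  let w : (G).obj (((σ A).obj N)⟦(-1 : ℤ)⟧) ⟶ DTen.unit R :=
    (((G).commShiftIso (-1 : ℤ)).hom.app ((σ A).obj N) ≫ δ'⟦(-1 : ℤ)⟧' ≫ c.hom) ≫ uR.hom
  let ψ := (DTen.relAdj (algebraMap R A)).homEquiv _ _ w
  suffices hψ : IsIso ψ from ⟨@asIso _ _ _ _ ψ hψ⟩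
  refine isIso_of_bijective_S _ fun i => ?_
  suffices hb : Function.Bijective fun t : S A i ⟶ ((σ A).obj N)⟦(-1 : ℤ)⟧ => (G).map t ≫ w by
    have he : (fun t : S A i ⟶ ((σ A).obj N)⟦(-1 : ℤ)⟧ => t ≫ ψ) =
        ((DTen.relAdj (algebraMap R A)).homEquiv _ _) ∘ fun t => (G).map t ≫ w :=
      funext fun t => ((DTen.relAdj (algebraMap R A)).homEquiv_naturality_left t w).symm
    rw [he]
    exact (Equiv.bijective _).comp hb
  let eS : S A i ≅ ((σ A).obj (ModuleCat.of A A))⟦-i⟧ := DR.toDSingleIso i (ModuleCat.of A A)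
  suffices hb : Function.Bijective fun t : ((σ A).obj (ModuleCat.of A A))⟦-i⟧ ⟶ ((σ A).obj N)⟦(-1 : ℤ)⟧ =>
      (G).map t ≫ w by
    have he : (fun t : S A i ⟶ ((σ A).obj N)⟦(-1 : ℤ)⟧ => (G).map t ≫ w) =
        (fun u => (G).map eS.hom ≫ u) ∘ (fun t => (G).map t ≫ w) ∘ fun t => eS.inv ≫ t := by
      funext t
      simp only [Function.comp_apply, ← Functor.map_comp_assoc, Iso.hom_inv_id_assoc]
    rw [he]
    exact (Iso.homFromEquiv ((G).mapIso eS).symm).bijective.comp (hb.comp (Iso.homFromEquiv eS).bijective)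
  let cA := ((G).commShiftIso (-i : ℤ)).app ((σ A).obj (ModuleCat.of A A)) ≪≫
    (shiftFunctor (Dual.D R) (-i)).mapIso ((sres R A).app (ModuleCat.of A A))
  by_cases hi : i = 1
  · subst hi
    let Φ : (ModuleCat.of A A ⟶ N) ≃ (((σ A).obj (ModuleCat.of A A))⟦(-1 : ℤ)⟧ ⟶ ((σ A).obj N)⟦(-1 : ℤ)⟧) :=
      (Equiv.ofBijective _ ⟨(σ A).map_injective, (σ A).map_surjective⟩).trans
        (Equiv.ofBijective _ ⟨(shiftFunctor (Dual.D A) (-1 : ℤ)).map_injective,
          (shiftFunctor (Dual.D A) (-1 : ℤ)).map_surjective⟩)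
    refine (Function.Bijective.of_comp_iff _ Φ.bijective).1 ?_
    have he : ((fun t => (G).map t ≫ w) ∘ Φ) =
        (fun u => cA.hom ≫ u ≫ uR.hom) ∘ (fun u => u⟦(-1 : ℤ)⟧' ≫ c.hom) ∘
          fun a => (σ R).map ((res R A).map a) ≫ hN.singleδ := by
      funext a
      have e1 := ((G).commShiftIso (-1 : ℤ)).hom.naturality ((σ A).map a)
      have e2 := (sres R A).hom.naturality a
      simp only [Function.comp_apply, w, δ', cA, Iso.trans_hom, Functor.mapIso_hom, Iso.app_hom, Category.assoc]
      dsimp only [Functor.comp_map] at e1 e2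
      change (G).map (((σ A).map a)⟦(-1 : ℤ)⟧') ≫ _ = _
      rw [reassoc_of% e1, ← Functor.map_comp_assoc, reassoc_of% e2, Functor.map_comp_assoc]
    rw [he]
    refine Function.Bijective.comp ?_ (Function.Bijective.comp ?_ (bijective_extension q hker hq hφ))
    · exact (Iso.homFromEquiv cA.symm).bijective.comp (Iso.homToEquiv uR).bijective
    · exact (Iso.homToEquiv c).bijective.comp
        ⟨(shiftFunctor (Dual.D R) (-1 : ℤ)).map_injective, (shiftFunctor (Dual.D R) (-1 : ℤ)).map_surjective⟩
  · have hs : Subsingleton (((σ A).obj (ModuleCat.of A A))⟦-i⟧ ⟶ ((σ A).obj N)⟦(-1 : ℤ)⟧) :=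
      have := DR.subsingleton_hom_of_hasProjAmp (K := S A i) (a := i) (b := i)
        ⟨sCx A i, vanishesOutside_sCx i, fun j => by
          by_cases hj : j = i
          · subst hj
            exact Module.Projective.of_equiv
              (HomologicalComplex.singleObjXSelf (ComplexShape.up ℤ) j (ModuleCat.of A A)).symm.toLinearEquiv
          · have := ModuleCat.subsingleton_of_isZero (vanishesOutside_sCx (A := A) i j (by omega))
            infer_instance, ⟨Iso.refl _⟩⟩ 1 (by omega) N
      (Iso.homFromEquiv eS).symm.subsingleton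
    have ht : Subsingleton ((G).obj (((σ A).obj (ModuleCat.of A A))⟦-i⟧) ⟶ DTen.unit R) := by
      have := subsingleton_hom_A (R := R) (A := A) hφ i hi
      have h1 : Subsingleton (((σ R).obj ((res R A).obj (ModuleCat.of A A)))⟦-i⟧ ⟶ (σ R).obj (ModuleCat.of R R)) :=
        @Equiv.subsingleton _ _ (((shiftFunctor (Dual.D R) (-i)).asEquivalence.fullyFaithfulFunctor.homEquiv).trans
          (Iso.homToEquiv ((shiftFunctorCompIsoId (Dual.D R) i (-i) (by omega)).app _))).symm this
      exact @Equiv.subsingleton _ _ ((Iso.homFromEquiv cA.symm).symm.trans (Iso.homToEquiv uR).symm) h1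
    exact ⟨fun x y _ => Subsingleton.elim x y, fun y => ⟨0, Subsingleton.elim _ _⟩⟩


omit [DTen.HasRHomRel (algebraMap R A)] in
/-- The quotient map from the dual of the kernel to an inverse of `A ⊗ I`. -/
theorem exists_quotient (hφ : Function.Surjective (algebraMap R A)) [Module.Invertible R (Ker R A)]
    (M : Type u) [AddCommGroup M] [Module A M] (e : (A ⊗[R] (Ker R A)) ⊗[A] M ≃ₗ[A] A) :
    ∃ q : ModuleCat.of R (Module.Dual R (Ker R A)) ⟶ (res R A).obj (ModuleCat.of A M),
      (∀ g : Module.Dual R (Ker R A), q g = 0 ↔ ∃ r : R, ιD (A := A) r = g) ∧ Function.Surjective q := by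
  let D : M ≃ₗ[A] Module.Dual A (A ⊗[R] (Ker R A)) :=
    Module.Invertible.linearEquivDual (TensorProduct.comm A M (A ⊗[R] (Ker R A)) ≪≫ₗ e)
  let L : (Ker R A →ₗ[R] A) ≃ₗ[A] Module.Dual A (A ⊗[R] (Ker R A)) := LinearMap.liftBaseChangeEquiv A
  let F : (Ker R A →ₗ[R] A) ≃ₗ[A] M := L ≪≫ₗ D.symm
  have hsmul : ∀ (r : R) (g : Module.Dual R (Ker R A)),
      (Algebra.linearMap R A).comp (r • g) = algebraMap R A r • (Algebra.linearMap R A).comp g :=
    fun r g => LinearMap.ext fun x => map_mul (algebraMap R A) r (g x)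
  refine ⟨ModuleCat.ofHom (Y := (res R A).obj (ModuleCat.of A M))
    ({ toFun := fun g => (show (res R A).obj (ModuleCat.of A M) from F ((Algebra.linearMap R A).comp g))
       map_add' := fun g g' => by
         change F _ = F _ + F _
         rw [← map_add, LinearMap.comp_add]
       map_smul' := fun r g => by
         change F _ = algebraMap R A r • F _
         rw [← map_smul, hsmul] } : Module.Dual R (Ker R A) →ₗ[R] ((res R A).obj (ModuleCat.of A M))),
    fun g => ?_, fun y => ?_⟩
  · change F _ = 0 ↔ _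
    rw [map_eq_zero_iff F F.injective]
    constructor
    · intro hg
      have hmem : ∀ x, g x ∈ Ker R A := fun x => RingHom.mem_ker.2 (LinearMap.congr_fun hg x)
      let h : Ker R A →ₗ[R] Ker R A := LinearMap.codRestrict (Ker R A) g hmem
      obtain ⟨r, hr⟩ := (Module.Invertible.toModuleEnd_bijective R (Ker R A)).2 h
      exact ⟨r, LinearMap.ext fun x => congrArg Subtype.val (LinearMap.congr_fun hr x)⟩
    · rintro ⟨r, rfl⟩
      refine LinearMap.ext fun x => ?_
      change algebraMap R A (r * (x : R)) = 0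
      rw [map_mul, RingHom.mem_ker.1 x.2, mul_zero]
  · obtain ⟨g, hg⟩ := Module.projective_lifting_property (Algebra.linearMap R A) (F.symm y) hφ
    exact ⟨g, (congrArg F hg).trans (F.apply_symm_apply y)⟩

end GrothLib.DT.InvKer
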