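import Groth.Agent.Lib.DTen.Values
import Groth.Agent.Lib.DCxRing.LBaseCmp
import Groth.Prelude.Def_DTen4

/-! # Derived base change and the mixed derived tensor product on K-flat complexes -/

set_option autoImplicit false
set_option maxHeartbeats 800000
universe u

open CategoryTheory CategoryTheory.Limits MonoidalCategory HomologicalComplex

attribute [local instance] HasDerivedCategory.standard

namespace GrothLib.DT

variable {R A : Type u} [CommRing R] [CommRing A] (φ : R →+* A)

theorem isRightAdjoint_restrictD : (DRing.restrictD φ).IsRightAdjoint := by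
  have := GrothLib.KF.hasLBaseChange φ
  obtain ⟨adj⟩ := Groth.Agent.S12898.result φ
  exact ⟨_, ⟨adj⟩⟩

theorem hasLBase : DTen.HasLBase φ := ⟨isRightAdjoint_restrictD φ⟩

/-- `baseCmp` is invertible on K-flat complexes. -/
theorem isIso_baseCmp [DTen.HasLBase φ] {K : DRing.Cx R} (hK : KF.IsKFlat K) :
    IsIso ((DTen.baseCmp φ).app K) := by
  have := GrothLib.KF.hasLBaseChange φ
  obtain ⟨a₀⟩ := Groth.Agent.S12898.result φ
  have h0 : IsIso ((a₀.homEquiv _ _).symm ((DTen.baseγ φ).app K)) :=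
    GrothLib.DR.isIso_transpose_cxUnit φ a₀ hK
  have key : (DTen.baseCmp φ).app K =
      ((DTen.baseAdj φ).leftAdjointUniq a₀).hom.app (DerivedCategory.Q.obj K) ≫
        (a₀.homEquiv _ _).symm ((DTen.baseγ φ).app K) := by
    apply ((DTen.baseAdj φ).homEquiv _ _).injective
    rw [Adjunction.homEquiv_unit, Adjunction.homEquiv_unit, DTen.baseCmp_fac, Functor.map_comp,
      Adjunction.unit_leftAdjointUniq_hom_app_assoc]
    exact (((a₀.homEquiv_unit _ _ _).symm).trans ((a₀.homEquiv _ _).apply_symm_apply _)).symm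
  rw [key]
  infer_instance

theorem isKFlat_extCx {K : DRing.Cx R} (hK : KF.IsKFlat K) : KF.IsKFlat ((DTen.extCx φ).obj K) :=
  KF.isKFlat_baseChange φ K hK

theorem quasiIso_extCx_map {P Q : DRing.Cx R} (f : P ⟶ Q) [QuasiIso f] (hP : KF.IsKFlat P)
    (hQ : KF.IsKFlat Q) : QuasiIso ((DTen.extCx φ).map f) :=
  KF.quasiIso_bc_map φ f hP hQ

/-- The quotient functor on mixed pairs. -/
noncomputable abbrev quotMix : DRing.Cx R × DRing.Cx A ⥤
    HomotopyCategory (ModuleCat.{u} R) (ComplexShape.up ℤ) × HomotopyCategory (ModuleCat.{u} A) (ComplexShape.up ℤ) :=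
  (HomotopyCategory.quotient _ _).prod (HomotopyCategory.quotient _ _)

/-- The mixed tensor product on the homotopy categories. -/
noncomputable abbrev mixK :
    HomotopyCategory (ModuleCat.{u} R) (ComplexShape.up ℤ) × HomotopyCategory (ModuleCat.{u} A) (ComplexShape.up ℤ) ⥤
      Dual.D A :=
  ((ModuleCat.extendScalars.{u, u, u} φ).mapHomotopyCategory (ComplexShape.up ℤ)).prod (𝟭 _) ⋙ tensorK A

/-- It restricts to the mixed tensor product. -/
noncomputable def mixKIso : quotMix (R := R) (A := A) ⋙ mixK φ ≅ DTen.mix₂ φ :=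
  Functor.isoWhiskerRight (NatIso.ofComponents
      (F := quotMix (R := R) (A := A) ⋙
        ((ModuleCat.extendScalars.{u, u, u} φ).mapHomotopyCategory (ComplexShape.up ℤ)).prod (𝟭 _))
      (G := (DTen.extCx φ).prod (𝟭 _) ⋙ quot₂ A)
      (fun X => Iso.prod ((((ModuleCat.extendScalars.{u, u, u} φ).mapHomotopyCategoryFactors
        (ComplexShape.up ℤ))).app X.1) (Iso.refl _))
      (fun f => Prod.ext ((((ModuleCat.extendScalars.{u, u, u} φ).mapHomotopyCategoryFactors
        (ComplexShape.up ℤ))).hom.naturality f.1) ((Category.comp_id _).trans (Category.id_comp _).symm)))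
    (tensorK A) ≪≫ Functor.isoWhiskerLeft ((DTen.extCx φ).prod (𝟭 _)) (tensorKIso A)

theorem leftResolvableMix :
    Derive.LeftResolvable ((qK R).prod (qK A)) (fun X => KF.IsKFlat X.1.as) (mixK φ) where
  exists_res X := by
    obtain ⟨P, q, hP, hq⟩ := exists_res X.1.as
    exact ⟨((HomotopyCategory.quotient _ _).obj P, X.2),
      Prod.mkHom ((HomotopyCategory.quotient _ _).map q) (𝟙 _), hP,
      (HomotopyCategory.quotient_map_mem_quasiIso_iff q).2 hq,
      MorphismProperty.id_mem _ _⟩
  inverts X Y s hX hY hs := by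
    obtain ⟨f, hf⟩ := (HomotopyCategory.quotient _ _).map_surjective
      (X := X.1.as) (Y := Y.1.as) s.1
    have : QuasiIso f := (HomotopyCategory.quotient_map_mem_quasiIso_iff f).1 (qK_of_eq hf hs.1)
    refine (leftResolvable₂ A).inverts _ (isKFlat_extCx φ hX) (isKFlat_extCx φ hY) ⟨?_, hs.2⟩
    have := quasiIso_extCx_map φ f hX hY
    exact qK_of_eq (congrArg ((ModuleCat.extendScalars.{u, u, u} φ).mapHomotopyCategory (ComplexShape.up ℤ)).map hf).symm
      ((HomotopyCategory.quotient_map_mem_quasiIso_iff ((DTen.extCx φ).map f)).2 this)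

/-- `Q × Q` factors through the homotopy categories. -/
noncomputable def quotMixIso :
    quotMix (R := R) (A := A) ⋙ DerivedCategory.Qh.prod DerivedCategory.Qh ≅ DTen.QMix R A :=
  NatIso.prod (DerivedCategory.quotientCompQhIso (ModuleCat.{u} R))
    (DerivedCategory.quotientCompQhIso (ModuleCat.{u} A))

theorem hasLTenMix : DTen.HasLTenMix φ :=
  hasLeftDerivedFunctor_precomp quotMix quotMixIso (mixKIso φ) (leftResolvableMix φ) (DTen.qisMix R A)

/-- The mixed counit is invertible when the complex over `R` is K-flat. -/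
theorem isIso_εMix [DTen.HasLTenMix φ] {K : DRing.Cx R} (hK : KF.IsKFlat K) (N : DRing.Cx A) :
    IsIso ((DTen.εMix φ).app (K, N)) :=
  isIso_app_precomp quotMix quotMixIso (mixKIso φ) (leftResolvableMix φ) (DTen.qisMix R A)
    (DTen.LTenMix φ) (DTen.εMix φ) (X := (K, N)) hK

theorem isIso_split_app [DTen.HasLTen A] [DTen.HasLBase φ] [DTen.HasLTenMix φ] (E : Dual.D R) (N : Dual.D A) :
    IsIso ((DTen.split φ).app (E, N)) := by
  obtain ⟨K, hK, ⟨e⟩⟩ := exists_Q_iso E
  obtain ⟨L, -, ⟨e'⟩⟩ := exists_Q_iso N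
  refine ((MorphismProperty.isomorphisms (Dual.D A)).arrow_mk_iso_iff
    (Arrow.isoMk ((DTen.LBaseTen φ).mapIso (Iso.prod e e'))
      ((DTen.LTenMix φ).mapIso (Iso.prod e e')) ((DTen.split φ).naturality _))).1 ?_
  have hε := isIso_εMix φ hK L
  have h : IsIso ((DTen.split φ).app ((DTen.QMix R A).obj (K, L)) ≫ (DTen.εMix φ).app (K, L)) := by
    rw [DTen.split_fac]
    have := isIso_baseCmp φ hK
    have := isIso_mkHom ((DTen.baseCmp φ).app K) (𝟙 (DerivedCategory.Q.obj L))
    exact IsIso.comp_isIso' (inferInstanceAs (IsIso ((DTen.LTen₂ A).map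
      (Prod.mkHom ((DTen.baseCmp φ).app K) (𝟙 (DerivedCategory.Q.obj L))))))
      (isIso_ε_left (isKFlat_extCx φ hK) L)
  exact @IsIso.of_isIso_comp_right _ _ _ _ _ _ ((DTen.εMix φ).app (K, L)) hε h

end GrothLib.DT
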