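import Groth.Agent.Lib.DTen.Mix
import Groth.Prelude.Def_DTen6

/-! # The iterated mixed derived tensor product -/

set_option autoImplicit false
set_option maxHeartbeats 800000
universe u

open CategoryTheory CategoryTheory.Limits MonoidalCategory HomologicalComplex

attribute [local instance] HasDerivedCategory.standard

namespace GrothLib.DT

variable {A B C : Type u} [CommRing A] [CommRing B] [CommRing C] (φ : A →+* B) (ψ : B →+* C)

theorem quot_extCx_map_eq {X Y : DRing.Cx B} (f g : X ⟶ Y)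
    (h : (HomotopyCategory.quotient _ (ComplexShape.up ℤ)).map f = (HomotopyCategory.quotient _ _).map g) :
    (HomotopyCategory.quotient _ (ComplexShape.up ℤ)).map ((DTen.extCx ψ).map f) =
      (HomotopyCategory.quotient _ _).map ((DTen.extCx ψ).map g) :=
  HomotopyCategory.eq_of_homotopy _ _
    ((ModuleCat.extendScalars.{u, u, u} ψ).mapHomotopy (HomotopyCategory.homotopyOfEq f g h))

theorem quot_tensor_map_eq {X Y : DRing.Cx B × DRing.Cx B} (f g : X ⟶ Y)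
    (h₁ : (HomotopyCategory.quotient _ (ComplexShape.up ℤ)).map f.1 = (HomotopyCategory.quotient _ _).map g.1)
    (h₂ : (HomotopyCategory.quotient _ (ComplexShape.up ℤ)).map f.2 = (HomotopyCategory.quotient _ _).map g.2) :
    (HomotopyCategory.quotient _ (ComplexShape.up ℤ)).map ((DTen.tensorT B).map f) =
      (HomotopyCategory.quotient _ _).map ((DTen.tensorT B).map g) := by
  change (HomotopyCategory.quotient _ _).map (f.1 ▷ X.2 ≫ Y.1 ◁ f.2) =
      (HomotopyCategory.quotient _ _).map (g.1 ▷ X.2 ≫ Y.1 ◁ g.2)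
  rw [Functor.map_comp, Functor.map_comp]
  exact congrArg₂ (· ≫ ·)
    (HomotopyCategory.eq_of_homotopy _ _ (mapBifunctorMapHomotopy₁ (HomotopyCategory.homotopyOfEq f.1 g.1 h₁)
      (𝟙 X.2) (curriedTensor (ModuleCat.{u} B)) (ComplexShape.up ℤ)))
    (HomotopyCategory.eq_of_homotopy _ _ (mapBifunctorMapHomotopy₂ (𝟙 Y.1) (HomotopyCategory.homotopyOfEq f.2 g.2 h₂)
      (curriedTensor (ModuleCat.{u} B)) (ComplexShape.up ℤ)))

/-- The quotient functor on mixed triples. -/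
noncomputable abbrev quotMix₃ : DRing.Cx A × (DRing.Cx B × DRing.Cx C) ⥤
    HomotopyCategory (ModuleCat.{u} A) (ComplexShape.up ℤ) ×
      (HomotopyCategory (ModuleCat.{u} B) (ComplexShape.up ℤ) × HomotopyCategory (ModuleCat.{u} C) (ComplexShape.up ℤ)) :=
  (HomotopyCategory.quotient _ _).prod ((HomotopyCategory.quotient _ _).prod (HomotopyCategory.quotient _ _))

theorem mix₃_map_eq {X Y : DRing.Cx A × (DRing.Cx B × DRing.Cx C)} (f g : X ⟶ Y)
    (h : (quotMix₃ (A := A) (B := B) (C := C)).map f = quotMix₃.map g) :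
    (DTen.mix₃ φ ψ).map f = (DTen.mix₃ φ ψ).map g := by
  have h2 := congrArg Prod.snd h
  refine tensor₂_map_eq _ _ (quot_extCx_map_eq ψ _ _ ?_) (congrArg Prod.snd h2)
  exact quot_tensor_map_eq (Prod.mkHom ((DTen.extCx φ).map f.1) f.2.1) (Prod.mkHom ((DTen.extCx φ).map g.1) g.2.1)
    (quot_extCx_map_eq φ _ _ (congrArg Prod.fst h)) (congrArg Prod.fst h2)

/-- The iterated mixed tensor product on the homotopy categories. -/
noncomputable def mixK₃ :
    HomotopyCategory (ModuleCat.{u} A) (ComplexShape.up ℤ) ×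
      (HomotopyCategory (ModuleCat.{u} B) (ComplexShape.up ℤ) × HomotopyCategory (ModuleCat.{u} C) (ComplexShape.up ℤ)) ⥤
      Dual.D C where
  obj X := (DTen.mix₃ φ ψ).obj (X.1.as, (X.2.1.as, X.2.2.as))
  map {X Y} f := (DTen.mix₃ φ ψ).map
    (quotMix₃.preimage (X := (X.1.as, (X.2.1.as, X.2.2.as))) (Y := (Y.1.as, (Y.2.1.as, Y.2.2.as))) f)
  map_id X := by
    rw [← (DTen.mix₃ φ ψ).map_id]
    exact mix₃_map_eq φ ψ _ _
      ((quotMix₃.map_preimage (X := (X.1.as, (X.2.1.as, X.2.2.as))) (Y := (X.1.as, (X.2.1.as, X.2.2.as))) (𝟙 X)).trans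
        (quotMix₃.map_id (X.1.as, (X.2.1.as, X.2.2.as))).symm)
  map_comp {X Y Z} f g := by
    rw [← (DTen.mix₃ φ ψ).map_comp]
    exact mix₃_map_eq φ ψ _ _
      ((quotMix₃.map_preimage (X := (X.1.as, (X.2.1.as, X.2.2.as))) (Y := (Z.1.as, (Z.2.1.as, Z.2.2.as))) (f ≫ g)).trans
        ((quotMix₃.map_comp _ _).trans (congrArg₂ (· ≫ ·)
          (quotMix₃.map_preimage (X := (X.1.as, (X.2.1.as, X.2.2.as))) (Y := (Y.1.as, (Y.2.1.as, Y.2.2.as))) f)
          (quotMix₃.map_preimage (X := (Y.1.as, (Y.2.1.as, Y.2.2.as))) (Y := (Z.1.as, (Z.2.1.as, Z.2.2.as))) g))).symm)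

/-- It restricts to the iterated mixed tensor product. -/
noncomputable def mixK₃Iso : quotMix₃ ⋙ mixK₃ φ ψ ≅ DTen.mix₃ φ ψ :=
  NatIso.ofComponents (fun _ => Iso.refl _) fun f => (Category.comp_id _).trans
    ((mix₃_map_eq φ ψ _ f (quotMix₃.map_preimage (quotMix₃.map f))).trans (Category.id_comp _).symm)

theorem leftResolvableMix₃ :
    Derive.LeftResolvable ((qK A).prod ((qK B).prod (qK C)))
      (fun X => KF.IsKFlat X.1.as ∧ KF.IsKFlat X.2.1.as) (mixK₃ φ ψ) where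
  exists_res X := by
    obtain ⟨P, q, hP, hq⟩ := exists_res X.1.as
    obtain ⟨P', q', hP', hq'⟩ := exists_res X.2.1.as
    exact ⟨((HomotopyCategory.quotient _ _).obj P, ((HomotopyCategory.quotient _ _).obj P', X.2.2)),
      Prod.mkHom ((HomotopyCategory.quotient _ _).map q)
        (Prod.mkHom ((HomotopyCategory.quotient _ _).map q') (𝟙 _)), ⟨hP, hP'⟩,
      (HomotopyCategory.quotient_map_mem_quasiIso_iff q).2 hq,
      (HomotopyCategory.quotient_map_mem_quasiIso_iff q').2 hq',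
      MorphismProperty.id_mem _ _⟩
  inverts X Y s hX hY hs := by
    let f := quotMix₃.preimage (X := (X.1.as, (X.2.1.as, X.2.2.as))) (Y := (Y.1.as, (Y.2.1.as, Y.2.2.as))) s
    have hf := quotMix₃.map_preimage (X := (X.1.as, (X.2.1.as, X.2.2.as))) (Y := (Y.1.as, (Y.2.1.as, Y.2.2.as))) s
    have : QuasiIso f.1 := (HomotopyCategory.quotient_map_mem_quasiIso_iff f.1).1
      (qK_of_eq (congrArg Prod.fst hf) hs.1)
    have : QuasiIso f.2.1 := (HomotopyCategory.quotient_map_mem_quasiIso_iff f.2.1).1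
      (qK_of_eq (congrArg (fun t => t.2.1) hf) hs.2.1)
    have : QuasiIso f.2.2 := (HomotopyCategory.quotient_map_mem_quasiIso_iff f.2.2).1
      (qK_of_eq (congrArg (fun t => t.2.2) hf) hs.2.2)
    have := quasiIso_extCx_map φ f.1 hX.1 hY.1
    have := quasiIso_tensorHom ((DTen.extCx φ).map f.1) f.2.1 (isKFlat_extCx φ hX.1) (isKFlat_extCx φ hY.1)
    have hl := isKFlat_tensor (isKFlat_extCx φ hX.1) hX.2
    have hl' := isKFlat_tensor (isKFlat_extCx φ hY.1) hY.2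
    have := quasiIso_extCx_map ψ ((DTen.extCx φ).map f.1 ▷ X.2.1.as ≫ (DTen.extCx φ).obj Y.1.as ◁ f.2.1) hl hl'
    have := quasiIso_tensorHom
      ((DTen.extCx ψ).map ((DTen.extCx φ).map f.1 ▷ X.2.1.as ≫ (DTen.extCx φ).obj Y.1.as ◁ f.2.1))
      f.2.2 (isKFlat_extCx ψ hl) (isKFlat_extCx ψ hl')
    exact isIso_Q_map (((DTen.extCx ψ).map ((DTen.extCx φ).map f.1 ▷ X.2.1.as ≫ (DTen.extCx φ).obj Y.1.as ◁ f.2.1)) ▷ X.2.2.as ≫
      (DTen.extCx ψ).obj ((DTen.extCx φ).obj Y.1.as ⊗ Y.2.1.as) ◁ f.2.2)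

/-- `Q × (Q × Q)` factors through the homotopy categories. -/
noncomputable def quotMix₃Iso :
    quotMix₃ ⋙ DerivedCategory.Qh.prod (DerivedCategory.Qh.prod DerivedCategory.Qh) ≅ DTen.QMix₃ A B C :=
  NatIso.prod (DerivedCategory.quotientCompQhIso (ModuleCat.{u} A)) quotMixIso

theorem hasLTenMix₃ : DTen.HasLTenMix₃ φ ψ :=
  hasLeftDerivedFunctor_precomp quotMix₃ quotMix₃Iso (mixK₃Iso φ ψ) (leftResolvableMix₃ φ ψ) (DTen.qisMix₃ A B C)

/-- The counit is invertible when the first two complexes are K-flat. -/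
theorem isIso_εMix₃ [DTen.HasLTenMix₃ φ ψ] {M : DRing.Cx A} (hM : KF.IsKFlat M) {N : DRing.Cx B}
    (hN : KF.IsKFlat N) (K : DRing.Cx C) : IsIso ((DTen.εMix₃ φ ψ).app (M, (N, K))) :=
  isIso_app_precomp quotMix₃ quotMix₃Iso (mixK₃Iso φ ψ) (leftResolvableMix₃ φ ψ) (DTen.qisMix₃ A B C)
    (DTen.LTenMix₃ φ ψ) (DTen.εMix₃ φ ψ) (X := (M, (N, K))) ⟨hM, hN⟩

theorem isIso_leg₃L_app [DTen.HasLTenMix φ] [DTen.HasLTenMix ψ] [DTen.HasLTenMix₃ φ ψ]
    (E : Dual.D A) (F : Dual.D B) (G : Dual.D C) : IsIso ((DTen.leg₃L φ ψ).app (E, (F, G))) := by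
  obtain ⟨M, hM, ⟨e⟩⟩ := exists_Q_iso E
  obtain ⟨N, hN, ⟨e'⟩⟩ := exists_Q_iso F
  obtain ⟨K, -, ⟨e''⟩⟩ := exists_Q_iso G
  refine ((MorphismProperty.isomorphisms (Dual.D C)).arrow_mk_iso_iff
    (Arrow.isoMk ((DTen.iterL φ ψ).mapIso (Iso.prod e (Iso.prod e' e'')))
      ((DTen.LTenMix₃ φ ψ).mapIso (Iso.prod e (Iso.prod e' e''))) ((DTen.leg₃L φ ψ).naturality _))).1 ?_
  have hε := isIso_εMix₃ φ ψ hM hN K
  have h : IsIso ((DTen.leg₃L φ ψ).app ((DTen.QMix₃ A B C).obj (M, (N, K))) ≫ (DTen.εMix₃ φ ψ).app (M, (N, K))) := by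
    rw [DTen.leg₃L_fac]
    have := isIso_εMix φ hM N
    have := isIso_mkHom ((DTen.εMix φ).app (M, N)) (𝟙 (DerivedCategory.Q.obj K))
    exact IsIso.comp_isIso' (inferInstanceAs (IsIso ((DTen.LTenMix ψ).map
      (Prod.mkHom ((DTen.εMix φ).app (M, N)) (𝟙 (DerivedCategory.Q.obj K))))))
      (isIso_εMix ψ (isKFlat_tensor (isKFlat_extCx φ hM) hN) K)
  exact @IsIso.of_isIso_comp_right _ _ _ _ _ _ ((DTen.εMix₃ φ ψ).app (M, (N, K))) hε h

theorem isIso_leg₃R_app [DTen.HasLTenMix ψ] [DTen.HasLTenMix (ψ.comp φ)] [DTen.HasLTenMix₃ φ ψ]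
    (E : Dual.D A) (F : Dual.D B) (G : Dual.D C) : IsIso ((DTen.leg₃R φ ψ).app (E, (F, G))) := by
  obtain ⟨M, hM, ⟨e⟩⟩ := exists_Q_iso E
  obtain ⟨N, hN, ⟨e'⟩⟩ := exists_Q_iso F
  obtain ⟨K, -, ⟨e''⟩⟩ := exists_Q_iso G
  refine ((MorphismProperty.isomorphisms (Dual.D C)).arrow_mk_iso_iff
    (Arrow.isoMk ((DTen.iterR φ ψ).mapIso (Iso.prod e (Iso.prod e' e'')))
      ((DTen.LTenMix₃ φ ψ).mapIso (Iso.prod e (Iso.prod e' e''))) ((DTen.leg₃R φ ψ).naturality _))).1 ?_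
  have hε := isIso_εMix₃ φ ψ hM hN K
  have h : IsIso ((DTen.leg₃R φ ψ).app ((DTen.QMix₃ A B C).obj (M, (N, K))) ≫ (DTen.εMix₃ φ ψ).app (M, (N, K))) := by
    rw [DTen.leg₃R_fac]
    have := isIso_εMix ψ hN K
    have := isIso_mkHom (𝟙 (DerivedCategory.Q.obj M)) ((DTen.εMix ψ).app (N, K))
    exact IsIso.comp_isIso' (inferInstanceAs (IsIso ((DTen.LTenMix (ψ.comp φ)).map
      (Prod.mkHom (𝟙 (DerivedCategory.Q.obj M)) ((DTen.εMix ψ).app (N, K))))))
      (IsIso.comp_isIso' (isIso_εMix (ψ.comp φ) hM ((DTen.mixT ψ).obj (N, K))) inferInstance)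
  exact @IsIso.of_isIso_comp_right _ _ _ _ _ _ ((DTen.εMix₃ φ ψ).app (M, (N, K))) hε h

end GrothLib.DT
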