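import Groth.Agent.Lib.Derive.LeftCx
import Mathlib.CategoryTheory.Localization.CalculusOfFractions
import Mathlib.CategoryTheory.MorphismProperty.Composition

/-! # Left derived functors on products of categories, computed by resolutions -/

set_option autoImplicit false
universe v₁ v₂ u₁ u₂

open CategoryTheory

namespace GrothLib.DT

section Prod

variable {C₁ : Type u₁} [Category.{v₁} C₁] {C₂ : Type u₂} [Category.{v₂} C₂]
  (W₁ : MorphismProperty C₁) (W₂ : MorphismProperty C₂)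

instance isMultiplicative_prod [W₁.IsMultiplicative] [W₂.IsMultiplicative] :
    (W₁.prod W₂).IsMultiplicative where
  comp_mem f g hf hg := ⟨W₁.comp_mem f.1 g.1 hf.1 hg.1, W₂.comp_mem f.2 g.2 hf.2 hg.2⟩

instance hasRightCalculusOfFractions_prod [W₁.HasRightCalculusOfFractions] [W₂.HasRightCalculusOfFractions] :
    (W₁.prod W₂).HasRightCalculusOfFractions where
  exists_rightFraction X Y φ := by
    obtain ⟨ψ₁, h₁⟩ := MorphismProperty.HasRightCalculusOfFractions.exists_rightFraction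
      (MorphismProperty.LeftFraction.mk (W := W₁) φ.f.1 φ.s.1 φ.hs.1)
    obtain ⟨ψ₂, h₂⟩ := MorphismProperty.HasRightCalculusOfFractions.exists_rightFraction
      (MorphismProperty.LeftFraction.mk (W := W₂) φ.f.2 φ.s.2 φ.hs.2)
    exact ⟨MorphismProperty.RightFraction.mk (X' := (ψ₁.X', ψ₂.X')) (Prod.mkHom ψ₁.s ψ₂.s)
      ⟨ψ₁.hs, ψ₂.hs⟩ (Prod.mkHom ψ₁.f ψ₂.f), Prod.ext h₁ h₂⟩
  ext X Y Y' f₁ f₂ s hs h := by
    obtain ⟨Z₁, t₁, ht₁, e₁⟩ := MorphismProperty.HasRightCalculusOfFractions.ext f₁.1 f₂.1 s.1 hs.1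
      (congrArg Prod.fst h)
    obtain ⟨Z₂, t₂, ht₂, e₂⟩ := MorphismProperty.HasRightCalculusOfFractions.ext f₁.2 f₂.2 s.2 hs.2
      (congrArg Prod.snd h)
    exact ⟨(Z₁, Z₂), Prod.mkHom t₁ t₂, ⟨ht₁, ht₂⟩, Prod.ext e₁ e₂⟩

instance full_prod {D₁ : Type*} [Category D₁] {D₂ : Type*} [Category D₂] (F : C₁ ⥤ D₁) (G : C₂ ⥤ D₂)
    [F.Full] [G.Full] : (F.prod G).Full where
  map_surjective f := ⟨Prod.mkHom (F.preimage f.1) (G.preimage f.2),
    Prod.ext (F.map_preimage f.1) (G.map_preimage f.2)⟩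

instance essSurj_prod {D₁ : Type*} [Category D₁] {D₂ : Type*} [Category D₂] (F : C₁ ⥤ D₁) (G : C₂ ⥤ D₂)
    [F.EssSurj] [G.EssSurj] : (F.prod G).EssSurj where
  mem_essImage X := ⟨(F.objPreimage X.1, G.objPreimage X.2),
    ⟨Iso.prod (F.objObjPreimageIso X.1) (G.objObjPreimageIso X.2)⟩⟩

end Prod

section Precomp

variable {C₀ : Type*} [Category C₀] {C : Type*} [Category C] {D : Type*} [Category D] {H : Type*} [Category H]
  (q : C₀ ⥤ C) [q.Full] [q.EssSurj] {W : MorphismProperty C} [W.HasRightCalculusOfFractions]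
  {L : C ⥤ D} [L.IsLocalization W] {F : C ⥤ H} {P : ObjectProperty C}
  {L₀ : C₀ ⥤ D} {F₀ : C₀ ⥤ H}

/-- A functor on `C₀` which descends along `q` to a resolvable one has a left derived functor. -/
theorem hasLeftDerivedFunctor_precomp (eL : q ⋙ L ≅ L₀) (eF : q ⋙ F ≅ F₀)
    (h : Derive.LeftResolvable W P F) (W₀ : MorphismProperty C₀) [L₀.IsLocalization W₀] :
    F₀.HasLeftDerivedFunctor W₀ :=
  have := h.isRightKanExtension (L := L) (h.LF L) (h.LFα L) fun _ hQ => h.isIso_LFα_app hQ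
  have := Derive.isRightKanExtension_precomp eL eF (h.LF L) (h.LFα L)
  have : (h.LF L).IsLeftDerivedFunctor
      (Functor.whiskerRight eL.inv (h.LF L) ≫ Functor.whiskerLeft q (h.LFα L) ≫ eF.hom) W₀ :=
    { isRightKanExtension := inferInstance }
  Functor.HasLeftDerivedFunctor.mk' (h.LF L)
    (Functor.whiskerRight eL.inv (h.LF L) ≫ Functor.whiskerLeft q (h.LFα L) ≫ eF.hom) (W := W₀)

/-- The counit of any left derived functor is invertible on the resolving objects. -/
theorem isIso_app_precomp (eL : q ⋙ L ≅ L₀) (eF : q ⋙ F ≅ F₀)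
    (h : Derive.LeftResolvable W P F) (W₀ : MorphismProperty C₀) [L₀.IsLocalization W₀]
    (G : D ⥤ H) (α : L₀ ⋙ G ⟶ F₀) [G.IsLeftDerivedFunctor α W₀] {X : C₀} (hX : P (q.obj X)) :
    IsIso (α.app X) := by
  have := h.isRightKanExtension (L := L) (h.LF L) (h.LFα L) fun _ hQ => h.isIso_LFα_app hQ
  have := Derive.isRightKanExtension_precomp eL eF (h.LF L) (h.LFα L)
  let c := Functor.whiskerRight eL.inv (h.LF L) ≫ Functor.whiskerLeft q (h.LFα L) ≫ eF.hom
  have : (h.LF L).IsLeftDerivedFunctor c W₀ := { isRightKanExtension := inferInstance }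
  have hc : IsIso (c.app X) := by
    have := h.isIso_LFα_app (L := L) hX
    simp only [c, NatTrans.comp_app, Functor.whiskerRight_app, Functor.whiskerLeft_app]
    infer_instance
  let e := G.leftDerivedLift α W₀ (h.LF L) c
  have : IsIso e := (G.isLeftDerivedFunctor_iff_isIso_leftDerivedLift α W₀ _ _).1 inferInstance
  have : IsIso (e.app (L₀.obj X) ≫ α.app X) :=
    (G.leftDerived_fac_app α W₀ (h.LF L) c X).symm ▸ hc
  exact IsIso.of_isIso_comp_left (e.app (L₀.obj X)) _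

end Precomp

end GrothLib.DT
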