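import Groth.Agent.Lib.DTen.Monoidal
import Groth.Agent.Lib.ProTri.Basic
import Groth.Agent.Lib.DCxKFlat.Resolution
import Groth.Prelude.Def_ega3
import Mathlib.Algebra.Homology.DerivedCategory.ShortExact
import Mathlib.Algebra.Homology.HomologicalComplexAbelian
import Mathlib.CategoryTheory.Abelian.FunctorCategory
import Mathlib.RingTheory.Noetherian.Basic
import Mathlib.RingTheory.Finiteness.Ideal

/-! # Derived and underived tensor products with the quotients by powers of an ideal are pro-isomorphic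

No Koszul complexes: induction on the number of generators, using only that in a Noetherian module
the torsion of the powers of one element stabilises.
-/

set_option autoImplicit false
set_option maxHeartbeats 1000000
set_option backward.isDefEq.respectTransparency false
universe v u

open CategoryTheory CategoryTheory.Limits MonoidalCategory Opposite
open scoped TensorProduct

attribute [local instance] HasDerivedCategory.standard

namespace GrothLib.DT.ProTor

section General

variable {C : Type u} [Category.{v} C] {D : Type*} [Category D]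

theorem isProIso_comp {X Y Z : ARSys.PS C} {a : X ⟶ Y} {b : Y ⟶ Z} (ha : DerCA.IsProIso a)
    (hb : DerCA.IsProIso b) : DerCA.IsProIso (a ≫ b) := by
  intro n
  obtain ⟨k, hnk, s, hs₁, hs₂⟩ := ha n
  obtain ⟨m, hkm, t, ht₁, ht₂⟩ := hb k
  refine ⟨m, hnk.trans hkm, t ≫ s, ?_, ?_⟩
  · rw [NatTrans.comp_app, Category.assoc, reassoc_of% ht₁, ← Category.assoc, ← ProTri.tr_nat a,
      Category.assoc, hs₁, ProTri.tr_comp]
  · rw [NatTrans.comp_app, Category.assoc, ← Category.assoc s, ← Category.assoc t,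
      ← Category.assoc t, Category.assoc t, hs₂, Category.assoc, ProTri.tr_nat b, reassoc_of% ht₂,
      ProTri.tr_comp]

theorem isProIso_of_isIso {X Y : ARSys.PS C} (a : X ⟶ Y) [IsIso a] : DerCA.IsProIso a := fun n =>
  ⟨n, le_rfl, inv (a.app (op n)), by simp [ARSys.tr], by simp [ARSys.tr]⟩

theorem isProIso_map {X Y : ARSys.PS C} {a : X ⟶ Y} (ha : DerCA.IsProIso a) (F : C ⥤ D) :
    DerCA.IsProIso (Functor.whiskerRight a F) := fun n => by
  obtain ⟨m, h, b, h₁, h₂⟩ := ha n
  exact ⟨m, h, F.map b, (F.map_comp _ _).symm.trans (congrArg F.map h₁),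
    (F.map_comp _ _).symm.trans (congrArg F.map h₂)⟩

/-- Systems with eventually vanishing transition maps are pro-zero. -/
theorem isProIso_of_tr_zero [HasZeroMorphisms C] {X Y : ARSys.PS C} (a : X ⟶ Y)
    (hX : ∀ n, ∃ (m : ℕ) (h : n ≤ m), ARSys.tr X h = 0) (hY : ∀ n, ∃ (m : ℕ) (h : n ≤ m), ARSys.tr Y h = 0) :
    DerCA.IsProIso a := fun n => by
  obtain ⟨m₁, h₁, e₁⟩ := hX n
  obtain ⟨m₂, h₂, e₂⟩ := hY n
  refine ⟨max m₁ m₂, h₁.trans (le_max_left _ _), 0, ?_, ?_⟩
  · rw [comp_zero, ← ProTri.tr_comp X h₁ (le_max_left m₁ m₂), e₁, comp_zero]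
  · rw [zero_comp, ← ProTri.tr_comp Y h₂ (le_max_right m₁ m₂), e₂, comp_zero]

theorem exact_of_evaluation {J : Type*} [Category J] [Abelian C] (S : ShortComplex (J ⥤ C))
    (h : ∀ j, (S.map ((evaluation J C).obj j)).Exact) : S.Exact :=
  S.exact_iff_isZero_homology.2 (Functor.isZero _ fun j =>
    ((S.map ((evaluation J C).obj j)).exact_iff_isZero_homology.1 (h j)).of_iso
      (S.mapHomologyIso ((evaluation J C).obj j)).symm)

end General

section Triangles

variable {A : Type u} [CommRing A]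

/-- A system of complexes, in the derived category. -/
noncomputable abbrev toDS (X : ℕᵒᵖ ⥤ DRing.Cx A) : ARSys.PS (Dual.D A) := X ⋙ DerivedCategory.Q

/-- The five lemma for systems of short exact sequences of complexes, third term. -/
theorem isProIso_τ₃ {S S' : ShortComplex (ℕᵒᵖ ⥤ DRing.Cx A)} (hS : S.ShortExact) (hS' : S'.ShortExact)
    (ψ : S ⟶ S') (h₁ : DerCA.IsProIso (Functor.whiskerRight ψ.τ₁ DerivedCategory.Q))
    (h₂ : DerCA.IsProIso (Functor.whiskerRight ψ.τ₂ DerivedCategory.Q)) :
    DerCA.IsProIso (Functor.whiskerRight ψ.τ₃ DerivedCategory.Q) := by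
  have e : ∀ n, (S.map ((evaluation ℕᵒᵖ (DRing.Cx A)).obj n)).ShortExact := fun n => hS.map_of_exact _
  have e' : ∀ n, (S'.map ((evaluation ℕᵒᵖ (DRing.Cx A)).obj n)).ShortExact := fun n => hS'.map_of_exact _
  let δ : toDS S.X₃ ⟶ toDS S.X₁ ⋙ shiftFunctor (Dual.D A) (1 : ℤ) :=
    { app := fun n => DerivedCategory.triangleOfSESδ (e n)
      naturality := fun m n g => (DerivedCategory.triangleOfSESδ_naturality (e m) (e n)
        (S.mapNatTrans ((evaluation ℕᵒᵖ (DRing.Cx A)).map g))).symm }
  let δ' : toDS S'.X₃ ⟶ toDS S'.X₁ ⋙ shiftFunctor (Dual.D A) (1 : ℤ) :=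
    { app := fun n => DerivedCategory.triangleOfSESδ (e' n)
      naturality := fun m n g => (DerivedCategory.triangleOfSESδ_naturality (e' m) (e' n)
        (S'.mapNatTrans ((evaluation ℕᵒᵖ (DRing.Cx A)).map g))).symm }
  refine ProTri.isProIso₂ (f := Functor.whiskerRight S.g DerivedCategory.Q) (g := δ)
    (h := fun n => -(DerivedCategory.Q.map (S.f.app (op n)))⟦(1 : ℤ)⟧')
    (f' := Functor.whiskerRight S'.g DerivedCategory.Q) (g' := δ')
    (h' := fun n => -(DerivedCategory.Q.map (S'.f.app (op n)))⟦(1 : ℤ)⟧')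
    (fun a b hab => ?_) (fun a b hab => ?_)
    (fun n => Pretriangulated.rot_of_distTriang _ (DerivedCategory.triangleOfSES_distinguished (e (op n))))
    (fun n => Pretriangulated.rot_of_distTriang _ (DerivedCategory.triangleOfSES_distinguished (e' (op n))))
    (Functor.whiskerRight ψ.τ₂ DerivedCategory.Q) _
    (Functor.whiskerRight (Functor.whiskerRight ψ.τ₁ DerivedCategory.Q) (shiftFunctor (Dual.D A) (1 : ℤ)))
    ?_ ?_ (fun n => ?_) h₂ (isProIso_map h₁ _)
  · dsimp [ARSys.tr]
    rw [Preadditive.comp_neg, Preadditive.neg_comp, ← Functor.map_comp, ← Functor.map_comp, ← Functor.map_comp,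
      ← Functor.map_comp, S.f.naturality]
  · dsimp [ARSys.tr]
    rw [Preadditive.comp_neg, Preadditive.neg_comp, ← Functor.map_comp, ← Functor.map_comp, ← Functor.map_comp,
      ← Functor.map_comp, S'.f.naturality]
  · ext n
    dsimp
    rw [← Functor.map_comp, ← Functor.map_comp, ← NatTrans.comp_app, ← NatTrans.comp_app, ψ.comm₂₃]
  · ext n
    exact DerivedCategory.triangleOfSESδ_naturality (e n) (e' n) (((evaluation ℕᵒᵖ (DRing.Cx A)).obj n).mapShortComplex.map ψ)
  · dsimp
    rw [Preadditive.neg_comp, Preadditive.comp_neg, ← Functor.map_comp, ← Functor.map_comp, ← Functor.map_comp,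
      ← Functor.map_comp, ← NatTrans.comp_app, ← NatTrans.comp_app, ψ.comm₁₂]

end Triangles

section Main

variable {A : Type u} [CommRing A]

/-- A module system to complexes: `N ↦ L ⊗ N[0]`. -/
noncomputable abbrev FS (L : DRing.Cx A) : ModuleCat.{u} A ⥤ DRing.Cx A :=
  HomologicalComplex.single (ModuleCat.{u} A) (ComplexShape.up ℤ) 0 ⋙ tensorLeft L

/-- In each degree it is the tensor product with a module. -/
noncomputable def degIso (L : DRing.Cx A) (i : ℤ) :
    FS L ⋙ HomologicalComplex.eval (ModuleCat.{u} A) (ComplexShape.up ℤ) i ≅ tensorLeft (L.X i) :=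
  (NatIso.ofComponents (F := tensorLeft (L.X i))
    (G := FS L ⋙ HomologicalComplex.eval (ModuleCat.{u} A) (ComplexShape.up ℤ) i)
    (fun N => (HomologicalComplex.eval (ModuleCat.{u} A) (ComplexShape.up ℤ) i).mapIso (KF.singleIso L N))
    (fun {N N'} g => by
      change ((curriedTensor (ModuleCat.{u} A)).obj (L.X i)).map g ≫
          (((curriedTensor (ModuleCat.{u} A)).obj (L.X i)).map (HomologicalComplex.singleObjXSelf (ComplexShape.up ℤ) 0 N').inv ≫
            HomologicalComplex.ιMapBifunctor L _ (curriedTensor (ModuleCat.{u} A)) (ComplexShape.up ℤ) i 0 i (add_zero i)) =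
        (((curriedTensor (ModuleCat.{u} A)).obj (L.X i)).map (HomologicalComplex.singleObjXSelf (ComplexShape.up ℤ) 0 N).inv ≫
            HomologicalComplex.ιMapBifunctor L _ (curriedTensor (ModuleCat.{u} A)) (ComplexShape.up ℤ) i 0 i (add_zero i)) ≫
          (L ◁ (HomologicalComplex.single (ModuleCat.{u} A) (ComplexShape.up ℤ) 0).map g).f i
      rw [Category.assoc]
      erw [HomologicalComplex.ι_mapBifunctorMap]
      rw [HomologicalComplex.id_f, CategoryTheory.Functor.map_id, NatTrans.id_app, Category.id_comp]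
      simp only [← Category.assoc, ← Functor.map_comp]
      simp [HomologicalComplex.single_map_f_self])).symm

theorem degIso_natural (L : DRing.Cx A) (i : ℤ) {N N' : ModuleCat.{u} A} (g : N ⟶ N') :
    ((FS L).map g).f i ≫ (degIso L i).hom.app N' = (degIso L i).hom.app N ≫ (L.X i ◁ g) :=
  (degIso L i).hom.naturality g

instance additive_FS (L : DRing.Cx A) : (FS L).Additive where
  map_add {N N' f g} := HomologicalComplex.hom_ext _ _ fun i => by
    rw [← cancel_mono ((degIso L i).hom.app N'), degIso_natural, HomologicalComplex.add_f_apply,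
      Preadditive.add_comp, degIso_natural, degIso_natural, ← Preadditive.comp_add, MonoidalPreadditive.whiskerLeft_add]

theorem shortExact_FS {S : ShortComplex (ModuleCat.{u} A)} (hS : S.Exact) [Epi S.g] (L : DRing.Cx A) :
    (S.map (FS L)).Exact ∧ Epi (S.map (FS L)).g := by
  have hr : ∀ i, (S.map (tensorLeft (L.X i))).Exact ∧ Epi (S.map (tensorLeft (L.X i))).g := fun i => by
    have hg : Function.Surjective S.g.hom := (ModuleCat.epi_iff_surjective _).1 inferInstance
    refine ⟨(ShortComplex.ShortExact.moduleCat_exact_iff_function_exact _).2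
      (lTensor_exact (L.X i) ((ShortComplex.ShortExact.moduleCat_exact_iff_function_exact _).1 hS) hg), ?_⟩
    exact (ModuleCat.epi_iff_surjective _).2 (LinearMap.lTensor_surjective (L.X i) hg)
  refine ⟨HomologicalComplex.exact_of_degreewise_exact _ fun i =>
    ShortComplex.exact_of_iso (S.mapNatIso (degIso L i)).symm (hr i).1, ?_⟩
  have : ∀ i, Epi (((S.map (FS L)).g).f i) := fun i => by
    have := (hr i).2
    have e : ((FS L).map S.g).f i =
        (degIso L i).hom.app S.X₂ ≫ (L.X i ◁ S.g) ≫ (degIso L i).inv.app S.X₃ := by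
      rw [← reassoc_of% (degIso_natural L i S.g), Iso.hom_inv_id_app]
      exact (Category.comp_id _).symm
    change Epi (((FS L).map S.g).f i)
    rw [e]
    have : Epi (L.X i ◁ S.g) := this
    infer_instance
  exact HomologicalComplex.epi_of_epi_f _ this

/-- The torsion of the powers of `f` on `M` stops at `c`. -/
def TorBound (f : A) (M : Type u) [AddCommGroup M] [Module A M] (c : ℕ) : Prop :=
  ∀ (k : ℕ) (x : M), f ^ k • x = 0 → f ^ c • x = 0

theorem torBound_mono {f : A} {M : Type u} [AddCommGroup M] [Module A M] {c c' : ℕ} (h : c ≤ c')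
    (hc : TorBound f M c) : TorBound f M c' := fun k x hx => by
  rw [← Nat.sub_add_cancel h, pow_add, mul_smul, hc k x hx, smul_zero]

theorem exists_torBound (f : A) (M : Type u) [AddCommGroup M] [Module A M] [IsNoetherian A M] :
    ∃ c, TorBound f M c := by
  let φ : ℕ →o Submodule A M :=
    ⟨fun k => LinearMap.ker (f ^ k • (LinearMap.id : M →ₗ[A] M)), fun a b hab x hx => by
      simp only [LinearMap.mem_ker, LinearMap.smul_apply, LinearMap.id_apply] at hx ⊢
      rw [← Nat.sub_add_cancel hab, pow_add, mul_smul, hx, smul_zero]⟩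
  obtain ⟨c, hc⟩ := monotone_stabilizes_iff_noetherian.2 (inferInstanceAs (IsNoetherian A M)) φ
  refine ⟨c, fun k x hx => ?_⟩
  rcases le_total c k with h | h
  · have hm : x ∈ φ k := hx
    rw [← hc k h] at hm
    exact hm
  · rw [← Nat.sub_add_cancel h, pow_add, mul_smul, hx, smul_zero]

theorem torBound_flat {f : A} {M : Type u} [AddCommGroup M] [Module A M] {c : ℕ} (hc : TorBound f M c)
    (F : Type u) [AddCommGroup F] [Module A F] [Module.Flat A F] : TorBound f (F ⊗[A] M) c := by
  intro k x hx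
  let g : ℕ → (M →ₗ[A] M) := fun j => f ^ j • LinearMap.id
  have hg : ∀ j, (g j).lTensor F = f ^ j • (LinearMap.id : F ⊗[A] M →ₗ[A] F ⊗[A] M) := fun j => by
    simp [g, LinearMap.lTensor_smul]
  have hker : (g c).comp (LinearMap.ker (g k)).subtype = 0 :=
    LinearMap.ext fun y => hc k y.1 y.2
  have hex := Module.Flat.lTensor_exact F (LinearMap.exact_subtype_ker_map (g k))
  obtain ⟨y, rfl⟩ := (hex x).1 (by rw [hg]; exact hx)
  have h := congrArg (fun t => t.lTensor F y) hker
  simp only [LinearMap.lTensor_comp, LinearMap.comp_apply, hg, LinearMap.lTensor_zero, LinearMap.zero_apply] at h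
  exact h

variable (J : ℕ → Ideal A) (hJ : Antitone J) (f : A)

/-- The system `A/J_n`. -/
noncomputable def MS : ℕᵒᵖ ⥤ ModuleCat.{u} A where
  obj n := ModuleCat.of A (A ⧸ J n.unop)
  map g := ModuleCat.ofHom (Submodule.factor (hJ (leOfHom g.unop)))
  map_id n := ModuleCat.hom_ext (Submodule.linearMap_qext _ (LinearMap.ext fun _ => rfl))
  map_comp g g' := ModuleCat.hom_ext (Submodule.linearMap_qext _ (LinearMap.ext fun _ => rfl))

/-- The system `A/J_n` with transition maps multiplied by powers of `f`. -/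
noncomputable def MS' : ℕᵒᵖ ⥤ ModuleCat.{u} A where
  obj n := (MS J hJ).obj n
  map {m n} g := f ^ (m.unop - n.unop) • (MS J hJ).map g
  map_id n := by rw [Nat.sub_self, pow_zero, one_smul, CategoryTheory.Functor.map_id]
  map_comp {k m n} g g' := by
    rw [Linear.smul_comp, Linear.comp_smul, smul_smul, ← pow_add, Functor.map_comp]
    have h1 : m.unop ≤ k.unop := leOfHom g.unop
    have h2 : n.unop ≤ m.unop := leOfHom g'.unop
    congr 2
    omega

/-- Multiplication by `f^n`. -/
noncomputable def mul : MS' J hJ f ⟶ MS J hJ where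
  app n := f ^ n.unop • 𝟙 ((MS J hJ).obj n)
  naturality m n g := by
    change (f ^ (m.unop - n.unop) • (MS J hJ).map g) ≫ (f ^ n.unop • 𝟙 _) = (f ^ m.unop • 𝟙 _) ≫ (MS J hJ).map g
    rw [Linear.smul_comp, Linear.comp_smul, smul_smul, ← pow_add, Linear.smul_comp, Category.comp_id, Category.id_comp,
      Nat.sub_add_cancel (leOfHom g.unop)]

/-- Adding the powers of one element to the ideals. -/
def nextJ : ℕ → Ideal A := fun n => J n ⊔ Ideal.span {f ^ n}

include hJ in
theorem antitone_nextJ : Antitone (nextJ J f) := fun a b hab => by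
  refine sup_le_sup (hJ hab) ((Ideal.span_singleton_le_iff_mem _).2 ?_)
  exact Ideal.mem_span_singleton'.2 ⟨f ^ (b - a), by rw [← pow_add, Nat.sub_add_cancel hab]⟩

/-- The quotient map. -/
noncomputable def proj : MS J hJ ⟶ MS (nextJ J f) (antitone_nextJ J hJ f) where
  app n := ModuleCat.ofHom (Submodule.factor (le_sup_left : J n.unop ≤ nextJ J f n.unop))
  naturality m n g := ModuleCat.hom_ext (Submodule.linearMap_qext _ (LinearMap.ext fun _ => rfl))

theorem mul_proj : mul J hJ f ≫ proj J hJ f = 0 := by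
  ext n : 2
  refine ModuleCat.hom_ext (Submodule.linearMap_qext _ (LinearMap.ext_ring ?_))
  change Submodule.Quotient.mk (f ^ n.unop * 1 : A) = 0
  rw [mul_one, Submodule.Quotient.mk_eq_zero]
  exact Submodule.mem_sup_right (Ideal.subset_span rfl)

theorem exact_mul_proj (n : ℕᵒᵖ) :
    (ShortComplex.mk _ _ (congrArg (fun t => t.app n) (mul_proj J hJ f))).Exact := by
  rw [ShortComplex.moduleCat_exact_iff]
  intro x hx
  obtain ⟨a, rfl⟩ := Submodule.Quotient.mk_surjective _ x
  have ha : a ∈ nextJ J f n.unop := (Submodule.Quotient.mk_eq_zero _).1 hx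
  obtain ⟨j, hj, s, hs, rfl⟩ := Submodule.mem_sup.1 ha
  obtain ⟨r, rfl⟩ := Ideal.mem_span_singleton'.1 hs
  refine ⟨(Submodule.Quotient.mk r : A ⧸ J n.unop), ?_⟩
  change f ^ n.unop • (Submodule.Quotient.mk r : A ⧸ J n.unop) = Submodule.Quotient.mk (j + r * f ^ n.unop)
  rw [Submodule.Quotient.mk_add, (Submodule.Quotient.mk_eq_zero _).2 hj, zero_add, ← Submodule.Quotient.mk_smul,
    smul_eq_mul, mul_comm]

variable {P K : DRing.Cx A} (q : P ⟶ K)

/-- A map of complexes induces one of the functors `- ↦ L ⊗ -`. -/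
noncomputable def FSmap : FS P ⟶ FS K where
  app N := q ▷ (HomologicalComplex.single (ModuleCat.{u} A) (ComplexShape.up ℤ) 0).obj N
  naturality N N' g := whisker_exchange q ((HomologicalComplex.single (ModuleCat.{u} A) (ComplexShape.up ℤ) 0).map g)

/-- The comparison of the two systems is a pro-isomorphism. -/
def IsPro (X : ℕᵒᵖ ⥤ ModuleCat.{u} A) : Prop :=
  DerCA.IsProIso (Functor.whiskerRight (Functor.whiskerLeft X (FSmap q)) DerivedCategory.Q)

theorem isPro_twist (h : IsPro q (MS J hJ)) : IsPro q (MS' J hJ f) := by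
  intro n
  obtain ⟨m, hnm, b, h₁, h₂⟩ := h n
  let e (L : DRing.Cx A) : DerivedCategory.Q.obj ((FS L).obj ((MS J hJ).obj (op m))) ⟶
      DerivedCategory.Q.obj ((FS L).obj ((MS J hJ).obj (op m))) :=
    DerivedCategory.Q.map ((FS L).map (f ^ (m - n) • 𝟙 _))
  have ht : ∀ L : DRing.Cx A, ARSys.tr (toDS (MS' J hJ f ⋙ FS L)) hnm = e L ≫ ARSys.tr (toDS (MS J hJ ⋙ FS L)) hnm := by
    intro L
    change DerivedCategory.Q.map ((FS L).map ((MS' J hJ f).map (homOfLE hnm).op)) =
      DerivedCategory.Q.map ((FS L).map (f ^ (m - n) • 𝟙 _)) ≫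
        DerivedCategory.Q.map ((FS L).map ((MS J hJ).map (homOfLE hnm).op))
    rw [← Functor.map_comp, ← Functor.map_comp]
    refine congrArg (fun g => DerivedCategory.Q.map ((FS L).map g)) ?_
    exact ((Linear.smul_comp _ _ _ (f ^ (m - n)) (𝟙 ((MS J hJ).obj (op m))) ((MS J hJ).map (homOfLE hnm).op)).trans
      (congrArg (f ^ (m - n) • ·) (Category.id_comp ((MS J hJ).map (homOfLE hnm).op)))).symm
  refine ⟨m, hnm, e K ≫ b, ?_, ?_⟩
  · have hn : DerivedCategory.Q.map ((FSmap q).app ((MS J hJ).obj (op m))) ≫ e K =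
        e P ≫ DerivedCategory.Q.map ((FSmap q).app ((MS J hJ).obj (op m))) := by
      simp only [e, ← Functor.map_comp, (FSmap q).naturality]
    exact ((Category.assoc _ _ _).symm.trans ((congrArg (· ≫ b) hn).trans (Category.assoc _ _ _))).trans
      ((congrArg (e P ≫ ·) h₁).trans (ht P).symm)
  · exact (Category.assoc _ _ _).trans ((congrArg (e K ≫ ·) h₂).trans (ht K).symm)

theorem tr_kernel_zero (L : DRing.Cx A) (hL : ∀ n, ∃ c, ∀ i, TorBound f (L.X i ⊗[A] (A ⧸ J n)) c) (n : ℕ) :
    ∃ (m : ℕ) (h : n ≤ m), ARSys.tr (toDS (kernel (Functor.whiskerRight (mul J hJ f) (FS L)))) h = 0 := by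
  obtain ⟨c, hc⟩ := hL n
  refine ⟨n + c, Nat.le_add_right n c, ?_⟩
  let μ := Functor.whiskerRight (mul J hJ f) (FS L)
  let g := (homOfLE (Nat.le_add_right n c)).op
  have h0 : (kernel μ).map g = 0 := by
    rw [← cancel_mono ((kernel.ι μ).app (op n)), zero_comp, (kernel.ι μ).naturality]
    refine HomologicalComplex.hom_ext _ _ fun i => ?_
    rw [← cancel_mono ((degIso L i).hom.app ((MS' J hJ f).obj (op n))), HomologicalComplex.comp_f,
      HomologicalComplex.zero_f, zero_comp, Category.assoc]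
    erw [degIso_natural L i ((MS' J hJ f).map g)]
    refine ModuleCat.hom_ext (LinearMap.ext fun z => ?_)
    let y : (L.X i ⊗[A] (A ⧸ J (n + c))) :=
      (degIso L i).hom.app ((MS' J hJ f).obj (op (n + c))) (((kernel.ι μ).app (op (n + c))).f i z)
    have hy : f ^ (n + c) • y = 0 := by
      have h1 : (kernel.ι μ).app (op (n + c)) ≫ (FS L).map ((mul J hJ f).app (op (n + c))) = 0 :=
        congrArg (fun t => t.app (op (n + c))) (kernel.condition μ)
      have h2 : ((kernel.ι μ).app (op (n + c))).f i ≫ (degIso L i).hom.app ((MS J hJ).obj (op (n + c))) ≫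
          (L.X i ◁ (mul J hJ f).app (op (n + c))) = 0 := by
        exact (congrArg (((kernel.ι μ).app (op (n + c))).f i ≫ ·)
            (degIso_natural L i ((mul J hJ f).app (op (n + c)))).symm).trans
          ((Category.assoc _ _ _).symm.trans ((congrArg (fun t => t.f i ≫
            (degIso L i).hom.app ((MS J hJ).obj (op (n + c)))) h1).trans zero_comp))
      have h3 : LinearMap.lTensor (L.X i) (f ^ (n + c) • (LinearMap.id : (A ⧸ J (n + c)) →ₗ[A] _)) y = 0 :=
        ConcreteCategory.congr_hom h2 z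
      rw [LinearMap.lTensor_smul, LinearMap.lTensor_id] at h3
      exact h3
    have h4 : f ^ c • (LinearMap.lTensor (L.X i) (Submodule.factor (hJ (Nat.le_add_right n c))) y) = 0 :=
      hc i (n + c) _ (by rw [← map_smul, hy, map_zero])
    change LinearMap.lTensor (L.X i) (f ^ (n + c - n) • Submodule.factor (hJ (Nat.le_add_right n c))) y = 0
    rw [LinearMap.lTensor_smul, LinearMap.smul_apply, Nat.add_sub_cancel_left]
    exact h4
  change DerivedCategory.Q.map ((kernel μ).map g) = 0
  rw [h0, Functor.map_zero]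

theorem isPro_next (h : IsPro q (MS J hJ)) (hP : ∀ n, ∃ c, ∀ i, TorBound f (P.X i ⊗[A] (A ⧸ J n)) c)
    (hK : ∀ n, ∃ c, ∀ i, TorBound f (K.X i ⊗[A] (A ⧸ J n)) c) :
    IsPro q (MS (nextJ J f) (antitone_nextJ J hJ f)) := by
  let μ (L : DRing.Cx A) := Functor.whiskerRight (mul J hJ f) (FS L)
  let π (L : DRing.Cx A) := Functor.whiskerRight (proj J hJ f) (FS L)
  have hz : ∀ L, μ L ≫ π L = 0 := fun L => by
    ext n : 2
    change (FS L).map ((mul J hJ f).app n) ≫ (FS L).map ((proj J hJ f).app n) = 0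
    rw [← Functor.map_comp, ← NatTrans.comp_app, mul_proj]
    exact Functor.map_zero _ _ _
  have hex : ∀ L, (ShortComplex.mk (μ L) (π L) (hz L)).Exact ∧ Epi (π L) := fun L => by
    have he : ∀ n, Epi ((proj J hJ f).app n) := fun n =>
      (ModuleCat.epi_iff_surjective _).2 (Submodule.factor_surjective le_sup_left)
    refine ⟨exact_of_evaluation _ fun n => ?_, ?_⟩
    · have := he n
      exact (shortExact_FS (exact_mul_proj J hJ f n) L).1
    · have : ∀ n, Epi ((π L).app n) := fun n => by
        have := he n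
        exact (shortExact_FS (exact_mul_proj J hJ f n) L).2
      exact NatTrans.epi_of_epi_app _
  -- first sequence : kernel, source, coimage
  let S₁ (L : DRing.Cx A) : ShortComplex (ℕᵒᵖ ⥤ DRing.Cx A) :=
    ShortComplex.mk (kernel.ι (μ L)) (cokernel.π (kernel.ι (μ L))) (cokernel.condition _)
  have hS₁ : ∀ L, (S₁ L).ShortExact := fun L =>
    { exact := ShortComplex.exact_cokernel _
      mono_f := inferInstanceAs (Mono (kernel.ι (μ L)))
      epi_g := inferInstanceAs (Epi (cokernel.π (kernel.ι (μ L)))) }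
  -- second sequence : coimage, target, cokernel
  have hfac : ∀ L, cokernel.π (kernel.ι (μ L)) ≫ Abelian.factorThruCoimage (μ L) = μ L := fun L =>
    cokernel.π_desc _ _ _
  have hz' : ∀ L, Abelian.factorThruCoimage (μ L) ≫ π L = 0 := fun L => by
    rw [← cancel_epi (cokernel.π (kernel.ι (μ L))), reassoc_of% (hfac L), hz, comp_zero]
  let S₂ (L : DRing.Cx A) : ShortComplex (ℕᵒᵖ ⥤ DRing.Cx A) :=
    ShortComplex.mk (Abelian.factorThruCoimage (μ L)) (π L) (hz' L)
  have hS₂ : ∀ L, (S₂ L).ShortExact := fun L => by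
    let φ : ShortComplex.mk (μ L) (π L) (hz L) ⟶ S₂ L :=
      { τ₁ := cokernel.π (kernel.ι (μ L))
        τ₂ := 𝟙 _
        τ₃ := 𝟙 _
        comm₁₂ := (hfac L).trans (Category.comp_id _).symm
        comm₂₃ := (Category.id_comp _).trans (Category.comp_id _).symm }
    have : Epi φ.τ₁ := inferInstanceAs (Epi (cokernel.π (kernel.ι (μ L))))
    have : IsIso φ.τ₂ := inferInstanceAs (IsIso (𝟙 _))
    have : Mono φ.τ₃ := inferInstanceAs (Mono (𝟙 _))
    exact
      { exact := (ShortComplex.exact_iff_of_epi_of_isIso_of_mono φ).1 (hex L).1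
        mono_f := inferInstanceAs (Mono (Abelian.factorThruCoimage (μ L)))
        epi_g := (hex L).2 }
  let ψ₁ := Functor.whiskerLeft (MS' J hJ f) (FSmap q)
  let ψ₂ := Functor.whiskerLeft (MS J hJ) (FSmap q)
  have hc : μ P ≫ ψ₂ = ψ₁ ≫ μ K := by
    ext n : 2
    exact (FSmap q).naturality ((mul J hJ f).app n)
  let k₁ : kernel (μ P) ⟶ kernel (μ K) := kernel.map _ _ ψ₁ ψ₂ hc
  have hk : kernel.ι (μ P) ≫ ψ₁ = k₁ ≫ kernel.ι (μ K) := (kernel.lift_ι _ _ _).symm
  let k₃ : cokernel (kernel.ι (μ P)) ⟶ cokernel (kernel.ι (μ K)) := cokernel.map _ _ k₁ ψ₁ hk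
  let Φ₁ : S₁ P ⟶ S₁ K :=
    { τ₁ := k₁
      τ₂ := ψ₁
      τ₃ := k₃
      comm₁₂ := hk.symm
      comm₂₃ := (cokernel.π_desc _ _ _).symm }
  have h3 := isProIso_τ₃ (hS₁ P) (hS₁ K) Φ₁
    (isProIso_of_tr_zero _ (tr_kernel_zero J hJ f P hP) (tr_kernel_zero J hJ f K hK))
    (isPro_twist J hJ f q h)
  let Φ₂ : S₂ P ⟶ S₂ K :=
    { τ₁ := k₃
      τ₂ := ψ₂
      τ₃ := Functor.whiskerLeft (MS (nextJ J f) (antitone_nextJ J hJ f)) (FSmap q)
      comm₁₂ := by
        change k₃ ≫ Abelian.factorThruCoimage (μ K) = Abelian.factorThruCoimage (μ P) ≫ ψ₂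
        rw [← cancel_epi (cokernel.π (kernel.ι (μ P))), reassoc_of% (hfac P), hc]
        simp only [k₃, cokernel.π_desc_assoc, Category.assoc, hfac]
      comm₂₃ := by
        ext n : 2
        exact ((FSmap q).naturality ((proj J hJ f).app n)).symm }
  exact isProIso_τ₃ (hS₂ P) (hS₂ K) Φ₂ h3 h

/-- The powers of a list of elements. -/
def powJ : List A → ℕ → Ideal A
  | [] => fun _ => ⊥
  | f :: l => nextJ (powJ l) f

theorem antitone_powJ : ∀ l : List A, Antitone (powJ l)
  | [] => fun _ _ _ => le_rfl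
  | f :: l => antitone_nextJ _ (antitone_powJ l) f

theorem adicSystem_map_mk (I : Ideal A) {n m : ℕ} (h : n ≤ m) (x : A) :
    (CohIII.adicSystem I (ModuleCat.of A A)).map (homOfLE h).op
        (Submodule.Quotient.mk x : A ⧸ (I ^ (m + 1) • (⊤ : Submodule A A))) =
      (Submodule.Quotient.mk x : A ⧸ (I ^ (n + 1) • (⊤ : Submodule A A))) := by
  induction m, h using Nat.le_induction with
  | base =>
    rw [show (homOfLE (le_refl n)).op = 𝟙 (op n) from rfl, CategoryTheory.Functor.map_id]
    rfl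
  | succ m h ih =>
    have e : (homOfLE (h.trans (Nat.le_succ m))).op = (homOfLE (Nat.le_succ m)).op ≫ (homOfLE h).op := rfl
    rw [e, Functor.map_comp]
    have e' : (CohIII.adicSystem I (ModuleCat.of A A)).map (homOfLE (Nat.le_succ m)).op =
        ModuleCat.ofHom (Submodule.factor (Submodule.smul_mono_left (Ideal.pow_le_pow_right (Nat.le_succ (m + 1))))) :=
      Functor.ofOpSequence_map_homOfLE_succ _ m
    rw [e']
    exact ih

variable [IsNoetherianRing A] {a b : ℤ} (hKb : DRing.VanishesOutside K a b) (hKf : ∀ i, Module.Finite A (K.X i))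
  (hP : KF.FlatTerms P) [QuasiIso q]

omit [QuasiIso q] in
include hP in
theorem torBound_P (f : A) (I₀ : Ideal A) : ∃ c, ∀ i, TorBound f (P.X i ⊗[A] (A ⧸ I₀)) c := by
  obtain ⟨c, hc⟩ := exists_torBound f (A ⧸ I₀)
  exact ⟨c, fun i => have := hP i; torBound_flat hc (P.X i)⟩

omit [QuasiIso q] in
include hKb hKf in
theorem torBound_K (f : A) (I₀ : Ideal A) : ∃ c, ∀ i, TorBound f (K.X i ⊗[A] (A ⧸ I₀)) c := by
  have : ∀ i, IsNoetherian A (K.X i ⊗[A] (A ⧸ I₀)) := fun i =>
    have := hKf i
    isNoetherian_of_isNoetherianRing_of_finite A _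
  choose c hc using fun i => exists_torBound f (K.X i ⊗[A] (A ⧸ I₀))
  refine ⟨(Finset.Icc a b).sup c, fun i => ?_⟩
  by_cases hi : i ∈ Finset.Icc a b
  · exact torBound_mono (Finset.le_sup hi) (hc i)
  · intro k x _
    have := ModuleCat.subsingleton_of_isZero (hKb i (by rw [Finset.mem_Icc] at hi; omega))
    have : x = 0 := TensorProduct.induction_on x rfl
      (fun y z => by rw [Subsingleton.elim y 0, TensorProduct.zero_tmul]) (fun y z hy hz => by rw [hy, hz, add_zero])
    rw [this, smul_zero]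

include hKb hKf hP in
theorem isPro_powJ : ∀ l : List A, IsPro q (MS (powJ l) (antitone_powJ l))
  | [] => by
    have h : ∀ n, IsIso ((Functor.whiskerRight (Functor.whiskerLeft (MS (powJ []) (antitone_powJ [])) (FSmap q))
        DerivedCategory.Q).app n) := fun n => by
      change IsIso (DerivedCategory.Q.map (q ▷ (HomologicalComplex.single (ModuleCat.{u} A) (ComplexShape.up ℤ) 0).obj
        (ModuleCat.of A (A ⧸ (⊥ : Ideal A)))))
      have : Module.Flat A (A ⧸ (⊥ : Ideal A)) :=
        Module.Flat.of_linearEquiv (Submodule.quotEquivOfEqBot (⊥ : Ideal A) rfl)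
      have := quasiIso_whiskerRight_of_isKFlat q (KF.isKFlat_single (ModuleCat.of A (A ⧸ (⊥ : Ideal A))) this 0)
      exact isIso_Q_map _
    have := NatIso.isIso_of_isIso_app
      (Functor.whiskerRight (Functor.whiskerLeft (MS (powJ []) (antitone_powJ [])) (FSmap q)) DerivedCategory.Q)
    exact isProIso_of_isIso _
  | f :: l => isPro_next (powJ l) (antitone_powJ l) f q (isPro_powJ l) (fun n => torBound_P hP f _)
      (fun n => torBound_K hKb hKf f _)

theorem powJ_le (I : Ideal A) : ∀ (l : List A), (∀ x ∈ l, x ∈ I) → ∀ n, powJ l n ≤ I ^ n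
  | [], _, _ => bot_le
  | f :: l, h, n => sup_le (powJ_le I l (fun x hx => h x (List.mem_cons_of_mem _ hx)) n)
      ((Ideal.span_singleton_le_iff_mem _).2 (Ideal.pow_mem_pow (h f (List.mem_cons_self ..)) n))

theorem mem_radical_powJ : ∀ (l : List A) (n : ℕ) (x : A), x ∈ l → x ∈ (powJ l n).radical
  | f :: l, n, x, hx => by
    rcases List.mem_cons.1 hx with rfl | hx
    · exact ⟨n, Submodule.mem_sup_right (Ideal.subset_span rfl)⟩
    · exact Ideal.radical_mono le_sup_left (mem_radical_powJ l n x hx)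

include hKb hKf hP in
/-- Resolution and complex, tensored with `A/I^{n+1}`, are pro-isomorphic. -/
theorem isPro_adicSystem (I : Ideal A) : IsPro q (CohIII.adicSystem I (ModuleCat.of A A)) := by
  obtain ⟨s, hs⟩ := IsNoetherian.noetherian I
  have hmem : ∀ x ∈ s.toList, x ∈ I := fun x hx => by
    rw [← hs]
    exact Submodule.subset_span (Finset.mem_toList.1 hx)
  intro n
  obtain ⟨m, hnm, b, h₁, h₂⟩ := isPro_powJ q hKb hKf hP s.toList (n + 1)
  obtain ⟨k, hk⟩ := Ideal.exists_pow_le_of_le_radical_of_fg (I := I) (J := powJ s.toList m) (by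
      rw [← hs, Submodule.span_le]
      exact fun x hx => mem_radical_powJ _ m x (Finset.mem_toList.2 hx))
    (IsNoetherian.noetherian I)
  have hsm : ∀ j : ℕ, (I ^ j • (⊤ : Submodule A A) : Submodule A A) = I ^ j := fun j => Ideal.mul_top _
  let M := max n k
  have hMk : (I ^ (M + 1) • (⊤ : Submodule A A) : Submodule A A) ≤ powJ s.toList m := by
    rw [hsm]
    exact (Ideal.pow_le_pow_right (by omega)).trans hk
  have hn : powJ s.toList (n + 1) ≤ (I ^ (n + 1) • (⊤ : Submodule A A) : Submodule A A) := by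
    rw [hsm]
    exact powJ_le I _ hmem _
  let A' := CohIII.adicSystem I (ModuleCat.of A A)
  let B' := MS (powJ s.toList) (antitone_powJ s.toList)
  let u : A'.obj (op M) ⟶ B'.obj (op m) := ModuleCat.ofHom (Submodule.factor hMk)
  let w : B'.obj (op (n + 1)) ⟶ A'.obj (op n) := ModuleCat.ofHom (Submodule.factor hn)
  have huw : u ≫ B'.map (homOfLE hnm).op ≫ w = A'.map (homOfLE (le_max_left n k)).op := by
    refine ModuleCat.hom_ext (Submodule.linearMap_qext _ (LinearMap.ext fun x => ?_))
    exact (adicSystem_map_mk I (le_max_left n k) x).symm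
  have hT : ∀ L : DRing.Cx A, DerivedCategory.Q.map ((FS L).map u) ≫ ARSys.tr (toDS (B' ⋙ FS L)) hnm ≫
      DerivedCategory.Q.map ((FS L).map w) = ARSys.tr (toDS (A' ⋙ FS L)) (le_max_left n k) := fun L => by
    refine Eq.trans ?_ (congrArg (fun t => DerivedCategory.Q.map ((FS L).map t)) huw)
    simp only [Functor.map_comp]
    rfl
  have hq : ∀ {N N' : ModuleCat.{u} A} (g : N ⟶ N'),
      DerivedCategory.Q.map ((FSmap q).app N) ≫ DerivedCategory.Q.map ((FS K).map g) =
        DerivedCategory.Q.map ((FS P).map g) ≫ DerivedCategory.Q.map ((FSmap q).app N') := fun g => by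
    rw [← Functor.map_comp, ← Functor.map_comp, (FSmap q).naturality]
  refine ⟨M, le_max_left n k,
    DerivedCategory.Q.map ((FS K).map u) ≫ b ≫ DerivedCategory.Q.map ((FS P).map w), ?_, ?_⟩
  · refine Eq.trans ?_ (hT P)
    exact (Category.assoc _ _ _).symm.trans ((congrArg (· ≫ b ≫ DerivedCategory.Q.map ((FS P).map w)) (hq u)).trans
      ((Category.assoc _ _ _).trans (congrArg (DerivedCategory.Q.map ((FS P).map u) ≫ ·)
        ((Category.assoc _ _ _).symm.trans (congrArg (· ≫ DerivedCategory.Q.map ((FS P).map w)) h₁)))))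
  · refine Eq.trans ?_ (hT K)
    exact (Category.assoc _ _ _).trans (congrArg (DerivedCategory.Q.map ((FS K).map u) ≫ ·)
      ((Category.assoc _ _ _).trans ((congrArg (b ≫ ·) (hq w).symm).trans
        ((Category.assoc _ _ _).symm.trans (congrArg (· ≫ DerivedCategory.Q.map ((FS K).map w)) h₂)))))

end Main

end GrothLib.DT.ProTor
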