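import Groth.Agent.Lib.DTen.BCRHom
import Mathlib.CategoryTheory.Monoidal.Rigid.Braided
import Mathlib.CategoryTheory.Adjunction.Unique

/-! # The projection formula and the relative internal hom of a perfect algebra -/

set_option autoImplicit false
set_option maxHeartbeats 1000000
set_option backward.isDefEq.respectTransparency false
universe u

open CategoryTheory CategoryTheory.Limits MonoidalCategory HomologicalComplex

attribute [local instance] HasDerivedCategory.standard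

namespace GrothLib.DT

variable {R R' : Type u} [CommRing R] [CommRing R'] (φ : R →+* R')

theorem ResCx.projL_baseChangeTensorIso (L : DRing.Cx R') (N : DRing.Cx R) :
    ((DTen.resCx φ).obj L ◁ (DTen.unitCx φ).app N ≫ DTen.resTenCx φ L ((DTen.extCx φ).obj N)) ≫
      (KF.baseChangeTensorIso φ L N).hom = 𝟙 _ := by
  refine HomologicalComplex.hom_ext _ _ fun n => HomologicalComplex.mapBifunctor.hom_ext fun p q h => ?_
  have hm : ιTensorObj ((DTen.resCx φ).obj L) N p q n h ≫
      ((DTen.resCx φ).obj L ◁ (DTen.unitCx φ).app N).f n =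
      (DTen.resM φ).obj (L.X p) ◁ (ModuleCat.extendRestrictScalarsAdj.{u, u, u} φ).unit.app (N.X q) ≫
        ιTensorObj ((DTen.resCx φ).obj L) ((DTen.resCx φ).obj ((DTen.extCx φ).obj N)) p q n h :=
    ModuleCat.MonoidalCategory.tensor_ext fun x y => Cx.whiskerLeft_ι _ ((DTen.unitCx φ).app N) p q n h x y
  change ιTensorObj ((DTen.resCx φ).obj L) N p q n h ≫
      (((DTen.resCx φ).obj L ◁ (DTen.unitCx φ).app N).f n ≫
        (DTen.resTenCx φ L ((DTen.extCx φ).obj N)).f n) ≫
      (KF.baseChangeTensorIso φ L N).hom.f n =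
    ιTensorObj ((DTen.resCx φ).obj L) N p q n h ≫ 𝟙 _
  rw [Category.assoc, reassoc_of% hm, reassoc_of% (DTen.ι_resTenCx φ L ((DTen.extCx φ).obj N) p q n h),
    ResCx.ι_baseChangeTensorIso, Category.comp_id]
  erw [reassoc_of% (ResCx.restrictTensorExtend_unit φ (L.X p) (N.X q))]

theorem ResCx.isIso_projL (L : DRing.Cx R') (N : DRing.Cx R) :
    IsIso ((DTen.resCx φ).obj L ◁ (DTen.unitCx φ).app N ≫ DTen.resTenCx φ L ((DTen.extCx φ).obj N)) := by
  have : IsIso (((DTen.resCx φ).obj L ◁ (DTen.unitCx φ).app N ≫ DTen.resTenCx φ L ((DTen.extCx φ).obj N)) ≫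
      (KF.baseChangeTensorIso φ L N).hom) := by
    rw [ResCx.projL_baseChangeTensorIso]
    infer_instance
  exact IsIso.of_isIso_comp_right _ (KF.baseChangeTensorIso φ L N).hom

local notation "G" => DRing.restrictD φ

section Abstract

variable {C : Type*} [Category C] [MonoidalCategory C] {B : C} {H : C ⥤ C}
  (adj : tensorLeft B ⊣ H)

/-- A right adjoint of tensoring with a dualisable object is given by tensoring. -/
theorem isIso_of_rightAdjoint_tensorLeft (D : C) [ExactPairing D B] (K : C) (g : H.obj (𝟙_ C) ⊗ K ⟶ H.obj K)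
    (hg : B ◁ g ≫ adj.counit.app K = (α_ B _ K).inv ≫ adj.counit.app (𝟙_ C) ▷ K ≫ (λ_ K).hom) : IsIso g := by
  let u := (tensorLeftAdjunction D B).rightAdjointUniq adj
  have hu : ∀ X, B ◁ u.hom.app X ≫ adj.counit.app X = (α_ B D X).inv ≫ ε_ D B ▷ X ≫ (λ_ X).hom := fun X => by
    refine (Adjunction.rightAdjointUniq_hom_app_counit (tensorLeftAdjunction D B) adj X).trans ?_
    simp [tensorLeftAdjunction, tensorLeftHomEquiv, Adjunction.mkOfHomEquiv]
  have e : u.hom.app (𝟙_ C) ▷ K ≫ g = (ρ_ D).hom ▷ K ≫ u.hom.app K := by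
    apply (adj.homEquiv _ _).symm.injective
    rw [Adjunction.homEquiv_counit, Adjunction.homEquiv_counit]
    change B ◁ _ ≫ _ = B ◁ _ ≫ _
    rw [whiskerLeft_comp, Category.assoc, hg, whiskerLeft_comp, Category.assoc, hu,
      associator_inv_naturality_middle_assoc, ← comp_whiskerRight_assoc, hu]
    dsimp
    simp only [comp_whiskerRight, Category.assoc]
    monoidal
  have : IsIso (u.hom.app (𝟙_ C) ▷ K ≫ g) := by rw [e]; infer_instance
  exact IsIso.of_isIso_comp_left (u.hom.app (𝟙_ C) ▷ K) g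

end Abstract

section

variable [DTen.HasLTen R] [DTen.HasLTen₃ R] [DTen.IsSymMonoidal R]
  [DTen.HasLTen R'] [DTen.HasLTen₃ R'] [DTen.IsSymMonoidal R'] [DTen.HasResTen φ] [DTen.ResLegIso φ]
  [DTen.HasLBase φ]

local notation "Lb" => DTen.LBase φ

/-- The projection formula map. -/
noncomputable def pProj (E : Dual.D R') (X : Dual.D R) : (G).obj E ⊗ X ⟶ (G).obj (E ⊗ (Lb).obj X) :=
  (G).obj E ◁ (DTen.baseAdj φ).unit.app X ≫ P₂ φ E ((Lb).obj X)

theorem pProj_natural (E : Dual.D R') {X Y : Dual.D R} (f : X ⟶ Y) :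
    (G).obj E ◁ f ≫ pProj φ E Y = pProj φ E X ≫ (G).map (E ◁ (Lb).map f) := by
  rw [pProj, pProj, Category.assoc, ← P₂_natural_right, ← whiskerLeft_comp_assoc, ← whiskerLeft_comp_assoc,
    (DTen.baseAdj φ).unit_naturality]

theorem pProj_natural_left {E F : Dual.D R'} (f : E ⟶ F) (X : Dual.D R) :
    (G).map f ▷ X ≫ pProj φ F X = pProj φ E X ≫ (G).map (f ▷ (Lb).obj X) := by
  rw [pProj, pProj, Category.assoc, ← P₂_natural_left, ← whisker_exchange_assoc]
  rfl

theorem isIso_pProj (E : Dual.D R') (X : Dual.D R) : IsIso (pProj φ E X) := by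
  obtain ⟨L, hL, ⟨eE⟩⟩ := exists_Q_iso E
  obtain ⟨N, hN, ⟨eX⟩⟩ := exists_Q_iso X
  have := isIso_baseCmp φ hN
  have := isIso_μ hL ((DTen.extCx φ).obj N)
  have := isIso_ε_right ((DTen.resCx φ).obj L) hN
  have := ResCx.isIso_projL φ L N
  have : IsIso (pProj φ (DerivedCategory.Q.obj L) (DerivedCategory.Q.obj N)) := by
    have h : pProj φ (DerivedCategory.Q.obj L) (DerivedCategory.Q.obj N) ≫
        (G).map (DerivedCategory.Q.obj L ◁ (DTen.baseCmp φ).app N) ≫ (G).map (μ L ((DTen.extCx φ).obj N)) ≫ rF φ _ =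
        rF φ L ▷ DerivedCategory.Q.obj N ≫ μ ((DTen.resCx φ).obj L) N ≫
          DerivedCategory.Q.map
            ((DTen.resCx φ).obj L ◁ (DTen.unitCx φ).app N ≫ DTen.resTenCx φ L ((DTen.extCx φ).obj N)) := by
      rw [pProj, Category.assoc, ← reassoc_of% (P₂_natural_right φ (DerivedCategory.Q.obj L) ((DTen.baseCmp φ).app N)),
        P₂_fac, ← id_tensorHom, ← id_tensorHom, tensorHom_comp_tensorHom_assoc]
      erw [tensorHom_comp_tensorHom_assoc]
      simp only [Category.id_comp, Category.assoc]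
      erw [baseγ_rF]
      rw [show (rF φ L ⊗ₘ DerivedCategory.Q.map ((DTen.unitCx φ).app N)) =
        rF φ L ▷ DerivedCategory.Q.obj N ≫
          (𝟙 _ ⊗ₘ DerivedCategory.Q.map ((DTen.unitCx φ).app N)) from by rw [tensorHom_def, id_tensorHom]; rfl]
      rw [Category.assoc, reassoc_of% (μ_natural_left ((DTen.resCx φ).obj L) ((DTen.unitCx φ).app N)),
        ← Functor.map_comp]
    have : IsIso (pProj φ (DerivedCategory.Q.obj L) (DerivedCategory.Q.obj N) ≫
        (G).map (DerivedCategory.Q.obj L ◁ (DTen.baseCmp φ).app N) ≫ (G).map (μ L ((DTen.extCx φ).obj N)) ≫ rF φ _) := by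
      rw [h]; infer_instance
    exact IsIso.of_isIso_comp_right _
      ((G).map (DerivedCategory.Q.obj L ◁ (DTen.baseCmp φ).app N) ≫ (G).map (μ L ((DTen.extCx φ).obj N)) ≫ rF φ _)
  have : IsIso (((G).map eE.hom ▷ DerivedCategory.Q.obj N ≫ (G).obj E ◁ eX.hom) ≫ pProj φ E X) := by
    rw [Category.assoc, pProj_natural, reassoc_of% (pProj_natural_left φ eE.hom)]
    infer_instance
  exact IsIso.of_isIso_comp_left ((G).map eE.hom ▷ DerivedCategory.Q.obj N ≫ (G).obj E ◁ eX.hom) _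

variable [DTen.HasRHomRel φ]

/-- Derived base change followed by restriction is tensoring with the algebra. -/
noncomputable def qProjIso : DTen.LBase φ ⋙ DRing.restrictD φ ≅ tensorLeft ((G).obj (𝟙_ (Dual.D R'))) :=
  (NatIso.ofComponents (fun X => @asIso _ _ _ _ (qProj φ X) (isIso_qProj φ X)) fun {X Y} f => by
    simp only [asIso_hom, Functor.comp_map, qProj, Category.assoc]
    change (G).obj (𝟙_ (Dual.D R')) ◁ f ≫ _ = _
    rw [← mAct_natural, ← whiskerLeft_comp_assoc, ← whiskerLeft_comp_assoc, (DTen.baseAdj φ).unit_naturality]).symm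

/-- `restriction ∘ RHom(A, -)` is right adjoint to tensoring with the algebra. -/
noncomputable def relTensorAdj :
    tensorLeft ((G).obj (𝟙_ (Dual.D R'))) ⊣ DTen.RHomRel φ ⋙ DRing.restrictD φ :=
  ((DTen.baseAdj φ).comp (DTen.relAdj φ)).ofNatIsoLeft (qProjIso φ)

theorem relTensorAdj_counit (K : Dual.D R) :
    (relTensorAdj φ).counit.app K = mAct φ ((DTen.RHomRel φ).obj K) ≫ DTen.relEv φ K := by
  simp only [relTensorAdj, Adjunction.ofNatIsoLeft, qProjIso, Iso.symm_inv, NatTrans.comp_app,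
    Functor.whiskerLeft_app, Adjunction.comp_counit_app, NatIso.ofComponents_hom_app, asIso_hom,
    Functor.comp_obj, qProj]
  rw [Category.assoc, ← reassoc_of% (mAct_natural φ _), ← whiskerLeft_comp_assoc,
    (DTen.baseAdj φ).right_triangle_components, whiskerLeft_id, Category.id_comp]

/-- The trace for the projection formula. -/
noncomputable def wTr (K : Dual.D R) :
    (G).obj ((Lb).obj K ⊗ (DTen.RHomRel φ).obj (𝟙_ (Dual.D R))) ⟶ K :=
  @inv _ _ _ _ (pProj φ ((DTen.RHomRel φ).obj (𝟙_ (Dual.D R))) K ≫ (G).map (β_ _ _).hom)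
      (@IsIso.comp_isIso _ _ _ _ _ _ _ (isIso_pProj φ _ K) inferInstance) ≫
    DTen.relEv φ (𝟙_ (Dual.D R)) ▷ K ≫ (λ_ K).hom

/-- The comparison `(K ⊗^L_R A) ⊗^L_A RHom(A, R) ⟶ RHom(A, K)`. -/
noncomputable def θRel (K : Dual.D R) :
    (Lb).obj K ⊗ (DTen.RHomRel φ).obj (𝟙_ (Dual.D R)) ⟶ (DTen.RHomRel φ).obj K :=
  (DTen.relAdj φ).homEquiv _ _ (wTr φ K)

theorem θRel_fac (K : Dual.D R) : (G).map (θRel φ K) ≫ DTen.relEv φ K = wTr φ K :=
  ((DTen.relAdj φ).homEquiv_counit _ _ _).symm.trans (Equiv.symm_apply_apply _ _)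

theorem pProj_braiding_fac (K : Dual.D R) :
    pProj φ ((DTen.RHomRel φ).obj (𝟙_ (Dual.D R))) K ≫ (G).map (β_ _ _).hom ≫ wTr φ K =
      DTen.relEv φ (𝟙_ (Dual.D R)) ▷ K ≫ (λ_ K).hom := by
  rw [wTr, ← Category.assoc, IsIso.hom_inv_id_assoc]

theorem wTr_natural {K L : Dual.D R} (f : K ⟶ L) :
    (G).map ((Lb).map f ▷ (DTen.RHomRel φ).obj (𝟙_ (Dual.D R))) ≫ wTr φ L = wTr φ K ≫ f := by
  have := isIso_pProj φ ((DTen.RHomRel φ).obj (𝟙_ (Dual.D R))) K
  rw [← cancel_epi (pProj φ ((DTen.RHomRel φ).obj (𝟙_ (Dual.D R))) K ≫ (G).map (β_ _ _).hom)]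
  simp only [Category.assoc]
  rw [reassoc_of% (pProj_braiding_fac φ K), ← Functor.map_comp_assoc,
    ← BraidedCategory.braiding_naturality_right, Functor.map_comp_assoc, ← reassoc_of% (pProj_natural φ _ f),
    pProj_braiding_fac, whisker_exchange_assoc, leftUnitor_naturality]

theorem isIso_θRel (hA : DRing.IsPerfect R ((G).obj (𝟙_ (Dual.D R')))) (K : Dual.D R) : IsIso (θRel φ K) := by
  obtain ⟨D, ⟨hD⟩⟩ := exists_exactPairing hA
  let _ := hD
  let _ := BraidedCategory.exactPairing_swap ((G).obj (𝟙_ (Dual.D R'))) D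
  have := isIso_pProj φ ((DTen.RHomRel φ).obj (𝟙_ (Dual.D R))) K
  set M := (DTen.RHomRel φ).obj (𝟙_ (Dual.D R))
  set j := pProj φ M K ≫ (G).map (β_ M ((Lb).obj K)).hom with hj
  have hB : (G).obj (𝟙_ (Dual.D R')) ◁ j ≫ mAct φ ((Lb).obj K ⊗ M) =
      (α_ _ _ _).inv ≫ mAct φ M ▷ K ≫ j := by
    have h1 := mAct_linear φ M ((Lb).obj K)
    rw [hj, pProj]
    simp only [whiskerLeft_comp, Category.assoc]
    rw [mAct_natural, ← cancel_epi (α_ ((G).obj (𝟙_ (Dual.D R'))) ((G).obj M) K).hom, Iso.hom_inv_id_assoc]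
    erw [← associator_naturality_right_assoc]
    erw [← reassoc_of% h1]
    erw [whisker_exchange_assoc]
  have h : IsIso (j ≫ (G).map (θRel φ K)) := by
    refine isIso_of_rightAdjoint_tensorLeft (relTensorAdj φ) D K (j ≫ (G).map (θRel φ K)) ?_
    rw [relTensorAdj_counit, relTensorAdj_counit, whiskerLeft_comp, Category.assoc, reassoc_of% (mAct_natural φ (θRel φ K))]
    erw [θRel_fac]
    rw [reassoc_of% hB, hj]
    simp only [Category.assoc]
    erw [pProj_braiding_fac]
    rw [comp_whiskerRight_assoc]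
    rfl
  have := IsIso.of_isIso_comp_left j ((G).map (θRel φ K))
  exact isIso_of_isIso_restrictD φ _

/-- The natural isomorphism. -/
noncomputable def θRelIso (hA : DRing.IsPerfect R ((G).obj (𝟙_ (Dual.D R')))) :
    DTen.LBase φ ⋙ tensorRight ((DTen.RHomRel φ).obj (𝟙_ (Dual.D R))) ≅ DTen.RHomRel φ :=
  NatIso.ofComponents (fun K => @asIso _ _ _ _ (θRel φ K) (isIso_θRel φ hA K)) fun {K L} f => by
    apply ((DTen.relAdj φ).homEquiv _ _).symm.injective
    simp only [asIso_hom, Functor.comp_map]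
    rw [Adjunction.homEquiv_naturality_left_symm, Adjunction.homEquiv_naturality_right_symm, θRel, θRel]
    erw [Equiv.symm_apply_apply, Equiv.symm_apply_apply]
    exact wTr_natural φ f

end

end GrothLib.DT
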