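import Groth.Agent.Lib.DTen.Mix
import Groth.Agent.Lib.DTen.CxSymm
import Groth.Agent.Lib.DCxRing.TorLocalMax
import Groth.Prelude.Def_DTen5

/-! # Restriction, extension and tensor products of complexes of modules -/

set_option autoImplicit false
set_option maxHeartbeats 800000
set_option backward.isDefEq.respectTransparency false
universe u

open CategoryTheory CategoryTheory.Limits MonoidalCategory HomologicalComplex
open scoped TensorProduct

attribute [local instance] HasDerivedCategory.standard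

namespace GrothLib.DT.ResCx

open DTen

variable {R R' : Type u} [CommRing R] [CommRing R'] (φ : R →+* R')

/-- On modules: the unit at a tensor product is the product of the units. -/
theorem unit_tensor (M N : ModuleCat.{u} R) :
    (ModuleCat.extendRestrictScalarsAdj.{u, u, u} φ).unit.app (M ⊗ N) ≫
        (resM φ).map (Functor.OplaxMonoidal.δ (ModuleCat.extendScalars.{u, u, u} φ) M N) =
      ((ModuleCat.extendRestrictScalarsAdj.{u, u, u} φ).unit.app M ⊗ₘ
        (ModuleCat.extendRestrictScalarsAdj.{u, u, u} φ).unit.app N) ≫ resTen₀app φ _ _ :=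
  ModuleCat.hom_ext (TensorProduct.ext' fun _ _ => rfl)

theorem ι_bcTensorIso (P N : DRing.Cx R) (p q n : ℤ) (h : p + q = n) :
    (ModuleCat.extendScalars.{u, u, u} φ).map (ιTensorObj P N p q n h) ≫ (DR.bcTensorIso φ P N).hom.f n =
      Functor.OplaxMonoidal.δ (ModuleCat.extendScalars.{u, u, u} φ) (P.X p) (N.X q) ≫
        ιTensorObj ((extCx φ).obj P) ((extCx φ).obj N) p q n h := by
  let B := (((curriedTensor (ModuleCat.{u} R)).mapBifunctorHomologicalComplex (ComplexShape.up ℤ)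
    (ComplexShape.up ℤ)).obj P).obj N
  let G := ModuleCat.extendScalars.{u, u, u} φ
  have e1 : (TotalMap.mapBicx G B).ιTotal (ComplexShape.up ℤ) p q n h ≫ (TotalMap.totalMap G B).f n =
      G.map (ιTensorObj P N p q n h) := by
    dsimp only [TotalMap.totalMap]
    erw [HomologicalComplex₂.ι_totalDesc]
  rw [← e1]
  dsimp only [DR.bcTensorIso, Iso.trans_hom, Iso.symm_hom, HomologicalComplex.comp_f]
  rw [Category.assoc]
  erw [← HomologicalComplex.comp_f_assoc, (TotalMap.totalMapIso G B).hom_inv_id, HomologicalComplex.id_f,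
    Category.id_comp]
  erw [HomologicalComplex₂.ιTotal_map]
  rfl

/-- The unit of the base change at a tensor product of complexes. -/
theorem unitCx_tensor (P N : DRing.Cx R) :
    (unitCx φ).app (P ⊗ N) ≫ (resCx φ).map (DR.bcTensorIso φ P N).hom =
      ((unitCx φ).app P ⊗ₘ (unitCx φ).app N) ≫ resTenCx φ ((extCx φ).obj P) ((extCx φ).obj N) := by
  refine HomologicalComplex.hom_ext _ _ fun n => HomologicalComplex.mapBifunctor.hom_ext fun p q h => ?_
  change ιTensorObj P N p q n h ≫ (ModuleCat.extendRestrictScalarsAdj.{u, u, u} φ).unit.app ((P ⊗ N).X n) ≫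
      (resM φ).map ((DR.bcTensorIso φ P N).hom.f n) =
    ιTensorObj P N p q n h ≫
      ((unitCx φ).app P ⊗ₘ (unitCx φ).app N).f n ≫ (resTenCx φ ((extCx φ).obj P) ((extCx φ).obj N)).f n
  erw [(ModuleCat.extendRestrictScalarsAdj.{u, u, u} φ).unit.naturality_assoc (ιTensorObj P N p q n h)]
  change _ ≫ (resM φ).map _ ≫ _ = _
  rw [← Functor.map_comp, ι_bcTensorIso, Functor.map_comp, ← Category.assoc, unit_tensor, Category.assoc]
  have hm : ιTensorObj P N p q n h ≫ ((unitCx φ).app P ⊗ₘ (unitCx φ).app N).f n =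
      ((ModuleCat.extendRestrictScalarsAdj.{u, u, u} φ).unit.app (P.X p) ⊗ₘ
        (ModuleCat.extendRestrictScalarsAdj.{u, u, u} φ).unit.app (N.X q)) ≫
        ιTensorObj ((resCx φ).obj ((extCx φ).obj P)) ((resCx φ).obj ((extCx φ).obj N)) p q n h := by
    change ιTensorObj P N p q n h ≫
      (HomologicalComplex.mapBifunctorMap ((unitCx φ).app P) ((unitCx φ).app N) _ _).f n = _
    rw [MonoidalCategory.tensorHom_def]
    exact (HomologicalComplex.ι_mapBifunctorMap (f₁ := (unitCx φ).app P) (f₂ := (unitCx φ).app N)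
      (F := curriedTensor (ModuleCat.{u} R)) (c := ComplexShape.up ℤ) p q n h).trans (Category.assoc _ _ _).symm
  exact ((congrArg (((ModuleCat.extendRestrictScalarsAdj.{u, u, u} φ).unit.app (P.X p) ⊗ₘ
      (ModuleCat.extendRestrictScalarsAdj.{u, u, u} φ).unit.app (N.X q)) ≫ ·)
      (ι_resTenCx φ ((extCx φ).obj P) ((extCx φ).obj N) p q n h).symm).trans (Category.assoc _ _ _).symm).trans
    ((congrArg (· ≫ (resTenCx φ ((extCx φ).obj P) ((extCx φ).obj N)).f n) hm.symm).trans (Category.assoc _ _ _))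

open GrothLib.RH in
theorem resTenCx_ι (Y Y' : DRing.Cx R') (p q n : ℤ) (h : p + q = n) (x : Y.X p) (y : Y'.X q) :
    (resTenCx φ Y Y').f n (ιT ((resCx φ).obj Y) ((resCx φ).obj Y') p q n h
        ((show ((resCx φ).obj Y).X p from x) ⊗ₜ[R] (show ((resCx φ).obj Y').X q from y))) =
      (ιT Y Y' p q n h (x ⊗ₜ[R'] y) : (Y ⊗ Y').X n) :=
  ConcreteCategory.congr_hom (ι_resTenCx φ Y Y' p q n h)
    ((show ((resCx φ).obj Y).X p from x) ⊗ₜ[R] (show ((resCx φ).obj Y').X q from y))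

/-- The action of the restricted unit on a restricted complex. -/
noncomputable def aCx (P : DRing.Cx R') :
    (resCx φ).obj (𝟙_ (DRing.Cx R')) ⊗ (resCx φ).obj P ⟶ (resCx φ).obj P :=
  resTenCx φ (𝟙_ (DRing.Cx R')) P ≫ (resCx φ).map (λ_ P).hom

open GrothLib.RH in
theorem aCx_ι (P : DRing.Cx R') (q : ℤ) (c : (𝟙_ (DRing.Cx R')).X 0) (x : P.X q) :
    (aCx φ P).f q (ιT ((resCx φ).obj (𝟙_ (DRing.Cx R'))) ((resCx φ).obj P) 0 q q (zero_add q)
        ((show ((resCx φ).obj (𝟙_ (DRing.Cx R'))).X 0 from c) ⊗ₜ[R] (show ((resCx φ).obj P).X q from x))) =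
      (Cx.scal c • x : P.X q) :=
  (congrArg ((λ_ P).hom.f q) (resTenCx_ι φ (𝟙_ (DRing.Cx R')) P 0 q q (zero_add q) c x)).trans
    (Cx.leftUnitor_hom_ι P q x c)

open GrothLib.RH in
theorem eq_zero_of_ne (p : ℤ) (hp : p ≠ 0) (c : (𝟙_ (DRing.Cx R')).X p) : c = 0 :=
  have := ModuleCat.subsingleton_of_isZero
    (HomologicalComplex.isZero_single_obj_X (ComplexShape.up ℤ) 0 (ModuleCat.of R' R') p hp)
  Subsingleton.elim _ _

open GrothLib.RH in
/-- `resTenCx` is linear for the actions of the restricted unit. -/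
theorem aCx_linear (P N : DRing.Cx R') :
    aCx φ P ▷ (resCx φ).obj N ≫ resTenCx φ P N =
      (α_ ((resCx φ).obj (𝟙_ (DRing.Cx R'))) ((resCx φ).obj P) ((resCx φ).obj N)).hom ≫
        (resCx φ).obj (𝟙_ (DRing.Cx R')) ◁ resTenCx φ P N ≫ aCx φ (P ⊗ N) := by
  refine HomologicalComplex.hom_ext _ _ fun n => Cx.hom_ext₃ fun p q r hs c x z => ?_
  by_cases hp : p = 0
  · subst hp
    have hq : (0 : ℤ) + q = q := zero_add q
    have hqr : q + r = n := by omega
    have key : ∀ (pq : ℤ) (hpq : 0 + q = pq) (hs : pq + r = n),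
        (resTenCx φ P N).f n ((aCx φ P ▷ (resCx φ).obj N).f n
          (ιT (tens ((resCx φ).obj (𝟙_ (DRing.Cx R'))) ((resCx φ).obj P)) ((resCx φ).obj N) pq r n hs
            (ιT ((resCx φ).obj (𝟙_ (DRing.Cx R'))) ((resCx φ).obj P) 0 q pq hpq (c ⊗ₜ x) ⊗ₜ z))) =
        (aCx φ (P ⊗ N)).f n (((resCx φ).obj (𝟙_ (DRing.Cx R')) ◁ resTenCx φ P N).f n
          ((α_ ((resCx φ).obj (𝟙_ (DRing.Cx R'))) ((resCx φ).obj P) ((resCx φ).obj N)).hom.f n
            (ιT (tens ((resCx φ).obj (𝟙_ (DRing.Cx R'))) ((resCx φ).obj P)) ((resCx φ).obj N) pq r n hs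
              (ιT ((resCx φ).obj (𝟙_ (DRing.Cx R'))) ((resCx φ).obj P) 0 q pq hpq (c ⊗ₜ x) ⊗ₜ z)))) := by
      intro pq hpq hs
      obtain rfl : q = pq := by omega
      refine ((congrArg ((resTenCx φ P N).f n) ((Cx.whiskerRight_ι (aCx φ P) _ q r n hs _ z).trans
        (congrArg (fun t => ιT ((resCx φ).obj P) ((resCx φ).obj N) q r n hs (t ⊗ₜ z)) (aCx_ι φ P q c x)))).trans
          (resTenCx_ι φ P N q r n hs _ z)).trans ?_
      refine Eq.trans ?_ ((congrArg (fun t => (aCx φ (P ⊗ N)).f n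
          (((resCx φ).obj (𝟙_ (DRing.Cx R')) ◁ resTenCx φ P N).f n t))
          (Cx.associator_ι _ _ _ 0 q r n q n hpq hqr hs (zero_add n) c x z)).trans
        ((congrArg ((aCx φ (P ⊗ N)).f n) ((Cx.whiskerLeft_ι _ (resTenCx φ P N) 0 n n (zero_add n) c _).trans
          (congrArg (fun t => ιT ((resCx φ).obj (𝟙_ (DRing.Cx R'))) ((resCx φ).obj (P ⊗ N)) 0 n n (zero_add n)
            (c ⊗ₜ t)) (resTenCx_ι φ P N q r n hs x z)))).trans (aCx_ι φ (P ⊗ N) n c _))).symm
      exact (congrArg (ιT P N q r n hs) (TensorProduct.smul_tmul' (Cx.scal (R := R') c) (show P.X q from x)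
          (show N.X r from z)).symm).trans
        ((ιT P N q r n hs).hom.map_smul (Cx.scal (R := R') c) ((show P.X q from x) ⊗ₜ (show N.X r from z)))
    exact key (0 + q) rfl hs
  · obtain rfl : c = 0 := eq_zero_of_ne (R' := R') p hp c
    change ((aCx φ P ▷ (resCx φ).obj N ≫ resTenCx φ P N).f n) _ = _
    erw [TensorProduct.zero_tmul, map_zero, TensorProduct.zero_tmul, map_zero, map_zero, map_zero]

/-- The projection formula comparison on complexes. -/
noncomputable def projCx (N : DRing.Cx R) :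
    (resCx φ).obj (𝟙_ (DRing.Cx R')) ⊗ N ⟶ (resCx φ).obj (𝟙_ (DRing.Cx R') ⊗ (extCx φ).obj N) :=
  (resCx φ).obj (𝟙_ (DRing.Cx R')) ◁ (unitCx φ).app N ≫ resTenCx φ (𝟙_ (DRing.Cx R')) ((extCx φ).obj N)

theorem restrictTensorExtend_unit (M : ModuleCat.{u} R') (N : ModuleCat.{u} R) :
    ((resM φ).obj M ◁ (ModuleCat.extendRestrictScalarsAdj.{u, u, u} φ).unit.app N) ≫
      resTen₀app φ M ((ModuleCat.extendScalars.{u, u, u} φ).obj N) ≫ (KF.restrictTensorExtendIso φ M N).hom =
      𝟙 _ := by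
  let _ := φ.toAlgebra
  let _ : Module R M := Module.compHom M φ
  refine ModuleCat.hom_ext (TensorProduct.ext' fun m n => ?_)
  show ((1 : R') • m) ⊗ₜ[R] n = m ⊗ₜ[R] n
  rw [one_smul]

theorem ι_baseChangeTensorIso (L : DRing.Cx R') (N : DRing.Cx R) (p q n : ℤ) (h : p + q = n) :
    (resM φ).map (ιTensorObj L ((extCx φ).obj N) p q n h) ≫ (KF.baseChangeTensorIso φ L N).hom.f n =
      (KF.restrictTensorExtendIso φ (L.X p) (N.X q)).hom ≫ ιTensorObj ((resCx φ).obj L) N p q n h := by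
  let B := (((curriedTensor (ModuleCat.{u} R')).mapBifunctorHomologicalComplex (ComplexShape.up ℤ)
    (ComplexShape.up ℤ)).obj L).obj ((extCx φ).obj N)
  let G := ModuleCat.restrictScalars.{u} φ
  have e1 : (TotalMap.mapBicx G B).ιTotal (ComplexShape.up ℤ) p q n h ≫ (TotalMap.totalMap G B).f n =
      (resM φ).map (ιTensorObj L ((extCx φ).obj N) p q n h) := by
    dsimp only [TotalMap.totalMap]
    erw [HomologicalComplex₂.ι_totalDesc]
  rw [← e1]
  dsimp only [KF.baseChangeTensorIso, Iso.trans_hom, Iso.symm_hom, HomologicalComplex.comp_f]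
  rw [Category.assoc]
  erw [← HomologicalComplex.comp_f_assoc, (TotalMap.totalMapIso G B).hom_inv_id, HomologicalComplex.id_f,
    Category.id_comp]
  erw [HomologicalComplex₂.ιTotal_map]
  rfl

theorem projCx_baseChangeTensorIso (N : DRing.Cx R) :
    projCx φ N ≫ (KF.baseChangeTensorIso φ (𝟙_ (DRing.Cx R')) N).hom = 𝟙 _ := by
  refine HomologicalComplex.hom_ext _ _ fun n => HomologicalComplex.mapBifunctor.hom_ext fun p q h => ?_
  have hm : ιTensorObj ((resCx φ).obj (𝟙_ (DRing.Cx R'))) N p q n h ≫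
      ((resCx φ).obj (𝟙_ (DRing.Cx R')) ◁ (unitCx φ).app N).f n =
      (resM φ).obj ((𝟙_ (DRing.Cx R')).X p) ◁ (ModuleCat.extendRestrictScalarsAdj.{u, u, u} φ).unit.app (N.X q) ≫
        ιTensorObj ((resCx φ).obj (𝟙_ (DRing.Cx R'))) ((resCx φ).obj ((extCx φ).obj N)) p q n h :=
    ModuleCat.MonoidalCategory.tensor_ext fun x y => Cx.whiskerLeft_ι _ ((unitCx φ).app N) p q n h x y
  change ιTensorObj ((resCx φ).obj (𝟙_ (DRing.Cx R'))) N p q n h ≫
      (((resCx φ).obj (𝟙_ (DRing.Cx R')) ◁ (unitCx φ).app N).f n ≫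
        (resTenCx φ (𝟙_ (DRing.Cx R')) ((extCx φ).obj N)).f n) ≫
      (KF.baseChangeTensorIso φ (𝟙_ (DRing.Cx R')) N).hom.f n =
    ιTensorObj ((resCx φ).obj (𝟙_ (DRing.Cx R'))) N p q n h ≫ 𝟙 _
  rw [Category.assoc, reassoc_of% hm, reassoc_of% (ι_resTenCx φ (𝟙_ (DRing.Cx R')) ((extCx φ).obj N) p q n h),
    ι_baseChangeTensorIso, Category.comp_id]
  erw [reassoc_of% (restrictTensorExtend_unit φ ((𝟙_ (DRing.Cx R')).X p) (N.X q))]

theorem isIso_projCx (N : DRing.Cx R) : IsIso (projCx φ N) := by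
  have : IsIso (projCx φ N ≫ (KF.baseChangeTensorIso φ (𝟙_ (DRing.Cx R')) N).hom) := by
    rw [projCx_baseChangeTensorIso]
    infer_instance
  exact IsIso.of_isIso_comp_right _ (KF.baseChangeTensorIso φ (𝟙_ (DRing.Cx R')) N).hom

end GrothLib.DT.ResCx
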