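import Groth.Agent.Lib.DTen.Values
import Groth.Prelude.Def_DTen5

/-! # The derived functor of restricting a tensor product exists, and its leg is invertible -/

set_option autoImplicit false
set_option maxHeartbeats 800000
universe u

open CategoryTheory CategoryTheory.Limits MonoidalCategory

attribute [local instance] HasDerivedCategory.standard

namespace GrothLib.DT

variable {R R' : Type u} [CommRing R] [CommRing R'] (φ : R →+* R')

/-- Tensor product followed by restriction descends to the homotopy category. -/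
noncomputable def resTenKIso : quot₂ R' ⋙ (tensorK R' ⋙ DRing.restrictD φ) ≅ DTen.resTen₂ φ :=
  (Functor.associator _ _ _).symm ≪≫ Functor.isoWhiskerRight (tensorKIso R') (DRing.restrictD φ) ≪≫
    Functor.associator _ _ _ ≪≫ Functor.isoWhiskerLeft (DTen.tensorT R') (DTen.resFactors φ) ≪≫
    (Functor.associator _ _ _).symm

theorem leftResolvableRes :
    Derive.LeftResolvable ((qK R').prod (qK R')) (fun X => KF.IsKFlat X.1.as)
      (tensorK R' ⋙ DRing.restrictD φ) where
  exists_res X := (leftResolvable₂ R').exists_res X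
  inverts X Y s hX hY hs :=
    have := (leftResolvable₂ R').inverts s hX hY hs
    inferInstanceAs (IsIso ((DRing.restrictD φ).map ((tensorK R').map s)))

theorem hasResTen : DTen.HasResTen φ :=
  hasLeftDerivedFunctor_precomp (quot₂ R') (quotQQIso R') (resTenKIso φ) (leftResolvableRes φ) (DTen.qis₂ R')

theorem isIso_εRes [DTen.HasResTen φ] {K : DRing.Cx R'} (hK : KF.IsKFlat K) (L : DRing.Cx R') :
    IsIso ((DTen.εRes φ).app (K, L)) :=
  isIso_app_precomp (quot₂ R') (quotQQIso R') (resTenKIso φ) (leftResolvableRes φ) (DTen.qis₂ R')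
    (DTen.ResTen φ) (DTen.εRes φ) (X := (K, L)) hK

theorem isIso_resLegB_app [DTen.HasLTen R'] [DTen.HasResTen φ] (E F : Dual.D R') :
    IsIso ((DTen.resLegB φ).app (E, F)) := by
  obtain ⟨K, hK, ⟨e⟩⟩ := exists_Q_iso E
  obtain ⟨L, -, ⟨e'⟩⟩ := exists_Q_iso F
  refine ((MorphismProperty.isomorphisms (Dual.D R)).arrow_mk_iso_iff
    (Arrow.isoMk ((DTen.LTenRes φ).mapIso (Iso.prod e e'))
      ((DTen.ResTen φ).mapIso (Iso.prod e e')) ((DTen.resLegB φ).naturality _))).1 ?_
  have hε := isIso_εRes φ hK L
  have h1 := isIso_ε_left hK L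
  have h : IsIso ((DTen.resLegB φ).app ((DTen.QQ R').obj (K, L)) ≫ (DTen.εRes φ).app (K, L)) := by
    rw [DTen.resLegB_fac]
    exact IsIso.comp_isIso' (inferInstanceAs (IsIso ((DRing.restrictD φ).map ((DTen.ε R').app (K, L)))))
      inferInstance
  exact @IsIso.of_isIso_comp_right _ _ _ _ _ _ ((DTen.εRes φ).app (K, L)) hε h

theorem resLegIso [DTen.HasLTen R'] [DTen.HasResTen φ] : DTen.ResLegIso φ :=
  have : ∀ X, IsIso ((DTen.resLegB φ).app X) := fun X => isIso_resLegB_app φ X.1 X.2
  ⟨NatIso.isIso_of_isIso_app _⟩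

end GrothLib.DT
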