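import Groth.Agent.Lib.DTen.HomTest
import Groth.Agent.Lib.DCxKFlat.KFlat
import Mathlib.Algebra.Homology.DerivedCategory.ShortExact
import Mathlib.Algebra.Homology.DerivedCategory.Fractions

/-! # Degreewise split approximations and their effect on maps -/

set_option autoImplicit false
set_option maxHeartbeats 800000
universe u

open CategoryTheory CategoryTheory.Limits HomologicalComplex Pretriangulated MonoidalCategory

attribute [local instance] HasDerivedCategory.standard

namespace GrothLib.DT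

variable {A : Type u} [CommRing A]

/-- A short complex of complexes is degreewise split. -/
abbrev DegSplit (T : ShortComplex (DRing.Cx A)) : Prop :=
  ∀ n : ℤ, Nonempty (T.map (HomologicalComplex.eval (ModuleCat.{u} A) (ComplexShape.up ℤ) n)).Splitting

theorem DegSplit.shortExact {T : ShortComplex (DRing.Cx A)} (hT : DegSplit T) : T.ShortExact :=
  HomologicalComplex.shortExact_of_degreewise_shortExact _ fun i => (hT i).some.shortExact

theorem DegSplit.tensor {T : ShortComplex (DRing.Cx A)} (hT : DegSplit T) (P : DRing.Cx A) :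
    (T.map ((KF.tensorCx (R := A)).obj P)).ShortExact :=
  KF.tensorCx_shortExact_of_splitting (fun q => (hT q).some) P

theorem bijective_precomp {T : ShortComplex (DRing.Cx A)} (hT : T.ShortExact) (M : Dual.D A)
    (h₀ : Subsingleton (DerivedCategory.Q.obj T.X₃ ⟶ M))
    (h₁ : Subsingleton ((DerivedCategory.Q.obj T.X₃)⟦(-1 : ℤ)⟧ ⟶ M)) :
    Function.Bijective fun t : DerivedCategory.Q.obj T.X₂ ⟶ M => DerivedCategory.Q.map T.f ≫ t := by
  let τ := DerivedCategory.triangleOfSES hT
  have hτ : τ ∈ distTriang _ := DerivedCategory.triangleOfSES_distinguished hT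
  refine ⟨fun s t h => ?_, fun t => ?_⟩
  · obtain ⟨w, hw⟩ := Triangle.yoneda_exact₂ τ hτ (s - t) (by
      change DerivedCategory.Q.map T.f ≫ (s - t) = 0
      rw [Preadditive.comp_sub, sub_eq_zero]; exact h)
    rw [Subsingleton.elim (α := DerivedCategory.Q.obj T.X₃ ⟶ M) w 0] at hw
    exact sub_eq_zero.1 (hw.trans comp_zero)
  · obtain ⟨w, hw⟩ := Triangle.yoneda_exact₂ τ.invRotate (inv_rot_of_distTriang _ hτ) t
      (h₁.elim (α := (DerivedCategory.Q.obj T.X₃)⟦(-1 : ℤ)⟧ ⟶ M) _ _)
    exact ⟨w, hw.symm⟩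

theorem bijective_S_comp {T : ShortComplex (DRing.Cx A)} (hT : T.ShortExact) (i : ℤ)
    (h₀ : Subsingleton (S A i ⟶ DerivedCategory.Q.obj T.X₃))
    (h₁ : Subsingleton (S A (i - 1) ⟶ DerivedCategory.Q.obj T.X₃)) :
    Function.Bijective fun t : S A i ⟶ DerivedCategory.Q.obj T.X₁ => t ≫ DerivedCategory.Q.map T.f := by
  let τ := DerivedCategory.triangleOfSES hT
  have hτ : τ ∈ distTriang _ := DerivedCategory.triangleOfSES_distinguished hT
  have h₁' : Subsingleton (S A i ⟶ (DerivedCategory.Q.obj T.X₃)⟦(-1 : ℤ)⟧) := by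
    obtain ⟨e⟩ := isZero_of_nonempty_shift (A := A) i
    refine subsingleton_of_forall_eq 0 fun t => ?_
    apply (shiftFunctor (Dual.D A) (1 : ℤ)).map_injective
    rw [← cancel_mono ((shiftFunctorCompIsoId (Dual.D A) (-1 : ℤ) 1 (by omega)).hom.app _), ← cancel_epi e.inv]
    exact h₁.elim _ _
  refine ⟨fun s t h => ?_, fun t => ?_⟩
  · obtain ⟨w, hw⟩ := Triangle.coyoneda_exact₂ τ.invRotate (inv_rot_of_distTriang _ hτ) (s - t) (by
      change (s - t) ≫ DerivedCategory.Q.map T.f = 0
      rw [Preadditive.sub_comp, sub_eq_zero]; exact h)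
    rw [Subsingleton.elim (α := S A i ⟶ (DerivedCategory.Q.obj T.X₃)⟦(-1 : ℤ)⟧) w 0] at hw
    exact sub_eq_zero.1 (hw.trans zero_comp)
  · obtain ⟨w, hw⟩ := Triangle.coyoneda_exact₂ τ hτ t (h₀.elim _ _)
    exact ⟨w, hw.symm⟩

/-- A morphism of `D(A)` is, up to isomorphism, the first map of a degreewise split sequence. -/
theorem exists_split {X Y : Dual.D A} (f : X ⟶ Y) :
    ∃ (T : ShortComplex (DRing.Cx A)) (eX : DerivedCategory.Q.obj T.X₁ ≅ X) (eY : DerivedCategory.Q.obj T.X₂ ≅ Y),
      DegSplit T ∧ DerivedCategory.Q.map T.f ≫ eY.hom = eX.hom ≫ f := by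
  let eX := DerivedCategory.Q.objObjPreimageIso X
  let eY := DerivedCategory.Q.objObjPreimageIso Y
  obtain ⟨Y', g, s, hs, hf⟩ := DerivedCategory.left_fac (eX.hom ≫ f ≫ eY.inv)
  let P := DerivedCategory.Q.objPreimage X
  let σ : (ShortComplex.mk (biprod.inr : CochainComplex.mappingCone (𝟙 P) ⟶ Y' ⊞ _) biprod.fst
      biprod.inr_fst).Splitting :=
    { r := biprod.snd, s := biprod.inl, f_r := biprod.inr_snd, s_g := biprod.inl_fst
      id := (add_comm _ _).trans biprod.total }
  have hfst : QuasiIso (biprod.fst : Y' ⊞ CochainComplex.mappingCone (𝟙 P) ⟶ Y') :=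
    KF.quasiIso_g_of_acyclic σ.shortExact ((DerCat.quasiIso_iff_acyclic_mappingCone (𝟙 P)).1 inferInstance)
  let j : P ⟶ Y' ⊞ CochainComplex.mappingCone (𝟙 P) := biprod.lift g (CochainComplex.mappingCone.inr (𝟙 P))
  have hr : ∀ n, j.f n ≫ (biprod.snd : Y' ⊞ CochainComplex.mappingCone (𝟙 P) ⟶ _).f n ≫
      (CochainComplex.mappingCone.snd (𝟙 P)).v n n (add_zero n) = 𝟙 (P.X n) := fun n => by
    rw [← Category.assoc, ← HomologicalComplex.comp_f, biprod.lift_snd,
      CochainComplex.mappingCone.inr_f_snd_v]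
  have : Mono j := HomologicalComplex.mono_of_mono_f j fun n => (SplitMono.mk _ (hr n)).mono
  let T : ShortComplex (DRing.Cx A) := ShortComplex.mk j (cokernel.π j) (cokernel.condition j)
  have hT : T.ShortExact := KF.shortExact_cokernel j
  refine ⟨T, eX, asIso (DerivedCategory.Q.map (biprod.fst : Y' ⊞ CochainComplex.mappingCone (𝟙 P) ⟶ Y')) ≪≫
    (asIso (DerivedCategory.Q.map s)).symm ≪≫ eY, fun n => ⟨?_⟩, ?_⟩
  · have := (hT.map_of_exact (HomologicalComplex.eval (ModuleCat.{u} A) (ComplexShape.up ℤ) n)).epi_g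
    exact ShortComplex.Splitting.ofExactOfRetraction _
      (hT.map_of_exact (HomologicalComplex.eval (ModuleCat.{u} A) (ComplexShape.up ℤ) n)).exact _ (hr n) this
  · simp only [Iso.trans_hom, asIso_hom, Iso.symm_hom, asIso_inv]
    rw [← Functor.map_comp_assoc, show T.f ≫ biprod.fst = g from biprod.lift_fst _ _, ← reassoc_of% hf,
      Iso.inv_hom_id, Category.comp_id]

/-- A pseudo-coherent object is approximated by perfect ones. -/
theorem exists_approx {K : Dual.D A} (hK : DRing.IsPseudoCoherent' A K) (m : ℤ) :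
    ∃ (T : ShortComplex (DRing.Cx A)) (b : ℤ), Nonempty (DerivedCategory.Q.obj T.X₂ ≅ K) ∧ DegSplit T ∧
      DRing.IsPerfect A (DerivedCategory.Q.obj T.X₁) ∧ DRing.VanishesAbove T.X₂ b ∧
      DRing.TermwiseFiniteFree T.X₂ ∧ ∀ i, m ≤ i → IsZero (T.X₃.X i) := by
  obtain ⟨E, b, hb, hE, he⟩ := hK
  let ι := DerBC.sigmaι m E
  have : Mono ι := HomologicalComplex.mono_of_mono_f ι fun n => inferInstance
  let T : ShortComplex (DRing.Cx A) := ShortComplex.mk ι (cokernel.π ι) (cokernel.condition ι)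
  have hT : T.ShortExact := KF.shortExact_cokernel ι
  have hTi := fun i => hT.map_of_exact (HomologicalComplex.eval (ModuleCat.{u} A) (ComplexShape.up ℤ) i)
  refine ⟨T, b, he, fun i => ⟨?_⟩, ?_, hb, hE, fun i hi => ?_⟩
  · by_cases hi : m ≤ i
    · have hι : IsIso (ι.f i) := DerBC.isIso_sigmaι_f E hi
      let r := inv (ι.f i)
      have hr : ι.f i ≫ r = 𝟙 _ := IsIso.hom_inv_id (ι.f i)
      exact ShortComplex.Splitting.ofExactOfRetraction _ (hTi i).exact r hr
        (hTi i).epi_g
    · exact ShortComplex.Splitting.ofExactOfRetraction _ (hTi i).exact 0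
        ((DerBC.isZero_sigmaGE E (show i < m by omega)).eq_of_src _ _) (hTi i).epi_g
  · refine ⟨_, m, b, fun i hi => ?_, fun i => ?_, ⟨Iso.refl _⟩⟩
    · rcases hi with hi | hi
      · exact DerBC.isZero_sigmaGE E hi
      · exact DR.isZero_sigmaGE_of m i E (hb i hi)
    · by_cases hi : m ≤ i
      · have : IsIso (ι.f i) := DerBC.isIso_sigmaι_f (i := i) E hi
        have := (hE i).1
        have := DR.projective_of_finiteFree hE i
        let e : (DerBC.sigmaGE m E).X i ≃ₗ[A] E.X i := (asIso (ι.f i)).toLinearEquiv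
        exact ⟨Module.Finite.equiv e.symm, Module.Projective.of_equiv e.symm⟩
      · have := ModuleCat.subsingleton_of_isZero (DerBC.isZero_sigmaGE E (show i < m by omega))
        exact ⟨inferInstance, inferInstance⟩
  · have hι : IsIso (ι.f i) := DerBC.isIso_sigmaι_f E hi
    have : Epi (T.map (HomologicalComplex.eval (ModuleCat.{u} A) (ComplexShape.up ℤ) i)).f :=
      inferInstanceAs (Epi (ι.f i))
    have hg : (T.map (HomologicalComplex.eval (ModuleCat.{u} A) (ComplexShape.up ℤ) i)).g = 0 := by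
      rw [← cancel_epi (T.map (HomologicalComplex.eval (ModuleCat.{u} A) (ComplexShape.up ℤ) i)).f,
        ShortComplex.zero, comp_zero]
    have : Epi (T.map (HomologicalComplex.eval (ModuleCat.{u} A) (ComplexShape.up ℤ) i)).g := (hTi i).epi_g
    exact @IsZero.of_epi_eq_zero _ _ _ _ _ (T.map (HomologicalComplex.eval (ModuleCat.{u} A) (ComplexShape.up ℤ) i)).g (hTi i).epi_g hg

end GrothLib.DT
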