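import Groth.Agent.Lib.DTen.Multi
import Groth.Agent.Lib.DCxKFlat.Derived
import Groth.Agent.Lib.DCxRHom.HomHtpy
import Groth.Prelude.Def_DTen3

/-! # The derived tensor product on K-flat complexes

`DTen.ε` is invertible when one of the two complexes is K-flat, the derived bifunctor and the derived
triple product exist, and the structure maps `symm`, `unitL`, `unitR`, `assocL`, `assocR` are invertible.
-/

set_option autoImplicit false
set_option maxHeartbeats 800000
universe u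

open CategoryTheory CategoryTheory.Limits MonoidalCategory HomologicalComplex

attribute [local instance] HasDerivedCategory.standard

namespace GrothLib.DT

variable {A : Type u} [CommRing A]

theorem isKFlat_iff (K : DRing.Cx A) : DRing.IsKFlat A K ↔ KF.IsKFlat K := Iff.rfl

theorem isKFlat_tensor {K L : DRing.Cx A} (hK : KF.IsKFlat K) (hL : KF.IsKFlat L) : KF.IsKFlat (K ⊗ L) :=
  RH.isKFlat_tens hK hL

theorem isKFlat_unit : KF.IsKFlat (𝟙_ (DRing.Cx A)) := fun L hL i =>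
  IsZero.of_iso (hL i) ((homologyFunctor _ _ i).mapIso (ρ_ L))

theorem exists_res (K : DRing.Cx A) :
    ∃ (P : DRing.Cx A) (q : P ⟶ K), KF.IsKFlat P ∧ QuasiIso q := by
  obtain ⟨P, q, hP, -, hq, -⟩ := KF.exists_kflat_resolution K
  exact ⟨P, q, hP, hq⟩

theorem quasiIso_whiskerRight {P Q : DRing.Cx A} (f : P ⟶ Q) [QuasiIso f] (hP : KF.IsKFlat P)
    (hQ : KF.IsKFlat Q) (E : DRing.Cx A) : QuasiIso (f ▷ E) :=
  (quasiIso_iff_of_arrow_mk_iso _ _ (Arrow.isoMk ((KF.tensorFlipIso E).app P)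
    ((KF.tensorFlipIso E).app Q) ((KF.tensorFlipIso E).hom.naturality f).symm)).2 (KF.quasiIso_tensor_map f hP hQ E)

theorem quasiIso_whiskerRight_of_isKFlat {P Q : DRing.Cx A} (f : P ⟶ Q) [QuasiIso f] {E : DRing.Cx A}
    (hE : KF.IsKFlat E) : QuasiIso (f ▷ E) :=
  KF.quasiIso_map_of_isKFlat f E hE

theorem quasiIso_whiskerLeft_of_isKFlat {P Q : DRing.Cx A} (f : P ⟶ Q) [QuasiIso f] {E : DRing.Cx A}
    (hE : KF.IsKFlat E) : QuasiIso (E ◁ f) :=
  KF.quasiIso_tensor_map_of_isKFlat f E hE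

theorem quasiIso_tensorHom {K K' L L' : DRing.Cx A} (f : K ⟶ K') (g : L ⟶ L') [QuasiIso f] [QuasiIso g]
    (hK : KF.IsKFlat K) (hK' : KF.IsKFlat K') : QuasiIso (f ▷ L ≫ K' ◁ g) :=
  have := quasiIso_whiskerRight f hK hK' L
  have := quasiIso_whiskerLeft_of_isKFlat g hK'
  inferInstance

theorem isIso_Q_map {K L : DRing.Cx A} (f : K ⟶ L) [QuasiIso f] : IsIso (DerivedCategory.Q.map f) :=
  inferInstance

/-- `D(A)` maps are invertible in a pair as soon as both components are. -/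
theorem isIso_mkHom {C D : Type*} [Category C] [Category D] {X Y : C} {X' Y' : D} (f : X ⟶ Y) (g : X' ⟶ Y')
    [IsIso f] [IsIso g] : IsIso (Prod.mkHom f g) :=
  ((isIso_prod_iff C D).2 ⟨inferInstanceAs (IsIso f), inferInstanceAs (IsIso g)⟩)

theorem exists_Q_iso (K : Dual.D A) :
    ∃ P : DRing.Cx A, KF.IsKFlat P ∧ Nonempty (DerivedCategory.Q.obj P ≅ K) := by
  obtain ⟨P, q, hP, hq⟩ := exists_res (DerivedCategory.Q.objPreimage K)
  exact ⟨P, hP, ⟨asIso (DerivedCategory.Q.map q) ≪≫ DerivedCategory.Q.objObjPreimageIso K⟩⟩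

section Two

/-- The tensor product descends to the homotopy category, in both variables. -/
theorem tensor₂_map_eq {X Y : DRing.Cx A × DRing.Cx A} (f g : X ⟶ Y)
    (h₁ : (HomotopyCategory.quotient _ (ComplexShape.up ℤ)).map f.1 = (HomotopyCategory.quotient _ _).map g.1)
    (h₂ : (HomotopyCategory.quotient _ (ComplexShape.up ℤ)).map f.2 = (HomotopyCategory.quotient _ _).map g.2) :
    (DTen.tensor₂ A).map f = (DTen.tensor₂ A).map g :=
  by
    have e₁ : DerivedCategory.Q.map (f.1 ▷ X.2) = DerivedCategory.Q.map (g.1 ▷ X.2) :=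
      DerivedCategory.Q_map_eq_of_homotopy _ (mapBifunctorMapHomotopy₁ (HomotopyCategory.homotopyOfEq f.1 g.1 h₁)
        (𝟙 X.2) (curriedTensor (ModuleCat.{u} A)) (ComplexShape.up ℤ))
    have e₂ : DerivedCategory.Q.map (Y.1 ◁ f.2) = DerivedCategory.Q.map (Y.1 ◁ g.2) :=
      DerivedCategory.Q_map_eq_of_homotopy _ (mapBifunctorMapHomotopy₂ (𝟙 Y.1)
        (HomotopyCategory.homotopyOfEq f.2 g.2 h₂) (curriedTensor (ModuleCat.{u} A)) (ComplexShape.up ℤ))
    exact (DerivedCategory.Q.map_comp _ _).trans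
      ((congrArg₂ (· ≫ ·) e₁ e₂).trans (DerivedCategory.Q.map_comp _ _).symm)

variable (A)

/-- The quotient functor on pairs. -/
noncomputable abbrev quot₂ : DRing.Cx A × DRing.Cx A ⥤
    HomotopyCategory (ModuleCat.{u} A) (ComplexShape.up ℤ) × HomotopyCategory (ModuleCat.{u} A) (ComplexShape.up ℤ) :=
  (HomotopyCategory.quotient _ _).prod (HomotopyCategory.quotient _ _)

/-- A descent of a functor along a full, essentially surjective functor bijective on objects. -/
noncomputable def tensorK :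
    HomotopyCategory (ModuleCat.{u} A) (ComplexShape.up ℤ) × HomotopyCategory (ModuleCat.{u} A) (ComplexShape.up ℤ) ⥤
      Dual.D A where
  obj X := (DTen.tensor₂ A).obj (X.1.as, X.2.as)
  map {X Y} f := (DTen.tensor₂ A).map (X := (X.1.as, X.2.as)) (Y := (Y.1.as, Y.2.as))
    ((quot₂ A).preimage (X := (X.1.as, X.2.as)) (Y := (Y.1.as, Y.2.as)) f)
  map_id X := by
    rw [← (DTen.tensor₂ A).map_id]
    refine tensor₂_map_eq _ _ ?_ ?_
    · exact (congrArg Prod.fst ((quot₂ A).map_preimage (X := (X.1.as, X.2.as)) (Y := (X.1.as, X.2.as)) (𝟙 X))).trans ((HomotopyCategory.quotient _ _).map_id _).symm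
    · exact (congrArg Prod.snd ((quot₂ A).map_preimage (X := (X.1.as, X.2.as)) (Y := (X.1.as, X.2.as)) (𝟙 X))).trans ((HomotopyCategory.quotient _ _).map_id _).symm
  map_comp {X Y Z} f g := by
    rw [← (DTen.tensor₂ A).map_comp]
    have h := ((quot₂ A).map_preimage (X := (X.1.as, X.2.as)) (Y := (Z.1.as, Z.2.as)) (f ≫ g)).trans (((quot₂ A).map_comp _ _).trans
      (congrArg₂ (· ≫ ·) ((quot₂ A).map_preimage (X := (X.1.as, X.2.as)) (Y := (Y.1.as, Y.2.as)) f) ((quot₂ A).map_preimage (X := (Y.1.as, Y.2.as)) (Y := (Z.1.as, Z.2.as)) g))).symm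
    exact tensor₂_map_eq _ _ (congrArg Prod.fst h) (congrArg Prod.snd h)

/-- It restricts to the tensor product. -/
noncomputable def tensorKIso : quot₂ A ⋙ tensorK A ≅ DTen.tensor₂ A :=
  NatIso.ofComponents (fun _ => Iso.refl _) fun f => (Category.comp_id _).trans
    ((tensor₂_map_eq _ f (congrArg Prod.fst ((quot₂ A).map_preimage ((quot₂ A).map f)))
      (congrArg Prod.snd ((quot₂ A).map_preimage ((quot₂ A).map f)))).trans (Category.id_comp _).symm)

/-- Quasi-isomorphisms in the homotopy category. -/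
abbrev qK : MorphismProperty (HomotopyCategory (ModuleCat.{u} A) (ComplexShape.up ℤ)) :=
  HomotopyCategory.quasiIso (ModuleCat.{u} A) (ComplexShape.up ℤ)

variable {A} in
theorem qK_of_eq {U V : HomotopyCategory (ModuleCat.{u} A) (ComplexShape.up ℤ)} {a b : U ⟶ V} (e : a = b)
    (h : qK A b) : qK A a :=
  e.symm ▸ h

theorem leftResolvable₂ :
    Derive.LeftResolvable ((qK A).prod (qK A)) (fun X => KF.IsKFlat X.1.as) (tensorK A) where
  exists_res X := by
    obtain ⟨P, q, hP, hq⟩ := exists_res X.1.as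
    exact ⟨((HomotopyCategory.quotient _ _).obj P, X.2),
      Prod.mkHom ((HomotopyCategory.quotient _ _).map q) (𝟙 _), hP,
      (HomotopyCategory.quotient_map_mem_quasiIso_iff q).2 hq,
      MorphismProperty.id_mem _ _⟩
  inverts X Y s hX hY hs := by
    let f := (quot₂ A).preimage (X := (X.1.as, X.2.as)) (Y := (Y.1.as, Y.2.as)) s
    have hf := (quot₂ A).map_preimage (X := (X.1.as, X.2.as)) (Y := (Y.1.as, Y.2.as)) s
    have : QuasiIso f.1 := (HomotopyCategory.quotient_map_mem_quasiIso_iff f.1).1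
      (qK_of_eq (congrArg Prod.fst hf) hs.1)
    have : QuasiIso f.2 := (HomotopyCategory.quotient_map_mem_quasiIso_iff f.2).1
      (qK_of_eq (congrArg Prod.snd hf) hs.2)
    have := quasiIso_tensorHom f.1 f.2 hX hY
    exact inferInstanceAs (IsIso (DerivedCategory.Q.map (f.1 ▷ X.2.as ≫ Y.1.as ◁ f.2)))

/-- `Qh × Qh`. -/
noncomputable abbrev QhQh :
    HomotopyCategory (ModuleCat.{u} A) (ComplexShape.up ℤ) × HomotopyCategory (ModuleCat.{u} A) (ComplexShape.up ℤ) ⥤
      Dual.D A × Dual.D A :=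
  DerivedCategory.Qh.prod DerivedCategory.Qh

/-- `Q × Q` factors through the homotopy category. -/
noncomputable def quotQQIso : quot₂ A ⋙ QhQh A ≅ DTen.QQ A :=
  NatIso.prod (DerivedCategory.quotientCompQhIso (ModuleCat.{u} A))
    (DerivedCategory.quotientCompQhIso (ModuleCat.{u} A))

theorem hasLTen : DTen.HasLTen A :=
  hasLeftDerivedFunctor_precomp (quot₂ A) (quotQQIso A) (tensorKIso A) (leftResolvable₂ A) (DTen.qis₂ A)

variable {A}

/-- The counit is invertible when the first complex is K-flat. -/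
theorem isIso_ε_left [DTen.HasLTen A] {K : DRing.Cx A} (hK : KF.IsKFlat K) (L : DRing.Cx A) :
    IsIso ((DTen.ε A).app (K, L)) :=
  isIso_app_precomp (quot₂ A) (quotQQIso A) (tensorKIso A) (leftResolvable₂ A) (DTen.qis₂ A)
    (DTen.LTen₂ A) (DTen.ε A) (X := (K, L)) hK

/-- The counit is invertible when the second complex is K-flat. -/
theorem isIso_ε_right [DTen.HasLTen A] (K : DRing.Cx A) {L : DRing.Cx A} (hL : KF.IsKFlat L) :
    IsIso ((DTen.ε A).app (K, L)) := by
  obtain ⟨P, q, hP, hq⟩ := exists_res K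
  have h1 := isIso_ε_left hP L
  have hw : QuasiIso (q ▷ L) := quasiIso_whiskerRight_of_isKFlat q hL
  have hn := (DTen.ε A).naturality (Prod.mkHom q (𝟙 L))
  dsimp at hn
  rw [MonoidalCategory.whiskerLeft_id, Category.comp_id, CategoryTheory.Functor.map_id] at hn
  have hi : IsIso ((DTen.LTen₂ A).map (Prod.mkHom (DerivedCategory.Q.map q) (𝟙 (DerivedCategory.Q.obj L)))) :=
    have := isIso_mkHom (DerivedCategory.Q.map q) (𝟙 (DerivedCategory.Q.obj L))
    inferInstance
  have h2 : IsIso ((DTen.LTen₂ A).map (Prod.mkHom (DerivedCategory.Q.map q) (𝟙 (DerivedCategory.Q.obj L))) ≫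
      (DTen.ε A).app (K, L)) := by rw [hn]; infer_instance
  exact IsIso.of_isIso_comp_left
    ((DTen.LTen₂ A).map (Prod.mkHom (DerivedCategory.Q.map q) (𝟙 (DerivedCategory.Q.obj L)))) _

variable (A)

theorem kFlatComputes [DTen.HasLTen A] : DTen.KFlatComputes A :=
  ⟨fun K L h => h.elim (fun hK => isIso_ε_left hK L) (fun hL => isIso_ε_right K hL)⟩

theorem isIso_symm_app [DTen.HasLTen A] (K L : Dual.D A) : IsIso ((DTen.symm A).app (K, L)) := by
  obtain ⟨P, hP, ⟨e⟩⟩ := exists_Q_iso K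
  obtain ⟨P', hP', ⟨e'⟩⟩ := exists_Q_iso L
  refine ((MorphismProperty.isomorphisms (Dual.D A)).arrow_mk_iso_iff
    (Arrow.isoMk (((CategoryTheory.Prod.swap _ _) ⋙ DTen.LTen₂ A).mapIso (Iso.prod e e'))
      ((DTen.LTen₂ A).mapIso (Iso.prod e e')) ((DTen.symm A).naturality _))).1 ?_
  have := isIso_ε_left hP P'
  have := isIso_ε_left hP' P
  have h : IsIso ((DTen.symm A).app (DerivedCategory.Q.obj P, DerivedCategory.Q.obj P') ≫ (DTen.ε A).app (P, P')) := by
    rw [DTen.symm_fac]; infer_instance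
  exact IsIso.of_isIso_comp_right _ ((DTen.ε A).app (P, P'))

theorem isIso_symm [DTen.HasLTen A] : IsIso (DTen.symm A) :=
  have : ∀ X : Dual.D A × Dual.D A, IsIso ((DTen.symm A).app X) := fun X => isIso_symm_app A X.1 X.2
  NatIso.isIso_of_isIso_app _

theorem isIso_unitR [DTen.HasLTen A] : IsIso (DTen.unitR A) :=
  have : ∀ K : Dual.D A, IsIso ((DTen.unitR A).app K) := fun K => by
    obtain ⟨P, hP, ⟨e⟩⟩ := exists_Q_iso K
    refine ((MorphismProperty.isomorphisms (Dual.D A)).arrow_mk_iso_iff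
      (Arrow.isoMk (((DTen.LTen A).flip.obj (DTen.unit A)).mapIso e) ((𝟭 _).mapIso e)
        ((DTen.unitR A).naturality _))).1 ?_
    change IsIso ((DTen.unitR A).app (DerivedCategory.Q.obj P))
    rw [DTen.unitR_app]
    have := isIso_ε_left hP (𝟙_ (DRing.Cx A))
    infer_instance
  NatIso.isIso_of_isIso_app _

theorem isIso_unitL [DTen.HasLTen A] : IsIso (DTen.unitL A) :=
  have : ∀ K : Dual.D A, IsIso ((DTen.unitL A).app K) := fun K => by
    obtain ⟨P, hP, ⟨e⟩⟩ := exists_Q_iso K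
    refine ((MorphismProperty.isomorphisms (Dual.D A)).arrow_mk_iso_iff
      (Arrow.isoMk (((DTen.LTen A).obj (DTen.unit A)).mapIso e) ((𝟭 _).mapIso e)
        ((DTen.unitL A).naturality _))).1 ?_
    change IsIso ((DTen.unitL A).app (DerivedCategory.Q.obj P))
    rw [DTen.unitL_app]
    have := isIso_ε_left (isKFlat_unit (A := A)) P
    infer_instance
  NatIso.isIso_of_isIso_app _

end Two

section Three

variable (A)

/-- The quotient functor on triples. -/
noncomputable abbrev quot₃ : DRing.Cx A × (DRing.Cx A × DRing.Cx A) ⥤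
    HomotopyCategory (ModuleCat.{u} A) (ComplexShape.up ℤ) ×
      (HomotopyCategory (ModuleCat.{u} A) (ComplexShape.up ℤ) × HomotopyCategory (ModuleCat.{u} A) (ComplexShape.up ℤ)) :=
  (HomotopyCategory.quotient _ _).prod (quot₂ A)

variable {A} in
theorem tensor₃_map_eq {X Y : DRing.Cx A × (DRing.Cx A × DRing.Cx A)} (f g : X ⟶ Y)
    (h : (quot₃ A).map f = (quot₃ A).map g) : (DTen.tensor₃ A).map f = (DTen.tensor₃ A).map g := by
  have h2 := congrArg Prod.snd h
  have hb : (HomotopyCategory.quotient _ (ComplexShape.up ℤ)).map (f.2.1 ▷ X.2.2 ≫ Y.2.1 ◁ f.2.2) =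
      (HomotopyCategory.quotient _ _).map (g.2.1 ▷ X.2.2 ≫ Y.2.1 ◁ g.2.2) := by
    rw [Functor.map_comp, Functor.map_comp]
    exact congrArg₂ (· ≫ ·)
      (HomotopyCategory.eq_of_homotopy _ _ (mapBifunctorMapHomotopy₁ (HomotopyCategory.homotopyOfEq f.2.1 g.2.1
        (congrArg Prod.fst h2)) (𝟙 X.2.2) (curriedTensor (ModuleCat.{u} A)) (ComplexShape.up ℤ)))
      (HomotopyCategory.eq_of_homotopy _ _ (mapBifunctorMapHomotopy₂ (𝟙 Y.2.1) (HomotopyCategory.homotopyOfEq f.2.2 g.2.2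
        (congrArg Prod.snd h2)) (curriedTensor (ModuleCat.{u} A)) (ComplexShape.up ℤ)))
  exact tensor₂_map_eq ((((𝟭 (DRing.Cx A)).prod (DTen.tensorT A))).map f)
    ((((𝟭 (DRing.Cx A)).prod (DTen.tensorT A))).map g) (congrArg Prod.fst h) hb

/-- The triple tensor product on the homotopy category. -/
noncomputable def tensorK₃ :
    HomotopyCategory (ModuleCat.{u} A) (ComplexShape.up ℤ) ×
      (HomotopyCategory (ModuleCat.{u} A) (ComplexShape.up ℤ) × HomotopyCategory (ModuleCat.{u} A) (ComplexShape.up ℤ)) ⥤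
      Dual.D A where
  obj X := (DTen.tensor₃ A).obj (X.1.as, (X.2.1.as, X.2.2.as))
  map {X Y} f := (DTen.tensor₃ A).map
    ((quot₃ A).preimage (X := (X.1.as, (X.2.1.as, X.2.2.as))) (Y := (Y.1.as, (Y.2.1.as, Y.2.2.as))) f)
  map_id X := by
    rw [← (DTen.tensor₃ A).map_id]
    exact tensor₃_map_eq _ _
      (((quot₃ A).map_preimage (X := (X.1.as, (X.2.1.as, X.2.2.as))) (Y := (X.1.as, (X.2.1.as, X.2.2.as))) (𝟙 X)).trans
        ((quot₃ A).map_id (X.1.as, (X.2.1.as, X.2.2.as))).symm)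
  map_comp {X Y Z} f g := by
    rw [← (DTen.tensor₃ A).map_comp]
    exact tensor₃_map_eq _ _
      (((quot₃ A).map_preimage (X := (X.1.as, (X.2.1.as, X.2.2.as))) (Y := (Z.1.as, (Z.2.1.as, Z.2.2.as))) (f ≫ g)).trans
        (((quot₃ A).map_comp _ _).trans (congrArg₂ (· ≫ ·)
          ((quot₃ A).map_preimage (X := (X.1.as, (X.2.1.as, X.2.2.as))) (Y := (Y.1.as, (Y.2.1.as, Y.2.2.as))) f)
          ((quot₃ A).map_preimage (X := (Y.1.as, (Y.2.1.as, Y.2.2.as))) (Y := (Z.1.as, (Z.2.1.as, Z.2.2.as))) g))).symm)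

/-- It restricts to the triple tensor product. -/
noncomputable def tensorK₃Iso : quot₃ A ⋙ tensorK₃ A ≅ DTen.tensor₃ A :=
  NatIso.ofComponents (fun _ => Iso.refl _) fun f => (Category.comp_id _).trans
    ((tensor₃_map_eq _ f ((quot₃ A).map_preimage ((quot₃ A).map f))).trans (Category.id_comp _).symm)

theorem leftResolvable₃ :
    Derive.LeftResolvable ((qK A).prod ((qK A).prod (qK A)))
      (fun X => KF.IsKFlat X.1.as ∧ KF.IsKFlat X.2.1.as) (tensorK₃ A) where
  exists_res X := by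
    obtain ⟨P, q, hP, hq⟩ := exists_res X.1.as
    obtain ⟨P', q', hP', hq'⟩ := exists_res X.2.1.as
    exact ⟨((HomotopyCategory.quotient _ _).obj P, ((HomotopyCategory.quotient _ _).obj P', X.2.2)),
      Prod.mkHom ((HomotopyCategory.quotient _ _).map q)
        (Prod.mkHom ((HomotopyCategory.quotient _ _).map q') (𝟙 _)), ⟨hP, hP'⟩,
      (HomotopyCategory.quotient_map_mem_quasiIso_iff q).2 hq,
      (HomotopyCategory.quotient_map_mem_quasiIso_iff q').2 hq',
      MorphismProperty.id_mem _ _⟩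
  inverts X Y s hX hY hs := by
    let f := (quot₃ A).preimage (X := (X.1.as, (X.2.1.as, X.2.2.as))) (Y := (Y.1.as, (Y.2.1.as, Y.2.2.as))) s
    have hf := (quot₃ A).map_preimage (X := (X.1.as, (X.2.1.as, X.2.2.as))) (Y := (Y.1.as, (Y.2.1.as, Y.2.2.as))) s
    have : QuasiIso f.1 := (HomotopyCategory.quotient_map_mem_quasiIso_iff f.1).1
      (qK_of_eq (congrArg Prod.fst hf) hs.1)
    have : QuasiIso f.2.1 := (HomotopyCategory.quotient_map_mem_quasiIso_iff f.2.1).1
      (qK_of_eq (congrArg (fun t => t.2.1) hf) hs.2.1)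
    have : QuasiIso f.2.2 := (HomotopyCategory.quotient_map_mem_quasiIso_iff f.2.2).1
      (qK_of_eq (congrArg (fun t => t.2.2) hf) hs.2.2)
    have := quasiIso_tensorHom f.2.1 f.2.2 hX.2 hY.2
    have := quasiIso_tensorHom f.1 (f.2.1 ▷ X.2.2.as ≫ Y.2.1.as ◁ f.2.2) hX.1 hY.1
    exact inferInstanceAs (IsIso (DerivedCategory.Q.map
      (f.1 ▷ (X.2.1.as ⊗ X.2.2.as) ≫ Y.1.as ◁ (f.2.1 ▷ X.2.2.as ≫ Y.2.1.as ◁ f.2.2))))

/-- `Q × (Q × Q)` factors through the homotopy category. -/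
noncomputable def quotQQQIso : quot₃ A ⋙ DerivedCategory.Qh.prod (QhQh A) ≅ DTen.QQQ A :=
  NatIso.prod (DerivedCategory.quotientCompQhIso (ModuleCat.{u} A)) (quotQQIso A)

theorem hasLTen₃ : DTen.HasLTen₃ A :=
  hasLeftDerivedFunctor_precomp (quot₃ A) (quotQQQIso A) (tensorK₃Iso A) (leftResolvable₃ A) (DTen.qis₃ A)

variable {A}

/-- The counit of the triple product is invertible when the first two complexes are K-flat. -/
theorem isIso_ε₃ [DTen.HasLTen₃ A] {K L : DRing.Cx A} (hK : KF.IsKFlat K) (hL : KF.IsKFlat L)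
    (M : DRing.Cx A) : IsIso ((DTen.ε₃ A).app (K, (L, M))) :=
  isIso_app_precomp (quot₃ A) (quotQQQIso A) (tensorK₃Iso A) (leftResolvable₃ A) (DTen.qis₃ A)
    (DTen.LTen₃ A) (DTen.ε₃ A) (X := (K, (L, M))) ⟨hK, hL⟩

variable (A)

theorem isIso_assocR_app [DTen.HasLTen A] [DTen.HasLTen₃ A] (a b c : Dual.D A) :
    IsIso ((DTen.assocR A).app (a, (b, c))) := by
  obtain ⟨K, hK, ⟨e⟩⟩ := exists_Q_iso a
  obtain ⟨L, hL, ⟨e'⟩⟩ := exists_Q_iso b
  obtain ⟨M, hM, ⟨e''⟩⟩ := exists_Q_iso c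
  refine ((MorphismProperty.isomorphisms (Dual.D A)).arrow_mk_iso_iff
    (Arrow.isoMk ((DTen.LTenR A).mapIso (Iso.prod e (Iso.prod e' e'')))
      ((DTen.LTen₃ A).mapIso (Iso.prod e (Iso.prod e' e''))) ((DTen.assocR A).naturality _))).1 ?_
  have hε := isIso_ε₃ hK hL M
  have h : IsIso ((DTen.assocR A).app ((DTen.QQQ A).obj (K, (L, M))) ≫ (DTen.ε₃ A).app (K, (L, M))) := by
    rw [DTen.assocR_fac]
    have := isIso_ε_left hL M
    have := isIso_ε_left hK (L ⊗ M)
    have := isIso_mkHom (𝟙 (DerivedCategory.Q.obj K)) ((DTen.ε A).app (L, M))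
    exact IsIso.comp_isIso' (inferInstanceAs (IsIso ((DTen.LTen₂ A).map (Prod.mkHom (𝟙 (DerivedCategory.Q.obj K)) ((DTen.ε A).app (L, M))))))
      (isIso_ε_left hK (L ⊗ M))
  exact @IsIso.of_isIso_comp_right _ _ _ _ _ _ ((DTen.ε₃ A).app (K, (L, M))) hε h

theorem isIso_assocL_app [DTen.HasLTen A] [DTen.HasLTen₃ A] (a b c : Dual.D A) :
    IsIso ((DTen.assocL A).app (a, (b, c))) := by
  obtain ⟨K, hK, ⟨e⟩⟩ := exists_Q_iso a
  obtain ⟨L, hL, ⟨e'⟩⟩ := exists_Q_iso b
  obtain ⟨M, hM, ⟨e''⟩⟩ := exists_Q_iso c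
  refine ((MorphismProperty.isomorphisms (Dual.D A)).arrow_mk_iso_iff
    (Arrow.isoMk ((DTen.LTenL A).mapIso (Iso.prod e (Iso.prod e' e'')))
      ((DTen.LTen₃ A).mapIso (Iso.prod e (Iso.prod e' e''))) ((DTen.assocL A).naturality _))).1 ?_
  have hε := isIso_ε₃ hK hL M
  have h : IsIso ((DTen.assocL A).app ((DTen.QQQ A).obj (K, (L, M))) ≫ (DTen.ε₃ A).app (K, (L, M))) := by
    rw [DTen.assocL_fac]
    have := isIso_ε_left hK L
    have := isIso_ε_left (isKFlat_tensor hK hL) M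
    have := isIso_mkHom ((DTen.ε A).app (K, L)) (𝟙 (DerivedCategory.Q.obj M))
    exact IsIso.comp_isIso' (inferInstanceAs (IsIso ((DTen.LTen₂ A).map (Prod.mkHom ((DTen.ε A).app (K, L)) (𝟙 (DerivedCategory.Q.obj M))))))
      (IsIso.comp_isIso' (isIso_ε_left (isKFlat_tensor hK hL) M) inferInstance)
  exact @IsIso.of_isIso_comp_right _ _ _ _ _ _ ((DTen.ε₃ A).app (K, (L, M))) hε h

theorem isSymMonoidal [DTen.HasLTen A] [DTen.HasLTen₃ A] : DTen.IsSymMonoidal A where
  isIso_symm := isIso_symm A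
  isIso_unitL := isIso_unitL A
  isIso_unitR := isIso_unitR A
  isIso_assocL :=
    have : ∀ X : Dual.D A × (Dual.D A × Dual.D A), IsIso ((DTen.assocL A).app X) :=
      fun X => isIso_assocL_app A X.1 X.2.1 X.2.2
    NatIso.isIso_of_isIso_app _
  isIso_assocR :=
    have : ∀ X : Dual.D A × (Dual.D A × Dual.D A), IsIso ((DTen.assocR A).app X) :=
      fun X => isIso_assocR_app A X.1 X.2.1 X.2.2
    NatIso.isIso_of_isIso_app _

end Three

end GrothLib.DT
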